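import Mathlib
import Cfsg.Agent.Lib.Helper40.GFStmt

/-!
# S5886 / Z1B: sub-pieces (helper8)

`F = F_2`, `L = F_4`, `V = L^2`, `c.M` contains every `L`-linear automorphism.  `h₁ ∈ c.M` is
normalized so that `h₁ v = v` and `h₁ (L v) ⊆ L v`.  Coordinates: `x = χ x • v + ψ x • v₂`
(`ψ v = 0`, `ψ v₂ = 1`, `χ v = 1`, `χ v₂ = 0`), and
`h₁ (a • v + b • v₂) = (A a + X b) • v + D b • v₂` with `F`-linear `A, D, X : L → L`.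

* CONJ1: `h₁⁻¹ * (x ↦ x + (a * ψ x) • v) * h₁ = E(A⁻¹ ∘ m_a ∘ D)`.
* ALGA: if all `A⁻¹ ∘ m_a ∘ D` are multiplications then `A` is multiplicative and `D = A ∘ m_κ`.
* CONJ2: then, for `δ_λ x = x + ((λ - 1) * ψ x) • v₂` (an `L`-linear dilation, in `c.M`),
  `h₁ * δ_λ * h₁⁻¹ * δ_(A λ)⁻¹ = E(X ∘ m_((λ-1)/κ) ∘ A⁻¹ ∘ m_((A λ)⁻¹))`.
* ALGX: if this is a multiplication (`λ ≠ 0, 1`) then `X = m_ξ ∘ A`.
* SEMI: then `h₁` is `A`-semilinear, hence line preserving: contradiction.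
-/

set_option autoImplicit false

namespace Cfsg.Agent.Lib.Helper8.GFZ1BStmt

open Cfsg.Agent.Lib.Helper40.GFStmt

universe u

/-- the normalized data -/
structure Dat {F L : Type u} [Field F] [Field L] [Algebra F L] (c : Ctx F L 2)
    (h : V 2 L ≃ₗ[F] V 2 L) (v v₂ : V 2 L) (ψ χ : V 2 L →ₗ[L] L) (A D X : L →ₗ[F] L) : Prop where
  hM : h ∈ c.M
  v0 : v ≠ 0
  psi_v : ψ v = 0
  psi_v2 : ψ v₂ = 1
  chi_v : χ v = 1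
  chi_v2 : χ v₂ = 0
  dec : ∀ x : V 2 L, x = χ x • v + ψ x • v₂
  act : ∀ a b : L, h (a • v + b • v₂) = (A a + X b) • v + D b • v₂
  A1 : A 1 = 1
  Ainj : Function.Injective A
  Dinj : Function.Injective D

/-- [NORM1] (from `GLTrans`) normalize: `g` `L`-linear with `g (h x₀) = x₀` (`GLTrans`),
`h₁ = g.restrictScalars F * h`, `v = x₀`.  `g.restrictScalars F ∈ c.M` by `c.hsub`: the norm of
`det g` is a nonzero element of `F`, and `Nat.card F = 2`.  If `h₁` were line preserving so would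
be `h = g⁻¹ ∘ h₁`. -/
def Norm1 : Prop :=
  ∀ (F L : Type u) [Field F] [Field L] [Algebra F L] [Finite L] (c : Ctx F L 2),
    Nat.card F = 2 → Module.finrank F L = 2 → ∀ h ∈ c.M, (¬ ∀ x, LineAt h x) →
    ∀ x₀ : V 2 L, x₀ ≠ 0 → LineAt h x₀ →
      ∃ h₁ ∈ c.M, ∃ v : V 2 L, v ≠ 0 ∧ (¬ ∀ x, LineAt h₁ x) ∧ h₁ v = v ∧
        ∀ a : L, ∃ a' : L, h₁ (a • v) = a' • v

/-- [NORM2] the coordinates.  `ψ x = x 0 * v 1 - x 1 * v 0` (kernel `L v`), `v₂ = (ψ y)⁻¹ • y`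
for some `y` with `ψ y ≠ 0`, `η` with `η v = 1`, `χ = η - η v₂ • ψ`; `x - ψ x • v₂ ∈ ker ψ = L v`
gives `dec`.  `A a` = the `a'` with `h₁ (a • v) = a' • v`, i.e. `A = χ ∘ h₁ ∘ (· • v)`,
`X = χ ∘ h₁ ∘ (· • v₂)`, `D = ψ ∘ h₁ ∘ (· • v₂)` (compositions of `F`-linear maps).  `A` injective
(`h₁` injective, `v ≠ 0`), so bijective (`L` finite), so `h₁ (L v) = L v`; `D b = 0` gives
`h₁ (b • v₂) ∈ L v = h₁ (L v)`, `b • v₂ ∈ L v`, `b = ψ (b • v₂) = 0`. -/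
def Norm2 : Prop :=
  ∀ (F L : Type u) [Field F] [Field L] [Algebra F L] [Finite L] (c : Ctx F L 2),
    ∀ h₁ ∈ c.M, ∀ v : V 2 L, v ≠ 0 → h₁ v = v → (∀ a : L, ∃ a' : L, h₁ (a • v) = a' • v) →
      ∃ (v₂ : V 2 L) (ψ χ : V 2 L →ₗ[L] L) (A D X : L →ₗ[F] L), Dat c h₁ v v₂ ψ χ A D X

/-- [CONJ1] `e` from `inSig_mulLeft c v ψ psi_v a` (`e x = x + (a * ψ x) • v`); `T = h⁻¹ * e * h`:
`ψ (h x) = D (ψ x)` (`dec`, `act`), `h (A' s • v) = s • v` (`act` with `b = 0`; `A (A' s) = s`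
since `A' ∘ A = id` and `L` is finite), so `T x = x + A' (a * D (ψ x)) • v`. -/
def Conj1 : Prop :=
  ∀ (F L : Type u) [Field F] [Field L] [Algebra F L] [Finite L] (c : Ctx F L 2)
    (h : V 2 L ≃ₗ[F] V 2 L) (v v₂ : V 2 L) (ψ χ : V 2 L →ₗ[L] L) (A D X : L →ₗ[F] L),
    Dat c h v v₂ ψ χ A D X → ∀ A' : L →ₗ[F] L, (∀ t, A' (A t) = t) →
    ∀ a : L, InSig c v ψ (A' ∘ₗ LinearMap.mulLeft F a ∘ₗ D)

/-- [ALGA] `a = 1`: `A' (D t) = κ t`, so `D t = A (κ t)` (`A ∘ A' = id`), `κ ≠ 0` (`D`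
injective).  General `a`: `A' (a * A (κ t)) = c' t`; `t = κ⁻¹`: `c' = κ * A' a`; so
`a * A s = A (A' a * s)`; with `a = A a₁`: `A a₁ * A s = A (a₁ * s)`. -/
def AlgA : Prop :=
  ∀ (F L : Type u) [Field F] [Field L] [Algebra F L] [Finite L] (A A' D : L →ₗ[F] L),
    A 1 = 1 → (∀ t, A' (A t) = t) → Function.Injective D →
    (∀ a : L, ∃ c' : L, A' ∘ₗ LinearMap.mulLeft F a ∘ₗ D = LinearMap.mulLeft F c') →
    (∀ a b : L, A (a * b) = A a * A b) ∧ ∃ κ : L, κ ≠ 0 ∧ ∀ t, D t = A (κ * t)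

/-- [CONJ2] `μ = A lam ≠ 0`.  `δ_λ = dilatransvection` for `((lam - 1) • ψ, v₂)`
(`1 + (lam - 1) * ψ v₂ = lam`), in `c.M` by `mem_dil` (the norm of `lam ≠ 0` is a nonzero element
of `F`, `Nat.card F = 2`); same for `μ`.  `δ_λ (a • v + b • v₂) = a • v + (lam * b) • v₂`.
`U = h * δ_λ * h⁻¹ * δ_μ⁻¹`: for `x = a • v + b • v₂`: `δ_μ⁻¹ x = a • v + (μ⁻¹ * b) • v₂`;
`h⁻¹` of it is `a₁ • v + b₁ • v₂` with `b₁ = κ⁻¹ * A' (μ⁻¹ * b)`, `a₁ = A' (a - X b₁)`;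
`U x = (a - X b₁ + X (lam * b₁)) • v + A (κ * lam * b₁) • v₂ = x + X ((lam - 1) * b₁) • v`
(`A (lam * A' s) = μ * s`). -/
def Conj2 : Prop :=
  ∀ (F L : Type u) [Field F] [Field L] [Algebra F L] [Finite L] (c : Ctx F L 2),
    Nat.card F = 2 →
    ∀ (h : V 2 L ≃ₗ[F] V 2 L) (v v₂ : V 2 L) (ψ χ : V 2 L →ₗ[L] L) (A D X : L →ₗ[F] L),
    Dat c h v v₂ ψ χ A D X → ∀ (A' : L →ₗ[F] L) (κ lam : L), (∀ t, A' (A t) = t) →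
    (∀ a b : L, A (a * b) = A a * A b) → κ ≠ 0 → (∀ t, D t = A (κ * t)) → lam ≠ 0 →
    InSig c v ψ (X ∘ₗ LinearMap.mulLeft F ((lam - 1) / κ) ∘ₗ A' ∘ₗ
      LinearMap.mulLeft F (A lam)⁻¹)

/-- [ALGX] evaluate at `s = A lam * A (κ * t / (lam - 1))`:
`X t = c₃ * A lam * A (κ / (lam - 1)) * A t`. -/
def AlgX : Prop :=
  ∀ (F L : Type u) [Field F] [Field L] [Algebra F L] [Finite L] (A A' X : L →ₗ[F] L)
    (κ lam c₃ : L), A 1 = 1 → (∀ t, A' (A t) = t) → (∀ a b : L, A (a * b) = A a * A b) →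
    κ ≠ 0 → lam ≠ 0 → lam ≠ 1 →
    X ∘ₗ LinearMap.mulLeft F ((lam - 1) / κ) ∘ₗ A' ∘ₗ LinearMap.mulLeft F (A lam)⁻¹
      = LinearMap.mulLeft F c₃ →
    ∃ ξ : L, ∀ t, X t = ξ * A t

/-- [SEMI] `h (a • v + b • v₂) = A a • v + A b • (ξ • v + A κ • v₂)`, so
`h (c₀ • x) = A c₀ • h x` (`dec`). -/
def Semi : Prop :=
  ∀ (F L : Type u) [Field F] [Field L] [Algebra F L] [Finite L] (c : Ctx F L 2)
    (h : V 2 L ≃ₗ[F] V 2 L) (v v₂ : V 2 L) (ψ χ : V 2 L →ₗ[L] L) (A D X : L →ₗ[F] L),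
    Dat c h v v₂ ψ χ A D X → ∀ κ ξ : L, (∀ a b : L, A (a * b) = A a * A b) →
    (∀ t, D t = A (κ * t)) → (∀ t, X t = ξ * A t) → ∀ x, LineAt h x

end Cfsg.Agent.Lib.Helper8.GFZ1BStmt
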