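import Mathlib
import Cfsg.Prelude.Def_Sporadic_a

/-!
Counting in Steiner systems `Cfsg.IsSteinerSystem t k B` on a fintype: the number of blocks
through a set of at most `t` points, and the moment identity
`(∑ b, C(|b ∩ S|, j)) * C(k - j, t - j) = C(|S|, j) * C(v - j, t - j)`.
-/

set_option autoImplicit false

namespace Cfsg.Agent.Lib.Helper8.Steiner

open Finset

variable {α : Type*} [Fintype α] [DecidableEq α]

/-- The blocks of a set system on a fintype, as a finset. -/
noncomputable def blocks (B : Set (Finset α)) : Finset (Finset α) :=
  haveI : DecidablePred (· ∈ B) := Classical.decPred _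
  Finset.univ.filter (· ∈ B)

omit [DecidableEq α] in
@[simp] theorem mem_blocks {B : Set (Finset α)} {b : Finset α} : b ∈ blocks B ↔ b ∈ B := by
  simp [blocks]

omit [DecidableEq α] in
theorem coe_blocks (B : Set (Finset α)) : (blocks B : Set (Finset α)) = B := by
  ext b; simp

omit [DecidableEq α] in
theorem ncard_eq (B : Set (Finset α)) : B.ncard = (blocks B).card := by
  conv_lhs => rw [← coe_blocks B]
  exact Set.ncard_coe_finset _

/-- Number of blocks through a set `J` of at most `t` points. -/
theorem card_through_mul {t k : ℕ} {B : Set (Finset α)} (hB : Cfsg.IsSteinerSystem t k B)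
    (J : Finset α) (hJ : J.card ≤ t) :
    ((blocks B).filter (fun b => J ⊆ b)).card * (k - J.card).choose (t - J.card)
      = (Fintype.card α - J.card).choose (t - J.card) := by
  classical
  let r : Finset α → Finset α → Prop := fun U b => J ∪ U ⊆ b
  have key := sum_card_bipartiteAbove_eq_sum_card_bipartiteBelow
    (s := powersetCard (t - J.card) Jᶜ) (t := blocks B) r
  have hL : ∀ U ∈ powersetCard (t - J.card) Jᶜ, #((blocks B).bipartiteAbove r U) = 1 := by
    intro U hU
    rw [mem_powersetCard] at hU
    have hdisj : Disjoint J U := by
      rw [Finset.disjoint_left]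
      intro x hx hxU
      have := hU.1 hxU
      rw [mem_compl] at this
      exact this hx
    have hcard : (J ∪ U).card = t := by
      rw [card_union_of_disjoint hdisj, hU.2]; omega
    obtain ⟨b, ⟨hbB, hsub⟩, huniq⟩ := hB.2 (J ∪ U) hcard
    rw [card_eq_one]
    refine ⟨b, ?_⟩
    ext c
    simp only [mem_bipartiteAbove, mem_blocks, mem_singleton]
    constructor
    · rintro ⟨hc, hr⟩; exact huniq c ⟨hc, hr⟩
    · rintro rfl; exact ⟨hbB, hsub⟩
  have hR : ∀ b ∈ blocks B, #((powersetCard (t - J.card) Jᶜ).bipartiteBelow r b)
      = if J ⊆ b then (k - J.card).choose (t - J.card) else 0 := by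
    intro b hb
    rw [mem_blocks] at hb
    split_ifs with hJb
    · have : (powersetCard (t - J.card) Jᶜ).bipartiteBelow r b
          = powersetCard (t - J.card) (b \ J) := by
        ext U
        simp only [mem_bipartiteBelow, mem_powersetCard, r]
        constructor
        · rintro ⟨⟨hU1, hU2⟩, hsub⟩
          refine ⟨?_, hU2⟩
          intro x hx
          rw [mem_sdiff]
          exact ⟨hsub (mem_union_right _ hx), by have := hU1 hx; simpa using this⟩
        · rintro ⟨hU1, hU2⟩
          refine ⟨⟨?_, hU2⟩, ?_⟩
          · intro x hx
            have := hU1 hx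
            rw [mem_sdiff] at this
            simpa using this.2
          · exact union_subset hJb (fun x hx => (mem_sdiff.mp (hU1 hx)).1)
      rw [this, card_powersetCard, card_sdiff_of_subset hJb, hB.1 b hb]
    · rw [card_eq_zero]
      ext U
      simp only [mem_bipartiteBelow, mem_powersetCard, r, notMem_empty, iff_false, not_and]
      intro _ hsub
      exact hJb (subset_union_left.trans hsub)
  rw [sum_congr rfl hL, sum_congr rfl hR] at key
  rw [sum_const, smul_eq_mul, mul_one, card_powersetCard, card_compl, sum_ite, sum_const,
    sum_const_zero, add_zero, smul_eq_mul] at key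
  exact key.symm

/-- Moment identity: for any finset `S` and `j ≤ t`. -/
theorem moment {t k : ℕ} {B : Set (Finset α)} (hB : Cfsg.IsSteinerSystem t k B)
    (S : Finset α) (j : ℕ) (hj : j ≤ t) :
    (∑ b ∈ blocks B, (b ∩ S).card.choose j) * (k - j).choose (t - j)
      = S.card.choose j * (Fintype.card α - j).choose (t - j) := by
  classical
  let r : Finset α → Finset α → Prop := fun J b => J ⊆ b
  have key := sum_card_bipartiteAbove_eq_sum_card_bipartiteBelow
    (s := powersetCard j S) (t := blocks B) r
  have hR : ∀ b ∈ blocks B, #((powersetCard j S).bipartiteBelow r b) = (b ∩ S).card.choose j := by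
    intro b _
    rw [← card_powersetCard]
    congr 1
    ext J
    simp only [mem_bipartiteBelow, mem_powersetCard, r, subset_inter_iff]
    tauto
  have hL : ∀ J ∈ powersetCard j S, #((blocks B).bipartiteAbove r J) * (k - j).choose (t - j)
      = (Fintype.card α - j).choose (t - j) := by
    intro J hJ
    rw [mem_powersetCard] at hJ
    have := card_through_mul hB J (by rw [hJ.2]; exact hj)
    rw [hJ.2] at this
    exact this
  rw [sum_congr rfl hR] at key
  rw [← key, sum_mul, sum_congr rfl hL, sum_const, card_powersetCard, smul_eq_mul]

/-- Moment identity over the blocks through a set `J` disjoint from `S`. -/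
theorem moment_through {t k : ℕ} {B : Set (Finset α)} (hB : Cfsg.IsSteinerSystem t k B)
    (J S : Finset α) (hJS : Disjoint J S) (j : ℕ) (hj : J.card + j ≤ t) :
    (∑ b ∈ (blocks B).filter (fun b => J ⊆ b), (b ∩ S).card.choose j)
        * (k - J.card - j).choose (t - J.card - j)
      = S.card.choose j * (Fintype.card α - J.card - j).choose (t - J.card - j) := by
  classical
  let r : Finset α → Finset α → Prop := fun K b => K ⊆ b
  have key := sum_card_bipartiteAbove_eq_sum_card_bipartiteBelow
    (s := powersetCard j S) (t := (blocks B).filter (fun b => J ⊆ b)) r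
  have hR : ∀ b ∈ (blocks B).filter (fun b => J ⊆ b),
      #((powersetCard j S).bipartiteBelow r b) = (b ∩ S).card.choose j := by
    intro b _
    rw [← card_powersetCard]
    congr 1
    ext K
    simp only [mem_bipartiteBelow, mem_powersetCard, r, subset_inter_iff]
    tauto
  have hL : ∀ K ∈ powersetCard j S,
      #(((blocks B).filter (fun b => J ⊆ b)).bipartiteAbove r K)
        * (k - J.card - j).choose (t - J.card - j)
      = (Fintype.card α - J.card - j).choose (t - J.card - j) := by
    intro K hK
    rw [mem_powersetCard] at hK
    have hdisj : Disjoint J K := hJS.mono_right hK.1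
    have hcard : (J ∪ K).card = J.card + j := by
      rw [card_union_of_disjoint hdisj, hK.2]
    have := card_through_mul hB (J ∪ K) (by rw [hcard]; exact hj)
    rw [hcard] at this
    have e : ((blocks B).filter (fun b => J ⊆ b)).bipartiteAbove r K
        = (blocks B).filter (fun b => J ∪ K ⊆ b) := by
      ext b
      simp only [mem_bipartiteAbove, mem_filter, r, union_subset_iff]
      tauto
    rw [e]
    simpa [Nat.sub_sub] using this
  rw [sum_congr rfl hR] at key
  rw [← key, sum_mul, sum_congr rfl hL, sum_const, card_powersetCard, smul_eq_mul]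

end Cfsg.Agent.Lib.Helper8.Steiner
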