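import Mathlib
import Cfsg.Prelude.Def_Sporadic_a
import Cfsg.Agent.Lib.Helper8.Steiner

/-!
The derived design of a Steiner system with respect to a set `J` of points, as a set system on
the subtype of points outside `J`; blocks meeting `J` in all but one point give arcs of the
derived plane when the derived design is an `S(2,5,21)`.
-/

set_option autoImplicit false

namespace Cfsg.Agent.Lib.Helper8.DerivedPlane

open Finset

variable {α : Type*} [Fintype α] [DecidableEq α]

/-- The points outside `J`. -/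
abbrev Co (J : Finset α) := {x : α // x ∉ J}

/-- The blocks through `J`, with `J` removed. -/
def lines (J : Finset α) (B : Set (Finset α)) : Set (Finset (Co J)) :=
  {l | J ∪ l.map (Function.Embedding.subtype _) ∈ B}

omit [Fintype α] [DecidableEq α] in
theorem disj (J : Finset α) (l : Finset (Co J)) :
    Disjoint J (l.map (Function.Embedding.subtype _)) := by
  rw [Finset.disjoint_left]
  intro x hx hx'
  obtain ⟨y, -, rfl⟩ := mem_map.1 hx'
  exact y.2 hx

omit [Fintype α] in
theorem union_subtype {J b : Finset α} (hJb : J ⊆ b) :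
    J ∪ (b.subtype (· ∉ J)).map (Function.Embedding.subtype _) = b := by
  rw [Finset.subtype_map]
  ext x
  simp only [mem_union, mem_filter]
  constructor
  · rintro (h | ⟨h, -⟩)
    · exact hJb h
    · exact h
  · intro h
    by_cases hx : x ∈ J
    · exact Or.inl hx
    · exact Or.inr ⟨h, hx⟩

omit [Fintype α] in
theorem derived {J : Finset α} {B : Set (Finset α)} {j t k : ℕ} (hJ : J.card = j)
    (hB : Cfsg.IsSteinerSystem (t + j) (k + j) B) : Cfsg.IsSteinerSystem t k (lines J B) := by
  constructor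
  · intro l hl
    have h := hB.1 _ hl
    rw [card_union_of_disjoint (disj J l), card_map, hJ] at h
    omega
  · intro s hs
    have hc : (J ∪ s.map (Function.Embedding.subtype _)).card = t + j := by
      rw [card_union_of_disjoint (disj J s), card_map, hJ, hs]
      omega
    obtain ⟨b, ⟨hb, hsub⟩, huniq⟩ := hB.2 _ hc
    have hJb : J ⊆ b := subset_union_left.trans hsub
    refine ⟨b.subtype (· ∉ J), ⟨?_, ?_⟩, ?_⟩
    · show J ∪ _ ∈ B
      rw [union_subtype hJb]
      exact hb
    · intro x hx
      rw [mem_subtype]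
      exact hsub (mem_union_right _ (mem_map_of_mem _ hx))
    · rintro l ⟨hl, hsl⟩
      have h1 := huniq _ ⟨hl, union_subset_union_right (map_subset_map.2 hsl)⟩
      rw [← h1]
      ext x
      simp [mem_subtype, x.2]

theorem card_co (J : Finset α) : Fintype.card (Co J) = Fintype.card α - J.card := by
  rw [Fintype.card_of_subtype Jᶜ (fun x => mem_compl), card_compl]

omit [Fintype α] in
/-- Two distinct blocks of a Steiner system with `t` = `2 + j` share at most `1 + j` points. -/
theorem inter_le {B : Set (Finset α)} {t k : ℕ} (hB : Cfsg.IsSteinerSystem (t + 1) k B)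
    {X Y : Finset α} (hX : X ∈ B) (hY : Y ∈ B) (hne : X ≠ Y) : (X ∩ Y).card ≤ t := by
  by_contra hlt
  obtain ⟨s, hs, hsc⟩ := exists_subset_card_eq (by omega : t + 1 ≤ (X ∩ Y).card)
  obtain ⟨b, -, huniq⟩ := hB.2 s hsc
  exact hne ((huniq X ⟨hX, hs.trans inter_subset_left⟩).trans
    (huniq Y ⟨hY, hs.trans inter_subset_right⟩).symm)

omit [Fintype α] in
/-- A block meeting `J` in all but one point gives a 6-arc of the derived plane. -/
theorem arc_of_block {J : Finset α} {B : Set (Finset α)} {j : ℕ} (hJ : J.card = j)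
    (hB : Cfsg.IsSteinerSystem (2 + j) (5 + j) B) {X : Finset α} (hX : X ∈ B) {c : α}
    (hc : c ∈ J) (hXJ : X ∩ J = J.erase c) :
    (X.subtype (· ∉ J)).card = 6 ∧ ∀ l ∈ lines J B, (l ∩ X.subtype (· ∉ J)).card ≤ 2 := by
  have hcard : (X ∩ J).card + 1 = j := by
    rw [hXJ, card_erase_of_mem hc, hJ]
    have : 0 < J.card := card_pos.2 ⟨c, hc⟩
    omega
  have hcX : c ∉ X := by
    intro h
    have : c ∈ X ∩ J := mem_inter.2 ⟨h, hc⟩
    rw [hXJ] at this
    exact (mem_erase.1 this).1 rfl
  constructor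
  · rw [Finset.card_subtype]
    have h1 : X.filter (· ∉ J) = X \ J := by
      ext x
      simp [mem_sdiff]
    have h2 := card_sdiff_add_card_inter X J
    rw [h1]
    have := hB.1 X hX
    omega
  · intro l hl
    have hYB : J ∪ l.map (Function.Embedding.subtype _) ∈ B := hl
    have hne : X ≠ J ∪ l.map (Function.Embedding.subtype _) := by
      intro h
      exact hcX (by rw [h]; exact mem_union_left _ hc)
    have hle := inter_le (t := 1 + j) (by rw [show 1 + j + 1 = 2 + j by omega]; exact hB) hX hYB hne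
    have hsub : (X ∩ J) ∪ (l ∩ X.subtype (· ∉ J)).map (Function.Embedding.subtype _)
        ⊆ X ∩ (J ∪ l.map (Function.Embedding.subtype _)) := by
      intro x hx
      rw [mem_union] at hx
      rcases hx with hx | hx
      · exact mem_inter.2 ⟨(mem_inter.1 hx).1, mem_union_left _ (mem_inter.1 hx).2⟩
      · obtain ⟨y, hy, rfl⟩ := mem_map.1 hx
        rw [mem_inter, mem_subtype] at hy
        exact mem_inter.2 ⟨hy.2, mem_union_right _ (mem_map_of_mem _ hy.1)⟩
    have hd : Disjoint (X ∩ J) ((l ∩ X.subtype (· ∉ J)).map (Function.Embedding.subtype _)) :=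
      (disj J _).mono_left inter_subset_right
    have := card_le_card hsub
    rw [card_union_of_disjoint hd, card_map] at this
    omega

omit [Fintype α] in
/-- A block through all of `J` but `c` and three non-collinear points of the derived plane
does not contain `c`. -/
theorem exists_block {J : Finset α} {B : Set (Finset α)} {j : ℕ} (hJ : J.card = j)
    (hB : Cfsg.IsSteinerSystem (2 + j) (5 + j) B) {c : α} (hc : c ∈ J) (x y z : Co J)
    (hxy : x ≠ y) (hxz : x ≠ z) (hyz : y ≠ z)
    (hncol : ∀ l ∈ lines J B, ¬ (x ∈ l ∧ y ∈ l ∧ z ∈ l)) :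
    ∃ X ∈ B, X ∩ J = J.erase c ∧ (x : α) ∈ X ∧ (y : α) ∈ X ∧ (z : α) ∈ X := by
  have h3 : ({x, y, z} : Finset (Co J)).card = 3 := card_eq_three.2 ⟨x, y, z, hxy, hxz, hyz, rfl⟩
  have hd : Disjoint (J.erase c) (({x, y, z} : Finset (Co J)).map (Function.Embedding.subtype _)) :=
    (disj J _).mono_left (erase_subset _ _)
  have hcard : (J.erase c ∪ ({x, y, z} : Finset (Co J)).map (Function.Embedding.subtype _)).card
      = 2 + j := by
    rw [card_union_of_disjoint hd, card_map, h3, card_erase_of_mem hc, hJ]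
    have : 0 < J.card := card_pos.2 ⟨c, hc⟩
    omega
  obtain ⟨X, ⟨hX, hsub⟩, -⟩ := hB.2 _ hcard
  have hmem : ∀ w ∈ ({x, y, z} : Finset (Co J)), (w : α) ∈ X := fun w hw =>
    hsub (mem_union_right _ (mem_map_of_mem _ hw))
  have hcX : c ∉ X := by
    intro h
    have hJX : J ⊆ X := by
      intro w hw
      by_cases hwc : w = c
      · rw [hwc]; exact h
      · exact hsub (mem_union_left _ (mem_erase.2 ⟨hwc, hw⟩))
    refine hncol (X.subtype (· ∉ J)) ?_ ?_
    · show J ∪ _ ∈ B
      rw [union_subtype hJX]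
      exact hX
    · simp only [mem_subtype]
      exact ⟨hmem x (by simp), hmem y (by simp), hmem z (by simp)⟩
  refine ⟨X, hX, ?_, hmem x (by simp), hmem y (by simp), hmem z (by simp)⟩
  ext w
  rw [mem_inter, mem_erase]
  constructor
  · rintro ⟨h1, h2⟩
    exact ⟨fun h => hcX (h ▸ h1), h2⟩
  · rintro ⟨h1, h2⟩
    exact ⟨hsub (mem_union_left _ (mem_erase.2 ⟨h1, h2⟩)), h2⟩

omit [Fintype α] in
/-- Two blocks through all of `J` but one point each, sharing three points outside `J`, cut
the derived plane in two arcs meeting exactly in these three points. -/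
theorem inter_arcs {J : Finset α} {B : Set (Finset α)} {j : ℕ} (hJ : J.card = j)
    (hB : Cfsg.IsSteinerSystem (2 + j) (5 + j) B) {b c : α} (hb : b ∈ J) (hc : c ∈ J)
    (hbc : b ≠ c) {X X' : Finset α} (hX : X ∈ B) (hX' : X' ∈ B) (hXJ : X ∩ J = J.erase c)
    (hXJ' : X' ∩ J = J.erase b) (x y z : Co J) (hxy : x ≠ y) (hxz : x ≠ z) (hyz : y ≠ z)
    (hx : (x : α) ∈ X) (hy : (y : α) ∈ X) (hz : (z : α) ∈ X)
    (hx' : (x : α) ∈ X') (hy' : (y : α) ∈ X') (hz' : (z : α) ∈ X') :
    X'.subtype (· ∉ J) ∩ X.subtype (· ∉ J) = {x, y, z} := by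
  have hbX : b ∈ X := by
    have : b ∈ X ∩ J := by rw [hXJ]; exact mem_erase.2 ⟨hbc, hb⟩
    exact (mem_inter.1 this).1
  have hbX' : b ∉ X' := by
    intro h
    have : b ∈ X' ∩ J := mem_inter.2 ⟨h, hb⟩
    rw [hXJ'] at this
    exact (mem_erase.1 this).1 rfl
  have hne : X ≠ X' := fun h => hbX' (h ▸ hbX)
  have hle := inter_le (t := 1 + j) (by rw [show 1 + j + 1 = 2 + j by omega]; exact hB) hX hX' hne
  have h3 : ({x, y, z} : Finset (Co J)).card = 3 := card_eq_three.2 ⟨x, y, z, hxy, hxz, hyz, rfl⟩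
  have hd : Disjoint ((J.erase c).erase b)
      (({x, y, z} : Finset (Co J)).map (Function.Embedding.subtype _)) :=
    (disj J _).mono_left ((erase_subset _ _).trans (erase_subset _ _))
  have hsub : (J.erase c).erase b ∪ ({x, y, z} : Finset (Co J)).map (Function.Embedding.subtype _)
      ⊆ X ∩ X' := by
    intro w hw
    rw [mem_union] at hw
    rcases hw with hw | hw
    · rw [mem_erase, mem_erase] at hw
      have h1 : w ∈ X ∩ J := by rw [hXJ]; exact mem_erase.2 ⟨hw.2.1, hw.2.2⟩
      have h2 : w ∈ X' ∩ J := by rw [hXJ']; exact mem_erase.2 ⟨hw.1, hw.2.2⟩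
      exact mem_inter.2 ⟨(mem_inter.1 h1).1, (mem_inter.1 h2).1⟩
    · obtain ⟨v, hv, rfl⟩ := mem_map.1 hw
      simp only [mem_insert, mem_singleton] at hv
      rcases hv with rfl | rfl | rfl
      · exact mem_inter.2 ⟨hx, hx'⟩
      · exact mem_inter.2 ⟨hy, hy'⟩
      · exact mem_inter.2 ⟨hz, hz'⟩
  have hcard : ((J.erase c).erase b ∪
      ({x, y, z} : Finset (Co J)).map (Function.Embedding.subtype _)).card = 1 + j := by
    rw [card_union_of_disjoint hd, card_map, h3,
      card_erase_of_mem (mem_erase.2 ⟨hbc, hb⟩), card_erase_of_mem hc, hJ]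
    have : 1 < J.card := one_lt_card.2 ⟨b, hb, c, hc, hbc⟩
    omega
  have heq := eq_of_subset_of_card_le hsub (by rw [hcard]; exact hle)
  ext w
  rw [mem_inter, mem_subtype, mem_subtype]
  constructor
  · rintro ⟨h1, h2⟩
    have : (w : α) ∈ X ∩ X' := mem_inter.2 ⟨h2, h1⟩
    rw [← heq, mem_union] at this
    rcases this with h | h
    · exact absurd (mem_of_mem_erase (mem_of_mem_erase h)) w.2
    · obtain ⟨v, hv, hvw⟩ := mem_map.1 h
      have : v = w := Subtype.ext hvw
      rw [← this]
      exact hv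
  · intro hw
    simp only [mem_insert, mem_singleton] at hw
    rcases hw with rfl | rfl | rfl
    · exact ⟨hx', hx⟩
    · exact ⟨hy', hy⟩
    · exact ⟨hz', hz⟩

end Cfsg.Agent.Lib.Helper8.DerivedPlane
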