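import Mathlib
import Cfsg.Agent.Lib.Helper25.ACStmt
import Cfsg.Agent.Lib.Helper25.ACOddStmt

set_option autoImplicit false

/-!
# S3911 / CYCSTEP

`P` a `p`-group, all elements of order `p` in `N`, all proper subgroups cyclic: every commutator
lies in `N`.  Route: `P` not cyclic, `#P = p ^ n`, `n ≥ 2`; two distinct subgroups `A`, `A'` of
order `p ^ (n - 1)`, both normal of index `p` and commutative; `A ⊓ A'` is central; commutators
and `p`-th powers lie in `A ⊓ A'`; the class two identity gives `c ^ p = 1`.
-/

namespace Cfsg.Agent.Lib.Helper8.AOCYCSTEP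

open Cfsg.Agent.Lib.Helper25.ACStmt Cfsg.Agent.Lib.Helper25.ACOddStmt

universe u

/-- class two identity -/
theorem conj_pow_of_comm {G : Type*} [Group G] (x y c : G) (hc : x * y * x⁻¹ = c * y)
    (hxc : x * c = c * x) (k : ℕ) : x ^ k * y * (x ^ k)⁻¹ = c ^ k * y := by
  induction k with
  | zero => simp
  | succ k ih =>
    have h0 : x ^ (k + 1) * y * (x ^ (k + 1))⁻¹ = x * (x ^ k * y * (x ^ k)⁻¹) * x⁻¹ := by
      rw [pow_succ']; group
    rw [h0, ih]
    have h2 : x * c ^ k = c ^ k * x := (Commute.pow_right (show Commute x c from hxc) k)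
    calc x * (c ^ k * y) * x⁻¹ = (x * c ^ k) * y * x⁻¹ := by group
      _ = c ^ k * (x * y * x⁻¹) := by rw [h2]; group
      _ = c ^ k * (c * y) := by rw [hc]
      _ = c ^ (k + 1) * y := by rw [pow_succ]; group

theorem main : CycStep.{u} := by
  intro P _ _ p _ _hp2 hP N _hN hNall hprop a b
  classical
  have hpp : p.Prime := Fact.out
  by_cases hcyc : IsCyclic P
  · have hab : a * b = b * a := by
      haveI := hcyc
      exact (IsCyclic.commGroup (α := P)).mul_comm a b
    have h1 : a * b * a⁻¹ * b⁻¹ = 1 := by rw [hab]; group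
    rw [h1]; exact N.one_mem
  · obtain ⟨n, hn⟩ := IsPGroup.iff_card.mp hP
    have hn2 : 2 ≤ n := by
      by_contra hlt
      push_neg at hlt
      interval_cases n
      · apply hcyc
        have : Subsingleton P := (Nat.card_eq_one_iff_unique.mp (by simpa using hn)).1
        exact isCyclic_of_subsingleton
      · apply hcyc
        exact isCyclic_of_prime_card (p := p) (by simpa using hn)
    have key : ∀ A : Subgroup P, Nat.card A = p ^ (n - 1) →
        A.Normal ∧ A.index = p ∧ (∀ x ∈ A, ∀ y ∈ A, x * y = y * x) := by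
      intro A hA
      have hidx : A.index = p := by
        have h1 := A.card_mul_index
        rw [hA, hn] at h1
        have hpos : 0 < p ^ (n - 1) := pow_pos hpp.pos _
        have h2 : p ^ n = p ^ (n - 1) * p := by
          rw [← pow_succ]; congr 1; omega
        rw [h2] at h1
        exact Nat.eq_of_mul_eq_mul_left hpos h1
      have hne : A ≠ ⊤ := by
        intro h
        rw [h, Subgroup.index_top] at hidx
        exact hpp.one_lt.ne hidx
      refine ⟨?_, hidx, ?_⟩
      · apply Subgroup.normal_of_index_eq_minFac_card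
        rw [hidx, hn, Nat.Prime.pow_minFac hpp (by omega)]
      · intro x hx y hy
        haveI := hprop A hne
        have h3 : (⟨x, hx⟩ : A) * ⟨y, hy⟩ = ⟨y, hy⟩ * ⟨x, hx⟩ :=
          (IsCyclic.commGroup (α := A)).mul_comm ⟨x, hx⟩ ⟨y, hy⟩
        exact congrArg Subtype.val h3
    obtain ⟨A, hA⟩ := Sylow.exists_subgroup_card_pow_prime (G := P) p (n := n - 1)
      (by rw [hn]; exact pow_dvd_pow p (by omega))
    obtain ⟨hAn, hAi, hAc⟩ := key A hA
    have hAne : A ≠ ⊤ := by
      intro h
      rw [h, Subgroup.index_top] at hAi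
      exact hpp.one_lt.ne hAi
    obtain ⟨g, hg⟩ : ∃ g, g ∉ A := by
      by_contra h
      push_neg at h
      exact hAne (eq_top_iff.mpr fun x _ => h x)
    obtain ⟨k, hk⟩ := IsPGroup.iff_card.mp (hP.to_subgroup (Subgroup.zpowers g))
    have hkn : k ≤ n - 1 := by
      by_contra hlt
      push_neg at hlt
      have hdvd : p ^ k ∣ p ^ n := by
        rw [← hk, ← hn]; exact Subgroup.card_subgroup_dvd_card _
      have hkle : k ≤ n := (Nat.pow_dvd_pow_iff_le_right hpp.one_lt).mp hdvd
      have hkeq : k = n := by omega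
      apply hcyc
      apply isCyclic_of_orderOf_eq_card g
      rw [← Nat.card_zpowers, hk, hkeq, hn]
    obtain ⟨A', hA', hgA'⟩ := Sylow.exists_subgroup_card_pow_prime_le (G := P) p
      (by rw [hn]; exact pow_dvd_pow p (by omega)) (Subgroup.zpowers g) hk hkn
    obtain ⟨hA'n, hA'i, hA'c⟩ := key A' hA'
    have hgA'' : g ∈ A' := hgA' (Subgroup.mem_zpowers g)
    have hcent : ∀ z ∈ A, z ∈ A' → ∀ x : P, x * z = z * x := by
      intro z hz hz' x
      have hAC : A ≤ Subgroup.centralizer ({z} : Set P) := fun y hy => by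
        rw [Subgroup.mem_centralizer_iff]
        intro w hw
        rw [Set.mem_singleton_iff] at hw
        subst hw
        exact hAc w hz y hy
      have hA'C : A' ≤ Subgroup.centralizer ({z} : Set P) := fun y hy => by
        rw [Subgroup.mem_centralizer_iff]
        intro w hw
        rw [Set.mem_singleton_iff] at hw
        subst hw
        exact hA'c w hz' y hy
      have hCtop : Subgroup.centralizer ({z} : Set P) = ⊤ := by
        by_contra hne
        have hdv : (Subgroup.centralizer ({z} : Set P)).index ∣ A.index :=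
          Subgroup.index_dvd_of_le hAC
        rw [hAi] at hdv
        rcases (Nat.dvd_prime hpp).mp hdv with h1 | h1
        · exact hne (Subgroup.index_eq_one.mp h1)
        · have hcard : Nat.card (Subgroup.centralizer ({z} : Set P)) = Nat.card A := by
            have e1 := (Subgroup.centralizer ({z} : Set P)).card_mul_index
            have e2 := A.card_mul_index
            rw [h1] at e1
            rw [hAi] at e2
            exact Nat.eq_of_mul_eq_mul_right hpp.pos (e1.trans e2.symm)
          have hAC' : A = Subgroup.centralizer ({z} : Set P) :=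
            Subgroup.eq_of_le_of_card_ge hAC hcard.le
          exact hg (hAC' ▸ hA'C hgA'')
      have hx : x ∈ Subgroup.centralizer ({z} : Set P) := hCtop ▸ Subgroup.mem_top x
      rw [Subgroup.mem_centralizer_iff] at hx
      exact (hx z rfl).symm
    have hcomm : ∀ (B : Subgroup P), B.Normal → B.index = p →
        ∀ x y : P, x * y * x⁻¹ * y⁻¹ ∈ B := by
      intro B hBn hBi x y
      haveI := hBn
      have hcard : Nat.card (P ⧸ B) = p := by rw [← Subgroup.index_eq_card]; exact hBi
      haveI : IsCyclic (P ⧸ B) := isCyclic_of_prime_card hcard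
      have hc : (x : P ⧸ B) * (y : P ⧸ B) = (y : P ⧸ B) * (x : P ⧸ B) :=
        (IsCyclic.commGroup (α := P ⧸ B)).mul_comm _ _
      rw [← QuotientGroup.eq_one_iff]
      simp only [QuotientGroup.mk_mul, QuotientGroup.mk_inv]
      rw [hc]; group
    have hpow : ∀ (B : Subgroup P), B.Normal → B.index = p → ∀ x : P, x ^ p ∈ B := by
      intro B hBn hBi x
      haveI := hBn
      have h := B.pow_index_mem x
      rwa [hBi] at h
    have hcA : a * b * a⁻¹ * b⁻¹ ∈ A := hcomm A hAn hAi a b
    have hcA' : a * b * a⁻¹ * b⁻¹ ∈ A' := hcomm A' hA'n hA'i a b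
    have hccent := hcent _ hcA hcA'
    have hapcent := hcent (a ^ p) (hpow A hAn hAi a) (hpow A' hA'n hA'i a)
    have h1 : a * b * a⁻¹ = (a * b * a⁻¹ * b⁻¹) * b := by group
    have h2 := conj_pow_of_comm a b _ h1 (hccent a) p
    have h3 : a ^ p * b * (a ^ p)⁻¹ = b := by
      have h := hapcent b
      rw [← h]; group
    have hcp : (a * b * a⁻¹ * b⁻¹) ^ p = 1 := by
      rw [h3] at h2
      have h4 : (a * b * a⁻¹ * b⁻¹) ^ p * b = 1 * b := by rw [one_mul]; exact h2.symm
      exact mul_right_cancel h4
    have hord : orderOf (a * b * a⁻¹ * b⁻¹) ∣ p := orderOf_dvd_of_pow_eq_one hcp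
    rcases (Nat.dvd_prime hpp).mp hord with h | h
    · rw [orderOf_eq_one_iff] at h; rw [h]; exact N.one_mem
    · exact hNall _ h

end Cfsg.Agent.Lib.Helper8.AOCYCSTEP
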