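import Mathlib
import Cfsg.Prelude.Def_Sporadic_a

/-!
Transport of the automorphism group of a set system along an isomorphism of set systems.
-/

set_option autoImplicit false

namespace Cfsg.Agent.Lib.Helper8.AutTransport

open scoped Pointwise
open Finset

variable {α β : Type*} [DecidableEq α] [DecidableEq β]

theorem mem_aut_iff {B : Set (Finset α)} {g : Equiv.Perm α} :
    g ∈ Cfsg.setSystemAut B ↔ (fun b => b.image g) '' B = B := by
  rw [MulAction.mem_stabilizer_iff]
  rfl

theorem symm_image (e : α ≃ β) {B : Set (Finset α)} {B' : Set (Finset β)}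
    (h : (fun b => b.image e) '' B = B') : (fun b => b.image e.symm) '' B' = B := by
  rw [← h, Set.image_image]
  have : (fun b : Finset α => (b.image e).image e.symm) = id := by
    funext b
    rw [image_image]
    simp
  rw [this, Set.image_id]

theorem conj_mem (e : α ≃ β) {B : Set (Finset α)} {B' : Set (Finset β)}
    (h : (fun b => b.image e) '' B = B') {g : Equiv.Perm α} (hg : g ∈ Cfsg.setSystemAut B) :
    e.symm.trans (g.trans e) ∈ Cfsg.setSystemAut B' := by
  rw [mem_aut_iff] at hg ⊢
  have h1 : (fun b : Finset β => b.image (e.symm.trans (g.trans e))) '' B'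
      = (fun b : Finset α => (b.image g).image e) '' B := by
    rw [← h, Set.image_image]
    apply Set.image_congr
    intro b _
    simp only [image_image]
    congr 1
    funext x
    simp
  rw [h1, ← Set.image_image (fun b : Finset α => b.image e) (fun b : Finset α => b.image g), hg, h]

/-- Conjugation by an isomorphism of set systems. -/
def autCongr (e : α ≃ β) {B : Set (Finset α)} {B' : Set (Finset β)}
    (h : (fun b => b.image e) '' B = B') : Cfsg.setSystemAut B ≃* Cfsg.setSystemAut B' where
  toFun g := ⟨e.symm.trans ((g : Equiv.Perm α).trans e), conj_mem e h g.2⟩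
  invFun g := ⟨e.trans ((g : Equiv.Perm β).trans e.symm), conj_mem e.symm (symm_image e h) g.2⟩
  left_inv g := by
    apply Subtype.ext
    ext x
    simp
  right_inv g := by
    apply Subtype.ext
    ext x
    simp
  map_mul' g g' := by
    apply Subtype.ext
    ext x
    simp [Equiv.Perm.mul_apply]

theorem autCongr_apply (e : α ≃ β) {B : Set (Finset α)} {B' : Set (Finset β)}
    (h : (fun b => b.image e) '' B = B') (g : Cfsg.setSystemAut B) (x : α) :
    ((autCongr e h g : Cfsg.setSystemAut B') : Equiv.Perm β) (e x) = e ((g : Equiv.Perm α) x) := by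
  simp [autCongr]

theorem autCongr_symm_apply (e : α ≃ β) {B : Set (Finset α)} {B' : Set (Finset β)}
    (h : (fun b => b.image e) '' B = B') (g : Cfsg.setSystemAut B') (x : α) :
    (((autCongr e h).symm g : Cfsg.setSystemAut B) : Equiv.Perm α) x
      = e.symm ((g : Equiv.Perm β) (e x)) := by
  simp [autCongr]

/-- Multiple transitivity is transported along an isomorphism of set systems. -/
theorem multiply_transport (e : α ≃ β) {B : Set (Finset α)} {B' : Set (Finset β)}
    (h : (fun b => b.image e) '' B = B') (n : ℕ)
    (hB' : MulAction.IsMultiplyPretransitive (Cfsg.setSystemAut B') β n) :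
    MulAction.IsMultiplyPretransitive (Cfsg.setSystemAut B) α n := by
  rw [MulAction.isMultiplyPretransitive_iff] at hB' ⊢
  intro x y
  obtain ⟨g', hg'⟩ := hB' (x.trans e.toEmbedding) (y.trans e.toEmbedding)
  refine ⟨(autCongr e h).symm g', ?_⟩
  ext i
  have h1 := congrArg (fun f : Fin n ↪ β => f i) hg'
  simp only [Function.Embedding.smul_apply, Function.Embedding.trans_apply,
    Equiv.coe_toEmbedding] at h1
  rw [Function.Embedding.smul_apply]
  show (((autCongr e h).symm g' : Cfsg.setSystemAut B) : Equiv.Perm α) (x i) = y i
  rw [autCongr_symm_apply]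
  have h2 : (g' : Equiv.Perm β) (e (x i)) = e (y i) := h1
  rw [h2]
  simp

end Cfsg.Agent.Lib.Helper8.AutTransport
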