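import Mathlib
import Cfsg.Prelude.Def_Sporadic_a

/-!
Binary words as indicator functions of finsets; spans of indicator functions of a family of
finsets with pairwise even intersections; a self-orthogonal subspace of `X → ZMod 2`
(`|X| = 2 n`) containing `n` vectors in echelon form is their span.
-/

set_option autoImplicit false

namespace Cfsg.Agent.Lib.Helper8.CodeSpan

open Finset

section basic

variable {X : Type*} [DecidableEq X]

/-- Indicator word of a finset. -/
def ind (S : Finset X) : X → ZMod 2 := fun x => if x ∈ S then 1 else 0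

theorem ind_injective : Function.Injective (ind : Finset X → X → ZMod 2) := by
  intro S T h
  ext x
  have := congrFun h x
  simp only [ind] at this
  by_cases hS : x ∈ S <;> by_cases hT : x ∈ T <;> simp_all

theorem ind_add (S T : Finset X) : ind S + ind T = ind (symmDiff S T) := by
  ext x
  simp only [Pi.add_apply, ind, Finset.mem_symmDiff]
  by_cases hS : x ∈ S <;> by_cases hT : x ∈ T <;> simp [hS, hT]
  decide

theorem ind_image {Y : Type*} [DecidableEq Y] (Φ : X ≃ Y) (S : Finset X) :
    ind (S.image Φ) = fun y => ind S (Φ.symm y) := by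
  ext y
  simp only [ind, mem_image]
  congr 1
  apply propext
  constructor
  · rintro ⟨x, hx, rfl⟩
    simpa using hx
  · intro hx
    exact ⟨Φ.symm y, hx, by simp⟩

theorem span_image {Y : Type*} [DecidableEq Y] (Φ : X ≃ Y) (𝓧 : Set (Finset X))
    (S : Finset X) :
    ind (S.image Φ) ∈ Submodule.span (ZMod 2) (ind '' ((fun b => b.image Φ) '' 𝓧)) ↔
      ind S ∈ Submodule.span (ZMod 2) (ind '' 𝓧) := by
  let f : (X → ZMod 2) ≃ₗ[ZMod 2] (Y → ZMod 2) := LinearEquiv.funCongrLeft (ZMod 2) (ZMod 2) Φ.symm
  have hf : ∀ S : Finset X, f (ind S) = ind (S.image Φ) := fun S => (ind_image Φ S).symm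
  have h1 : Submodule.span (ZMod 2) (ind '' ((fun b => b.image Φ) '' 𝓧))
      = (Submodule.span (ZMod 2) (ind '' 𝓧)).map f.toLinearMap := by
    rw [Submodule.map_span, Set.image_image, Set.image_image]
    congr 1
    ext v
    simp only [Set.mem_image, LinearEquiv.coe_coe, hf]
  rw [h1, ← hf]
  constructor
  · rintro ⟨u, hu, hfu⟩
    have := f.injective hfu
    rw [← this]
    exact hu
  · intro h
    exact Submodule.mem_map_of_mem h

variable [Fintype X]

theorem dot_ind (S T : Finset X) : ∑ x, ind S x * ind T x = ((S ∩ T).card : ZMod 2) := by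
  have h : ∀ x, ind S x * ind T x = if x ∈ S ∩ T then 1 else 0 := by
    intro x
    simp only [ind, mem_inter]
    by_cases hS : x ∈ S <;> by_cases hT : x ∈ T <;> simp [hS, hT]
  simp only [h]
  rw [Finset.sum_boole]
  congr 2
  ext x
  simp

theorem even_of_dot {S T : Finset X} (h : ∑ x, ind S x * ind T x = 0) : Even (S ∩ T).card := by
  rw [dot_ind] at h
  exact (ZMod.natCast_eq_zero_iff_even).1 h

/-- The span of indicator words of a family with pairwise even intersections is
self-orthogonal. -/
theorem span_orth (𝓑 : Set (Finset X)) (h : ∀ S ∈ 𝓑, ∀ T ∈ 𝓑, Even (S ∩ T).card) :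
    ∀ u ∈ Submodule.span (ZMod 2) (ind '' 𝓑), ∀ v ∈ Submodule.span (ZMod 2) (ind '' 𝓑),
      ∑ x, u x * v x = 0 := by
  intro u hu v hv
  induction hu, hv using Submodule.span_induction₂ with
  | mem_mem u v hu hv =>
    obtain ⟨S, hS, rfl⟩ := hu
    obtain ⟨T, hT, rfl⟩ := hv
    rw [dot_ind]
    exact (ZMod.natCast_eq_zero_iff_even).2 (h S hS T hT)
  | zero_left v hv => simp
  | zero_right u hu => simp
  | add_left u1 u2 v _ _ _ h1 h2 =>
    simp only [Pi.add_apply, add_mul, sum_add_distrib, h1, h2, add_zero]
  | add_right u v1 v2 _ _ _ h1 h2 =>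
    simp only [Pi.add_apply, mul_add, sum_add_distrib, h1, h2, add_zero]
  | smul_left r u v _ _ h =>
    simp only [Pi.smul_apply, smul_eq_mul, mul_assoc, ← mul_sum, h, mul_zero]
  | smul_right r u v _ _ h =>
    have : ∀ x, u x * (r • v) x = r * (u x * v x) := by
      intro x
      simp only [Pi.smul_apply, smul_eq_mul]
      ring
    simp only [this, ← mul_sum, h, mul_zero]

/-- A self-orthogonal subspace of `X → ZMod 2`, `|X| = 2 n`, containing `n` vectors in echelon
form, is their span. -/
theorem span_eq {n : ℕ} (h : Fin n → X → ZMod 2) (piv : Fin n → X)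
    (hpiv : ∀ i k, h i (piv k) = if i = k then 1 else 0) (hcard : Fintype.card X = 2 * n)
    (W : Submodule (ZMod 2) (X → ZMod 2)) (horth : ∀ u ∈ W, ∀ v ∈ W, ∑ x, u x * v x = 0)
    (hW : ∀ i, h i ∈ W) : W = Submodule.span (ZMod 2) (Set.range h) := by
  let T : (X → ZMod 2) →ₗ[ZMod 2] (Fin n → ZMod 2) :=
    { toFun := fun v i => ∑ x, v x * h i x
      map_add' := by
        intro u v
        ext i
        simp [add_mul, sum_add_distrib]
      map_smul' := by
        intro r v
        ext i
        simp [mul_assoc, mul_sum] }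
  have hT : ∀ v i, T v i = ∑ x, v x * h i x := fun _ _ => rfl
  have hker : W ≤ LinearMap.ker T := by
    intro v hv
    rw [LinearMap.mem_ker]
    ext i
    exact horth v hv (h i) (hW i)
  have hsurj : Function.Surjective T := by
    intro c
    refine ⟨fun x => ∑ k, if x = piv k then c k else 0, ?_⟩
    ext i
    rw [hT]
    simp only [sum_mul]
    rw [sum_comm]
    have : ∀ k, ∑ x, (if x = piv k then c k else 0) * h i x = c k * h i (piv k) := by
      intro k
      rw [Finset.sum_eq_single (piv k)]
      · simp
      · intro b _ hb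
        simp [hb]
      · intro hk
        exact absurd (mem_univ _) hk
    simp only [this, hpiv, mul_ite, mul_one, mul_zero, Finset.sum_ite_eq, mem_univ, if_true]
  have h1 : Module.finrank (ZMod 2) (LinearMap.ker T) = n := by
    have := LinearMap.finrank_range_add_finrank_ker T
    rw [LinearMap.range_eq_top.2 hsurj, finrank_top, Module.finrank_fintype_fun_eq_card,
      Module.finrank_fintype_fun_eq_card, hcard, Fintype.card_fin] at this
    omega
  have hli : LinearIndependent (ZMod 2) h := by
    rw [Fintype.linearIndependent_iff]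
    intro g hg k
    have := congrFun hg (piv k)
    simp only [Finset.sum_apply, Pi.smul_apply, smul_eq_mul, hpiv, mul_ite, mul_one, mul_zero,
      Finset.sum_ite_eq', mem_univ, if_true, Pi.zero_apply] at this
    exact this
  have h2 : Module.finrank (ZMod 2) (Submodule.span (ZMod 2) (Set.range h)) = n := by
    rw [finrank_span_eq_card hli, Fintype.card_fin]
  have hle : Submodule.span (ZMod 2) (Set.range h) ≤ W :=
    Submodule.span_le.2 (by rintro _ ⟨i, rfl⟩; exact hW i)
  have h3 : Submodule.span (ZMod 2) (Set.range h) = LinearMap.ker T :=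
    Submodule.eq_of_le_of_finrank_eq (hle.trans hker) (by rw [h1, h2])
  exact le_antisymm (by rw [h3]; exact hker) hle

/-- Two words of a self-orthogonal subspace, of the same even weight `m`, meeting in at least
`m - 3` points, are equal or differ by a word of weight 4. -/
theorem eq_or_four {W : Submodule (ZMod 2) (X → ZMod 2)}
    (horth : ∀ u ∈ W, ∀ v ∈ W, ∑ x, u x * v x = 0) {S Y : Finset X} (hS : ind S ∈ W)
    (hY : ind Y ∈ W) {m : ℕ} (hm : Even m) (hSm : S.card = m) (hYm : Y.card = m)
    (hk : m ≤ (S ∩ Y).card + 3) :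
    S = Y ∨ ((symmDiff S Y).card = 4 ∧ ind (symmDiff S Y) ∈ W) := by
  have hev : Even (S ∩ Y).card := even_of_dot (horth _ hS _ hY)
  have h1 := card_sdiff_add_card_inter S Y
  have h2 := card_sdiff_add_card_inter Y S
  rw [inter_comm Y S] at h2
  have hle : (S ∩ Y).card ≤ m := hSm ▸ card_le_card inter_subset_left
  obtain ⟨a, ha⟩ := hev
  obtain ⟨b, hb⟩ := hm
  by_cases hc : (S ∩ Y).card = m
  · left
    have e1 : S ∩ Y = S := eq_of_subset_of_card_le inter_subset_left (by rw [hc, hSm])
    have e2 : S ∩ Y = Y := eq_of_subset_of_card_le inter_subset_right (by rw [hc, hYm])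
    rw [← e1, e2]
  · right
    refine ⟨?_, ?_⟩
    · have hd : Disjoint (S \ Y) (Y \ S) := disjoint_sdiff_sdiff
      have : symmDiff S Y = (S \ Y) ∪ (Y \ S) := rfl
      rw [this, card_union_of_disjoint hd]
      omega
    · rw [← ind_add]
      exact W.add_mem hS hY

end basic

end Cfsg.Agent.Lib.Helper8.CodeSpan
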