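import Mathlib
import Cfsg.Prelude.Def_Sporadic_a
import Cfsg.Agent.Lib.Helper8.Steiner

set_option autoImplicit false

namespace Cfsg.Agent.Lib.Helper8.Plane4

open Finset Cfsg.Agent.Lib.Helper8.Steiner

variable {α : Type*} [Fintype α] [DecidableEq α]

theorem card_lines (hα : Fintype.card α = 21) {L : Set (Finset α)}
    (hL : Cfsg.IsSteinerSystem 2 5 L) : (blocks L).card = 21 := by
  have h := moment hL ∅ 0 (by norm_num)
  have c1 : Nat.choose 21 2 = 210 := by decide
  have c2 : Nat.choose 5 2 = 10 := by decide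
  simp only [hα, Nat.choose_zero_right, sum_const, smul_eq_mul, mul_one, Nat.sub_zero, c1, c2,
    one_mul] at h
  omega

theorem m1 (hα : Fintype.card α = 21) {L : Set (Finset α)}
    (hL : Cfsg.IsSteinerSystem 2 5 L) (S : Finset α) :
    ∑ b ∈ blocks L, (b ∩ S).card = 5 * S.card := by
  have h := moment hL S 1 (by norm_num)
  simp only [hα, Nat.choose_one_right, Nat.reduceSub] at h
  omega

theorem m2 (hα : Fintype.card α = 21) {L : Set (Finset α)}
    (hL : Cfsg.IsSteinerSystem 2 5 L) (S : Finset α) :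
    ∑ b ∈ blocks L, (b ∩ S).card.choose 2 = S.card.choose 2 := by
  have h := moment hL S 2 (by norm_num)
  simp only [hα, Nat.choose_zero_right, Nat.reduceSub, mul_one] at h
  exact h

omit [Fintype α] in
theorem line_unique {L : Set (Finset α)} (hL : Cfsg.IsSteinerSystem 2 5 L) {l l' : Finset α}
    (hl : l ∈ L) (hl' : l' ∈ L) (h2 : 2 ≤ (l ∩ l').card) : l = l' := by
  obtain ⟨s, hs, hcard⟩ := Finset.exists_subset_card_eq h2
  obtain ⟨b, _, huniq⟩ := hL.2 s hcard
  rw [huniq l ⟨hl, hs.trans inter_subset_left⟩, huniq l' ⟨hl', hs.trans inter_subset_right⟩]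

theorem eq_of_sum_eq {ι : Type*} (s : Finset ι) (f : ι → ℕ) (c n : ℕ) (hcard : s.card = n)
    (hle : ∀ i ∈ s, f i ≤ c) (hsum : ∑ i ∈ s, f i = c * n) : ∀ i ∈ s, f i = c := by
  have h2 : ∑ i ∈ s, f i = ∑ i ∈ s, c := by
    rw [hsum, sum_const, smul_eq_mul, mul_comm, hcard]
  exact (Finset.sum_eq_sum_iff_of_le hle).1 h2

/-- Two distinct lines meet in exactly one point. -/
theorem meet (hα : Fintype.card α = 21) {L : Set (Finset α)}
    (hL : Cfsg.IsSteinerSystem 2 5 L) {l l' : Finset α}
    (hl : l ∈ L) (hl' : l' ∈ L) (hne : l' ≠ l) : (l' ∩ l).card = 1 := by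
  have h1 := m1 hα hL l
  rw [hL.1 l hl] at h1
  have hmem : l ∈ blocks L := mem_blocks.2 hl
  rw [← Finset.add_sum_erase _ _ hmem, Finset.inter_self, hL.1 l hl] at h1
  have hcard : ((blocks L).erase l).card = 20 := by
    rw [Finset.card_erase_of_mem hmem, card_lines hα hL]
  have hle : ∀ b ∈ (blocks L).erase l, (b ∩ l).card ≤ 1 := by
    intro b hb
    rw [mem_erase, mem_blocks] at hb
    by_contra hlt
    exact hb.1 (line_unique hL hb.2 hl (by omega))
  have hsum : ∑ b ∈ (blocks L).erase l, (b ∩ l).card = 1 * 20 := by omega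
  exact eq_of_sum_eq _ _ 1 20 hcard hle hsum l' (by rw [mem_erase, mem_blocks]; exact ⟨hne, hl'⟩)

/-- Lines through a point `x` not in `S`: each point of `S` is on exactly one of them. -/
theorem through (hα : Fintype.card α = 21) {L : Set (Finset α)}
    (hL : Cfsg.IsSteinerSystem 2 5 L) (x : α) (S : Finset α) (hx : x ∉ S) :
    ∑ b ∈ (blocks L).filter (fun b => x ∈ b), (b ∩ S).card = S.card := by
  have h := moment_through hL {x} S (by simpa using hx) 1 (by simp)
  simp only [hα, card_singleton, Nat.choose_one_right, Nat.reduceSub, Nat.choose_zero_right,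
    mul_one, singleton_subset_iff] at h
  exact h

omit [Fintype α] [DecidableEq α] in
theorem hall4 : Cfsg.IsSteinerSystem 4 4 {S : Finset α | S.card = 4} :=
  ⟨fun _ hb => hb, fun s hs => ⟨s, ⟨hs, subset_rfl⟩, fun b hb =>
    (eq_of_subset_of_card_le hb.2 (by rw [hb.1, hs])).symm⟩⟩

omit [DecidableEq α] in
theorem blocks_all4 : blocks {S : Finset α | S.card = 4} = powersetCard 4 univ := by
  ext S
  simp [mem_powersetCard]

/-- Number of 4-sets meeting a 5-set in at least 3 points. -/
theorem count_ge3 (hα : Fintype.card α = 21) (l : Finset α) (hl : l.card = 5) :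
    ((powersetCard 4 (univ : Finset α)).filter (fun S => 3 ≤ (l ∩ S).card)).card = 165 := by
  have h3 := moment (hall4 (α := α)) l 3 (by norm_num)
  have h4 := moment (hall4 (α := α)) l 4 (by norm_num)
  rw [blocks_all4] at h3 h4
  have c1 : Nat.choose 5 3 = 10 := by decide
  have c2 : Nat.choose 5 4 = 5 := by decide
  simp only [hα, hl, Nat.reduceSub, Nat.choose_self, Nat.choose_one_right, mul_one, c1, c2,
    Nat.choose_zero_right] at h3 h4
  have hpt : ∀ S ∈ powersetCard 4 (univ : Finset α),
      (if 3 ≤ (l ∩ S).card then 1 else 0) + 3 * (S ∩ l).card.choose 4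
        = (S ∩ l).card.choose 3 := by
    intro S hS
    rw [mem_powersetCard] at hS
    have hle : (S ∩ l).card ≤ 4 := (card_le_card inter_subset_left).trans hS.2.le
    rw [inter_comm l S]
    have h5 : (S ∩ l).card = 0 ∨ (S ∩ l).card = 1 ∨ (S ∩ l).card = 2 ∨ (S ∩ l).card = 3
        ∨ (S ∩ l).card = 4 := by omega
    rcases h5 with h | h | h | h | h <;> rw [h] <;> decide
  have hsum := sum_congr rfl hpt
  rw [sum_add_distrib, ← mul_sum, ← card_filter] at hsum
  omega

/-- The `k`-sets meeting every line in at most 2 points. -/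
noncomputable def arcs (L : Set (Finset α)) (k : ℕ) : Finset (Finset α) :=
  (powersetCard k univ).filter (fun S => ∀ l ∈ blocks L, (l ∩ S).card ≤ 2)

theorem mem_arcs {L : Set (Finset α)} {k : ℕ} {S : Finset α} :
    S ∈ arcs L k ↔ S.card = k ∧ ∀ l ∈ L, (l ∩ S).card ≤ 2 := by
  simp [arcs, mem_powersetCard]

theorem card_arcs4 (hα : Fintype.card α = 21) {L : Set (Finset α)}
    (hL : Cfsg.IsSteinerSystem 2 5 L) : (arcs L 4).card = 2520 := by
  have hpt : ∀ S ∈ powersetCard 4 (univ : Finset α),
      (if (∀ l ∈ blocks L, (l ∩ S).card ≤ 2) then 1 else 0)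
        + ∑ l ∈ blocks L, (if 3 ≤ (l ∩ S).card then 1 else 0) = 1 := by
    intro S hS
    rw [mem_powersetCard] at hS
    by_cases harc : ∀ l ∈ blocks L, (l ∩ S).card ≤ 2
    · have hz : ∑ l ∈ blocks L, (if 3 ≤ (l ∩ S).card then 1 else 0) = 0 := by
        apply Finset.sum_eq_zero
        intro l hl
        rw [if_neg]
        have := harc l hl
        omega
      rw [if_pos harc, hz]
    · rw [if_neg harc]
      push Not at harc
      obtain ⟨l₀, hl₀, h3⟩ := harc
      rw [zero_add, Finset.sum_eq_single l₀]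
      · rw [if_pos (by omega)]
      · intro l hl hne
        rw [if_neg]
        intro h3'
        apply hne
        apply line_unique hL (mem_blocks.1 hl) (mem_blocks.1 hl₀)
        have hu : ((l ∩ S) ∪ (l₀ ∩ S)).card ≤ 4 :=
          (card_le_card (union_subset inter_subset_right inter_subset_right)).trans hS.2.le
        have hi := card_union_add_card_inter (l ∩ S) (l₀ ∩ S)
        have hsub : (l ∩ S) ∩ (l₀ ∩ S) ⊆ l ∩ l₀ := by
          intro x hx
          simp only [mem_inter] at hx ⊢
          tauto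
        have := card_le_card hsub
        omega
      · intro h
        exact absurd hl₀ h
  have hsum := sum_congr rfl hpt
  rw [sum_add_distrib, ← card_filter, sum_comm] at hsum
  have hin : ∀ l ∈ blocks L, ∑ S ∈ powersetCard 4 (univ : Finset α),
      (if 3 ≤ (l ∩ S).card then 1 else 0) = 165 := by
    intro l hl
    rw [← card_filter]
    exact count_ge3 hα l (hL.1 l (mem_blocks.1 hl))
  rw [sum_congr rfl hin, sum_const, card_lines hα hL, sum_const, card_powersetCard, card_univ,
    hα] at hsum
  have c : Nat.choose 21 4 = 5985 := by decide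
  rw [c] at hsum
  simp only [smul_eq_mul, mul_one] at hsum
  unfold arcs
  omega

/-- The secants of a set `S`: lines meeting it in exactly two points. -/
noncomputable def sec (L : Set (Finset α)) (S : Finset α) : Finset (Finset α) :=
  (blocks L).filter (fun l => (l ∩ S).card = 2)

/-- Number of secants through a point. -/
noncomputable def sn (L : Set (Finset α)) (S : Finset α) (x : α) : ℕ :=
  ((sec L S).filter (fun l => x ∈ l)).card

theorem card_sec (hα : Fintype.card α = 21) {L : Set (Finset α)}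
    (hL : Cfsg.IsSteinerSystem 2 5 L) {S : Finset α} (hS : S ∈ arcs L 4) :
    (sec L S).card = 6 := by
  rw [mem_arcs] at hS
  have h2 := m2 hα hL S
  rw [hS.1] at h2
  have hpt : ∀ l ∈ blocks L, (l ∩ S).card.choose 2 = if (l ∩ S).card = 2 then 1 else 0 := by
    intro l hl
    have hle := hS.2 l (mem_blocks.1 hl)
    have h3 : (l ∩ S).card = 0 ∨ (l ∩ S).card = 1 ∨ (l ∩ S).card = 2 := by omega
    rcases h3 with h | h | h <;> rw [h] <;> decide
  rw [sum_congr rfl hpt, ← card_filter] at h2
  have c : Nat.choose 4 2 = 6 := by decide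
  rw [c] at h2
  exact h2

theorem sn_mem (hα : Fintype.card α = 21) {L : Set (Finset α)}
    (hL : Cfsg.IsSteinerSystem 2 5 L) {S : Finset α} (hS : S ∈ arcs L 4) {x : α} (hx : x ∈ S) :
    sn L S x = 3 := by
  rw [mem_arcs] at hS
  have h := through hα hL x (S.erase x) (by simp)
  rw [card_erase_of_mem hx, hS.1] at h
  have hpt : ∀ l ∈ (blocks L).filter (fun b => x ∈ b),
      (l ∩ S.erase x).card = if (l ∩ S).card = 2 then 1 else 0 := by
    intro l hl
    rw [mem_filter, mem_blocks] at hl
    have hle := hS.2 l hl.1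
    have hxl : x ∈ l ∩ S := mem_inter.2 ⟨hl.2, hx⟩
    have he : l ∩ S.erase x = (l ∩ S).erase x := by
      ext y
      simp only [mem_inter, mem_erase]
      tauto
    rw [he, card_erase_of_mem hxl]
    have hpos : 0 < (l ∩ S).card := card_pos.2 ⟨x, hxl⟩
    have h3 : (l ∩ S).card = 1 ∨ (l ∩ S).card = 2 := by omega
    rcases h3 with h | h <;> rw [h] <;> decide
  rw [sum_congr rfl hpt, ← card_filter, filter_filter] at h
  unfold sn sec
  rw [filter_filter]
  have e : (blocks L).filter (fun a => (a ∩ S).card = 2 ∧ x ∈ a)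
      = (blocks L).filter (fun a => x ∈ a ∧ (a ∩ S).card = 2) := by
    ext l
    simp only [mem_filter]
    tauto
  rw [e, h]

theorem two_sn_le (hα : Fintype.card α = 21) {L : Set (Finset α)}
    (hL : Cfsg.IsSteinerSystem 2 5 L) {S : Finset α} (hS : S ∈ arcs L 4) {x : α} (hx : x ∉ S)
    (l : Finset α) (hl : l ∈ L) (hxl : x ∈ l) (hl2 : (l ∩ S).card ≠ 2) :
    2 * sn L S x + (l ∩ S).card ≤ 4 := by
  have hS' := mem_arcs.1 hS
  have h := through hα hL x S hx
  rw [hS'.1] at h
  have hsub : insert l ((sec L S).filter (fun l => x ∈ l))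
      ⊆ (blocks L).filter (fun b => x ∈ b) := by
    intro b hb
    rw [mem_insert] at hb
    rcases hb with rfl | hb
    · exact mem_filter.2 ⟨mem_blocks.2 hl, hxl⟩
    · rw [mem_filter] at hb
      unfold sec at hb
      rw [mem_filter] at hb
      exact mem_filter.2 ⟨hb.1.1, hb.2⟩
  have hle := Finset.sum_le_sum_of_subset (f := fun b => (b ∩ S).card) hsub
  have hnot : l ∉ (sec L S).filter (fun l => x ∈ l) := by
    intro hmem
    rw [mem_filter] at hmem
    unfold sec at hmem
    rw [mem_filter] at hmem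
    exact hl2 hmem.1.2
  rw [Finset.sum_insert hnot] at hle
  have hconst : ∑ b ∈ (sec L S).filter (fun l => x ∈ l), (b ∩ S).card
      = 2 * sn L S x := by
    rw [Finset.sum_const_nat (m := 2)]
    · unfold sn
      rw [mul_comm]
    · intro b hb
      rw [mem_filter] at hb
      unfold sec at hb
      rw [mem_filter] at hb
      exact hb.1.2
  rw [hconst] at hle
  omega

theorem sn_le (hα : Fintype.card α = 21) {L : Set (Finset α)}
    (hL : Cfsg.IsSteinerSystem 2 5 L) {S : Finset α} (hS : S ∈ arcs L 4) {x : α} (hx : x ∉ S) :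
    sn L S x ≤ 2 := by
  have hS' := mem_arcs.1 hS
  have h := through hα hL x S hx
  rw [hS'.1] at h
  have hsub : (sec L S).filter (fun l => x ∈ l) ⊆ (blocks L).filter (fun b => x ∈ b) := by
    intro b hb
    rw [mem_filter] at hb
    unfold sec at hb
    rw [mem_filter] at hb
    exact mem_filter.2 ⟨hb.1.1, hb.2⟩
  have hle := Finset.sum_le_sum_of_subset (f := fun b => (b ∩ S).card) hsub
  have hconst : ∑ b ∈ (sec L S).filter (fun l => x ∈ l), (b ∩ S).card
      = 2 * sn L S x := by
    rw [Finset.sum_const_nat (m := 2)]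
    · unfold sn
      rw [mul_comm]
    · intro b hb
      rw [mem_filter] at hb
      unfold sec at hb
      rw [mem_filter] at hb
      exact hb.1.2
  rw [hconst] at hle
  omega

/-- Sum of the secant numbers over the points of a set. -/
theorem sum_sn_on (L : Set (Finset α)) (S : Finset α) (P : Finset α) :
    ∑ x ∈ P, sn L S x = ∑ l ∈ sec L S, (l ∩ P).card := by
  have key := sum_card_bipartiteAbove_eq_sum_card_bipartiteBelow
    (s := P) (t := sec L S) (fun x l => x ∈ l)
  have hR : ∀ l ∈ sec L S, #(P.bipartiteBelow (fun x l => x ∈ l) l) = (l ∩ P).card := by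
    intro l _
    congr 1
    ext x
    simp only [mem_bipartiteBelow, mem_inter]
    tauto
  rw [sum_congr rfl hR] at key
  exact key

theorem sum_sn (hα : Fintype.card α = 21) {L : Set (Finset α)}
    (hL : Cfsg.IsSteinerSystem 2 5 L) {S : Finset α} (hS : S ∈ arcs L 4) :
    ∑ x, sn L S x = 30 := by
  rw [sum_sn_on, Finset.sum_const_nat (m := 5), card_sec hα hL hS]
  intro l hl
  unfold sec at hl
  rw [mem_filter, mem_blocks] at hl
  rw [inter_univ]
  exact hL.1 l hl.1

theorem sum_sn2 (hα : Fintype.card α = 21) {L : Set (Finset α)}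
    (hL : Cfsg.IsSteinerSystem 2 5 L) {S : Finset α} (hS : S ∈ arcs L 4) :
    ∑ x, (sn L S x).choose 2 = 15 := by
  let r : α → Finset (Finset α) → Prop := fun x P => ∀ l ∈ P, x ∈ l
  have key := sum_card_bipartiteAbove_eq_sum_card_bipartiteBelow
    (s := (univ : Finset α)) (t := powersetCard 2 (sec L S)) r
  have hL' : ∀ x ∈ (univ : Finset α),
      #((powersetCard 2 (sec L S)).bipartiteAbove r x) = (sn L S x).choose 2 := by
    intro x _
    unfold sn
    rw [← card_powersetCard]
    congr 1
    ext P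
    simp only [mem_bipartiteAbove, mem_powersetCard, r]
    constructor
    · rintro ⟨⟨h1, h2⟩, h3⟩
      exact ⟨fun l hl => mem_filter.2 ⟨h1 hl, h3 l hl⟩, h2⟩
    · rintro ⟨h1, h2⟩
      exact ⟨⟨fun l hl => (mem_filter.1 (h1 hl)).1, h2⟩, fun l hl => (mem_filter.1 (h1 hl)).2⟩
  have hR : ∀ P ∈ powersetCard 2 (sec L S), #((univ : Finset α).bipartiteBelow r P) = 1 := by
    intro P hP
    rw [mem_powersetCard] at hP
    obtain ⟨l₁, l₂, hne, rfl⟩ := Finset.card_eq_two.1 hP.2
    have h1 : l₁ ∈ sec L S := hP.1 (by simp)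
    have h2 : l₂ ∈ sec L S := hP.1 (by simp)
    unfold sec at h1 h2
    rw [mem_filter, mem_blocks] at h1 h2
    rw [← meet hα hL h2.1 h1.1 hne]
    congr 1
    ext x
    simp only [mem_bipartiteBelow, mem_univ, true_and, r, mem_insert, mem_singleton,
      forall_eq_or_imp, forall_eq, mem_inter]
  rw [sum_congr rfl hL', sum_congr rfl hR, sum_const, card_powersetCard, card_sec hα hL hS] at key
  rw [key]
  decide

/-- The points outside `S` lying on no secant. -/
noncomputable def nuc (L : Set (Finset α)) (S : Finset α) : Finset α :=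
  Sᶜ.filter (fun x => sn L S x = 0)

theorem card_nuc (hα : Fintype.card α = 21) {L : Set (Finset α)}
    (hL : Cfsg.IsSteinerSystem 2 5 L) {S : Finset α} (hS : S ∈ arcs L 4) :
    (nuc L S).card = 2 := by
  have hS' := mem_arcs.1 hS
  have h1 := sum_sn hα hL hS
  have h2 := sum_sn2 hα hL hS
  rw [← Finset.sum_add_sum_compl S] at h1 h2
  have e1 : ∑ x ∈ S, sn L S x = 12 := by
    rw [Finset.sum_const_nat (m := 3) (fun x hx => sn_mem hα hL hS hx), hS'.1]
  have e2 : ∑ x ∈ S, (sn L S x).choose 2 = 12 := by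
    rw [Finset.sum_const_nat (m := 3), hS'.1]
    intro x hx
    rw [sn_mem hα hL hS hx]
    decide
  have hpt : ∀ x ∈ Sᶜ, (if sn L S x = 0 then 1 else 0) + sn L S x
      = 1 + (sn L S x).choose 2 := by
    intro x hx
    have hle := sn_le hα hL hS (mem_compl.1 hx)
    have h3 : sn L S x = 0 ∨ sn L S x = 1 ∨ sn L S x = 2 := by omega
    rcases h3 with h | h | h <;> rw [h] <;> decide
  have hsum := sum_congr rfl hpt
  rw [sum_add_distrib, sum_add_distrib, ← card_filter, sum_const, card_compl, hα, hS'.1] at hsum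
  unfold nuc
  simp only [smul_eq_mul, mul_one, Nat.reduceSub] at hsum
  omega

omit [Fintype α] in
theorem sdiff_sum (l S : Finset α) (f : α → ℕ) :
    ∑ x ∈ l, f x = ∑ x ∈ l ∩ S, f x + ∑ x ∈ l \ S, f x := by
  rw [← Finset.sum_union (Finset.disjoint_left.2 (fun x hx hx' =>
    (mem_sdiff.1 hx').2 (mem_inter.1 hx).2)), Finset.union_comm, Finset.sdiff_union_inter]

theorem mem_nuc {L : Set (Finset α)} {S : Finset α} {x : α} :
    x ∈ nuc L S ↔ x ∉ S ∧ sn L S x = 0 := by
  unfold nuc
  rw [mem_filter, mem_compl]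

theorem nuc_disjoint (L : Set (Finset α)) (S : Finset α) : Disjoint S (nuc L S) := by
  rw [Finset.disjoint_left]
  intro x hx hx'
  exact (mem_nuc.1 hx').1 hx

theorem arc_union (hα : Fintype.card α = 21) {L : Set (Finset α)}
    (hL : Cfsg.IsSteinerSystem 2 5 L) {S : Finset α} (hS : S ∈ arcs L 4) :
    S ∪ nuc L S ∈ arcs L 6 := by
  have hS' := mem_arcs.1 hS
  rw [mem_arcs]
  refine ⟨by rw [card_union_of_disjoint (nuc_disjoint L S), hS'.1, card_nuc hα hL hS], ?_⟩
  intro l hl
  have hsplit : (l ∩ (S ∪ nuc L S)).card = (l ∩ S).card + (l ∩ nuc L S).card := by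
    rw [inter_union_distrib_left, card_union_of_disjoint]
    exact (nuc_disjoint L S).mono inter_subset_right inter_subset_right
  rw [hsplit]
  have hle := hS'.2 l hl
  have hT := card_nuc hα hL hS
  have hTle : (l ∩ nuc L S).card ≤ 2 := (card_le_card inter_subset_right).trans hT.le
  by_cases h2 : (l ∩ S).card = 2
  · have hempty : l ∩ nuc L S = ∅ := by
      rw [eq_empty_iff_forall_notMem]
      intro x hx
      rw [mem_inter, mem_nuc] at hx
      have hmem : l ∈ (sec L S).filter (fun l => x ∈ l) := by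
        unfold sec
        rw [mem_filter, mem_filter, mem_blocks]
        exact ⟨⟨hl, h2⟩, hx.1⟩
      have hpos : 0 < sn L S x := card_pos.2 ⟨l, hmem⟩
      omega
    rw [hempty, card_empty]
    omega
  · by_cases h1 : (l ∩ S).card = 1
    · have hsum : ∑ x ∈ l, sn L S x = 6 := by
        rw [sum_sn_on, Finset.sum_const_nat (m := 1), card_sec hα hL hS]
        intro l' hl'
        unfold sec at hl'
        rw [mem_filter, mem_blocks] at hl'
        exact meet hα hL hl hl'.1 (by rintro rfl; exact h2 hl'.2)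
      rw [sdiff_sum l S] at hsum
      have e1 : ∑ x ∈ l ∩ S, sn L S x = 3 := by
        rw [Finset.sum_const_nat (m := 3), h1]
        intro x hx
        exact sn_mem hα hL hS (mem_inter.1 hx).2
      have hle1 : ∀ x ∈ l \ S, sn L S x ≤ 1 := by
        intro x hx
        rw [mem_sdiff] at hx
        have := two_sn_le hα hL hS hx.2 l hl hx.1 h2
        omega
      have hcard : (l \ S).card = 4 := by
        have := card_sdiff_add_card_inter l S
        rw [hL.1 l hl] at this
        omega
      have hnuc : l ∩ nuc L S = (l \ S).filter (fun x => sn L S x = 0) := by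
        ext x
        simp only [mem_inter, mem_nuc, mem_filter, mem_sdiff]
        tauto
      have hpt : ∀ x ∈ l \ S, (if sn L S x = 0 then 1 else 0) + sn L S x = 1 := by
        intro x hx
        have := hle1 x hx
        have h3 : sn L S x = 0 ∨ sn L S x = 1 := by omega
        rcases h3 with h | h <;> rw [h] <;> decide
      have hs := sum_congr rfl hpt
      rw [sum_add_distrib, ← card_filter, sum_const, hcard, ← hnuc] at hs
      simp only [smul_eq_mul, mul_one] at hs
      omega
    · omega

theorem unique_oval (hα : Fintype.card α = 21) {L : Set (Finset α)}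
    (hL : Cfsg.IsSteinerSystem 2 5 L) {S : Finset α} (hS : S ∈ arcs L 4) {H : Finset α}
    (hH : H ∈ arcs L 6) (hSH : S ⊆ H) : H = S ∪ nuc L S := by
  have hS' := mem_arcs.1 hS
  have hH' := mem_arcs.1 hH
  have hsub : H \ S ⊆ nuc L S := by
    intro x hx
    rw [mem_sdiff] at hx
    rw [mem_nuc]
    refine ⟨hx.2, ?_⟩
    by_contra hne
    have hpos : 0 < sn L S x := Nat.pos_of_ne_zero hne
    unfold sn at hpos
    obtain ⟨l, hl⟩ := card_pos.1 hpos
    rw [mem_filter] at hl
    unfold sec at hl
    rw [mem_filter, mem_blocks] at hl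
    have hins : insert x (l ∩ S) ⊆ l ∩ H := by
      intro y hy
      rw [mem_insert] at hy
      rcases hy with rfl | hy
      · exact mem_inter.2 ⟨hl.2, hx.1⟩
      · exact mem_inter.2 ⟨(mem_inter.1 hy).1, hSH (mem_inter.1 hy).2⟩
    have hc := card_le_card hins
    rw [card_insert_of_notMem (by intro h; exact hx.2 (mem_inter.1 h).2), hl.1.2] at hc
    have := hH'.2 l hl.1.1
    omega
  have hcard : (H \ S).card = 2 := by
    rw [card_sdiff_of_subset hSH, hH'.1, hS'.1]
  have heq : H \ S = nuc L S :=
    eq_of_subset_of_card_le hsub (by rw [hcard, card_nuc hα hL hS])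
  rw [← heq, union_sdiff_of_subset hSH]

theorem card_arcs6 (hα : Fintype.card α = 21) {L : Set (Finset α)}
    (hL : Cfsg.IsSteinerSystem 2 5 L) : (arcs L 6).card = 168 := by
  let r : Finset α → Finset α → Prop := fun S H => S ⊆ H
  have key := sum_card_bipartiteAbove_eq_sum_card_bipartiteBelow
    (s := arcs L 4) (t := arcs L 6) r
  have hL' : ∀ S ∈ arcs L 4, #((arcs L 6).bipartiteAbove r S) = 1 := by
    intro S hS
    rw [card_eq_one]
    refine ⟨S ∪ nuc L S, ?_⟩
    ext H
    simp only [mem_bipartiteAbove, mem_singleton, r]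
    constructor
    · rintro ⟨hH, hSH⟩
      exact unique_oval hα hL hS hH hSH
    · rintro rfl
      exact ⟨arc_union hα hL hS, subset_union_left⟩
  have hR : ∀ H ∈ arcs L 6, #((arcs L 4).bipartiteBelow r H) = 15 := by
    intro H hH
    have hH' := mem_arcs.1 hH
    have h1 : (arcs L 4).bipartiteBelow r H = powersetCard 4 H := by
      ext S
      simp only [mem_bipartiteBelow, mem_powersetCard, r, mem_arcs]
      constructor
      · rintro ⟨⟨h4, _⟩, hsub⟩
        exact ⟨hsub, h4⟩
      · rintro ⟨hsub, h4⟩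
        refine ⟨⟨h4, fun l hl => ?_⟩, hsub⟩
        exact (card_le_card (inter_subset_inter (subset_refl l) hsub)).trans (hH'.2 l hl)
    rw [h1, card_powersetCard, hH'.1]
    decide
  rw [sum_congr rfl hL', sum_congr rfl hR, sum_const, sum_const, card_arcs4 hα hL] at key
  simp only [smul_eq_mul, mul_one] at key
  omega

end Cfsg.Agent.Lib.Helper8.Plane4
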