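import Mathlib
import Cfsg.Prelude.Def_Sporadic_a
import Cfsg.Agent.Lib.Helper8.Steiner
import Cfsg.Agent.Lib.Helper8.Plane4

/-!
The projective plane of order 4 from a labelled hyperoval: points are the six points of the
hyperoval and the fifteen perfect matchings of the six labels; lines are the fifteen pairs of
labels and the six families of five pairwise disjoint matchings.  Every `S(2,5,21)` with a
labelled 6-arc is carried onto this model by a bijection extending the labelling.
-/

set_option autoImplicit false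

namespace Cfsg.Agent.Lib.Helper8.Plane4Model

open Finset Cfsg.Agent.Lib.Helper8.Steiner Cfsg.Agent.Lib.Helper8.Plane4

/-- The fifteen fixed-point-free involutions of six labels. -/
def syn : Fin 15 → Fin 6 → Fin 6 :=
  ![![1, 0, 3, 2, 5, 4], ![1, 0, 4, 5, 2, 3], ![1, 0, 5, 4, 3, 2], ![2, 3, 0, 1, 5, 4],
    ![2, 4, 0, 5, 1, 3], ![2, 5, 0, 4, 3, 1], ![3, 2, 1, 0, 5, 4], ![3, 4, 5, 0, 1, 2],
    ![3, 5, 4, 0, 2, 1], ![4, 2, 1, 5, 0, 3], ![4, 3, 5, 1, 0, 2], ![4, 5, 3, 2, 0, 1],
    ![5, 2, 1, 4, 3, 0], ![5, 3, 4, 1, 2, 0], ![5, 4, 3, 2, 1, 0]]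

/-- The six families of five pairwise disjoint involutions. -/
def tot : Fin 6 → Finset (Fin 15) :=
  ![{0, 4, 8, 10, 12}, {0, 5, 7, 9, 13}, {1, 3, 7, 11, 12}, {1, 5, 6, 10, 14},
    {2, 3, 8, 9, 14}, {2, 4, 6, 11, 13}]

/-- Two involutions with no common pair. -/
abbrev D (s t : Fin 15) : Prop := ∀ i, syn s i ≠ syn t i

/-- The model point set. -/
abbrev P21 := Fin 6 ⊕ Fin 15

def secantLine (i j : Fin 6) : Finset P21 :=
  {Sum.inl i, Sum.inl j} ∪ (univ.filter (fun s => syn s i = j)).image Sum.inr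

def totalLine (k : Fin 6) : Finset P21 := (tot k).image Sum.inr

/-- The lines of the model plane. -/
def modelLines : Set (Finset P21) :=
  {l | (∃ i j, i ≠ j ∧ l = secantLine i j) ∨ ∃ k, l = totalLine k}

/-- The function with six given values. -/
def fpf (a b c d e f : Fin 6) : Fin 6 → Fin 6 := ![a, b, c, d, e, f]

theorem m0a : ∀ a b c : Fin 6, a ≠ 0 → b ≠ 1 → c ≠ 2 → a ≠ b → a ≠ c → b ≠ c →
    (a = 1 → b = 0) → (a = 2 → c = 0) → (b = 0 → a = 1) → (b = 2 → c = 1) → (c = 0 → a = 2) →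
    (c = 1 → b = 2) → ∃ s : Fin 15, syn s 0 = a ∧ syn s 1 = b ∧ syn s 2 = c := by
  decide +kernel

/-- A fixed-point-free involution agreeing with a table entry on the first three labels agrees
with it everywhere. -/
def good (s : Fin 15) (d e f : Fin 6) : Prop :=
  (∀ i, fpf (syn s 0) (syn s 1) (syn s 2) d e f i ≠ i ∧
    fpf (syn s 0) (syn s 1) (syn s 2) d e f (fpf (syn s 0) (syn s 1) (syn s 2) d e f i) = i) →
    syn s 3 = d ∧ syn s 4 = e ∧ syn s 5 = f

instance (s : Fin 15) (d e f : Fin 6) : Decidable (good s d e f) := by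
  unfold good; infer_instance

theorem m0b : ∀ (s : Fin 15) (d e f : Fin 6), good s d e f := by
  decide +kernel

theorem m0 (g : Fin 6 → Fin 6) (h1 : ∀ i, g i ≠ i) (h2 : ∀ i, g (g i) = i) :
    ∃ s : Fin 15, ∀ i, syn s i = g i := by
  have hinj : Function.Injective g := fun x y hxy => by rw [← h2 x, ← h2 y, hxy]
  obtain ⟨s, hs0, hs1, hs2⟩ := m0a (g 0) (g 1) (g 2) (h1 0) (h1 1) (h1 2)
    (fun h => absurd (hinj h) (by decide)) (fun h => absurd (hinj h) (by decide))
    (fun h => absurd (hinj h) (by decide))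
    (fun h => by rw [← h, h2]) (fun h => by rw [← h, h2])
    (fun h => by rw [← h, h2]) (fun h => by rw [← h, h2])
    (fun h => by rw [← h, h2]) (fun h => by rw [← h, h2])
  have hg : g = fpf (syn s 0) (syn s 1) (syn s 2) (g 3) (g 4) (g 5) := by
    rw [hs0, hs1, hs2]
    ext i; fin_cases i <;> rfl
  obtain ⟨h3, h4, h5⟩ := m0b s (g 3) (g 4) (g 5)
    (by rw [← hg]; exact fun i => ⟨h1 i, h2 i⟩)
  refine ⟨s, fun i => ?_⟩
  fin_cases i <;> assumption

theorem syn_inj : ∀ s t : Fin 15, (∀ i, syn s i = syn t i) → s = t := by decide +kernel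

theorem m1 : ∀ s t : Fin 15, D s t → ∃ k, s ∈ tot k ∧ t ∈ tot k ∧
    ∀ u v, D s u → D t u → D s v → D t v → D u v → u ∈ tot k := by decide +kernel

theorem card_secant : ∀ i j : Fin 6, i ≠ j → (secantLine i j).card = 5 := by decide +kernel

theorem card_tot : ∀ k : Fin 6, (tot k).card = 5 := by decide +kernel

theorem tot_D : ∀ k : Fin 6, ∀ s ∈ tot k, ∀ t ∈ tot k, s ≠ t → D s t := by decide +kernel

theorem tot_unique : ∀ k k' : Fin 6, ∀ s t : Fin 15, s ≠ t → s ∈ tot k → t ∈ tot k → s ∈ tot k' →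
    t ∈ tot k' → k = k' := by decide +kernel

theorem syn_ne : ∀ (s : Fin 15) (i : Fin 6), syn s i ≠ i := by decide +kernel

theorem syn_syn : ∀ (s : Fin 15) (i : Fin 6), syn s (syn s i) = i := by decide +kernel


theorem exists_other : ∀ s : Fin 15, ∃ i1 : Fin 6, i1 ≠ 0 ∧ i1 ≠ syn s 0 := by decide +kernel

section abstract

variable {α : Type*} [Fintype α] [DecidableEq α]

/-- A plane of order 4 with six labelled points, no three on a line. -/
structure Frame (L : Set (Finset α)) (e : Fin 6 → α) : Prop where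
  card : Fintype.card α = 21
  st : Cfsg.IsSteinerSystem 2 5 L
  inj : Function.Injective e
  arc : ∀ l ∈ L, (l ∩ univ.image e).card ≤ 2

omit [Fintype α] in
theorem exists_line {L : Set (Finset α)} (hL : Cfsg.IsSteinerSystem 2 5 L) {x y : α}
    (hxy : x ≠ y) : ∃ l ∈ L, x ∈ l ∧ y ∈ l := by
  obtain ⟨l, ⟨hl, hs⟩, -⟩ := hL.2 {x, y} (card_pair hxy)
  exact ⟨l, hl, hs (by simp), hs (by simp)⟩

omit [Fintype α] in
theorem line_eq {L : Set (Finset α)} (hL : Cfsg.IsSteinerSystem 2 5 L) {l l' : Finset α}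
    (hl : l ∈ L) (hl' : l' ∈ L) {x y : α} (hxy : x ≠ y) (hx : x ∈ l) (hy : y ∈ l)
    (hx' : x ∈ l') (hy' : y ∈ l') : l = l' := by
  obtain ⟨b, -, huniq⟩ := hL.2 {x, y} (card_pair hxy)
  rw [huniq l ⟨hl, by simp [insert_subset_iff, hx, hy]⟩,
    huniq l' ⟨hl', by simp [insert_subset_iff, hx', hy']⟩]

theorem card_through_pt (hα : Fintype.card α = 21) {L : Set (Finset α)}
    (hL : Cfsg.IsSteinerSystem 2 5 L) (x : α) :
    ((blocks L).filter (fun b => x ∈ b)).card = 5 := by
  have h := card_through_mul hL {x} (by simp)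
  simp only [card_singleton, hα, singleton_subset_iff] at h
  norm_num at h
  omega

variable {L : Set (Finset α)} {e : Fin 6 → α}

theorem secant_card (F : Frame L e) {l : Finset α} (hl : l ∈ L) {i : Fin 6} (hi : e i ∈ l) :
    (l ∩ (univ.image e).erase (e i)).card = 1 := by
  have h := through F.card F.st (e i) ((univ.image e).erase (e i)) (by simp)
  have hS : ((univ.image e).erase (e i)).card = 5 := by
    rw [card_erase_of_mem (by simp), card_image_of_injective _ F.inj]; simp
  rw [hS] at h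
  have hle : ∀ b ∈ (blocks L).filter (fun b => e i ∈ b),
      (b ∩ (univ.image e).erase (e i)).card ≤ 1 := by
    intro b hb
    rw [mem_filter, mem_blocks] at hb
    have h2 := F.arc b hb.1
    have h3 : b ∩ univ.image e = insert (e i) (b ∩ (univ.image e).erase (e i)) := by
      ext x
      simp only [mem_inter, mem_insert, mem_erase]
      constructor
      · rintro ⟨hx1, hx2⟩
        by_cases hx : x = e i
        · exact Or.inl hx
        · exact Or.inr ⟨hx1, hx, hx2⟩
      · rintro (rfl | ⟨hx1, -, hx2⟩)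
        · exact ⟨hb.2, by simp⟩
        · exact ⟨hx1, hx2⟩
    rw [h3, card_insert_of_notMem (by simp)] at h2
    omega
  exact eq_of_sum_eq _ _ 1 5 (card_through_pt F.card F.st (e i)) hle (by omega) l
    (by simp [hl, hi])

theorem secant_other (F : Frame L e) {l : Finset α} (hl : l ∈ L) {i : Fin 6} (hi : e i ∈ l) :
    ∃ j, j ≠ i ∧ e j ∈ l ∧ ∀ k, e k ∈ l → k = i ∨ k = j := by
  obtain ⟨y, hy⟩ := card_eq_one.1 (secant_card F hl hi)
  have hy' : y ∈ l ∩ (univ.image e).erase (e i) := by rw [hy]; simp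
  simp only [mem_inter, mem_erase, mem_image, mem_univ, true_and] at hy'
  obtain ⟨hyl, hne, j, rfl⟩ := hy'
  refine ⟨j, fun h => hne (by rw [h]), hyl, fun k hk => ?_⟩
  by_cases hki : k = i
  · exact Or.inl hki
  · right
    have : e k ∈ l ∩ (univ.image e).erase (e i) := by
      simp [hk, F.inj.ne hki]
    rw [hy, mem_singleton] at this
    exact F.inj this

/-- `R L e p i j`: the line through `p` and `e i` also passes through `e j`, `j ≠ i`. -/
def R (L : Set (Finset α)) (e : Fin 6 → α) (p : α) (i j : Fin 6) : Prop :=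
  j ≠ i ∧ ∃ l ∈ L, p ∈ l ∧ e i ∈ l ∧ e j ∈ l

theorem R_exists (F : Frame L e) {p : α} (hp : ∀ i, e i ≠ p) (i : Fin 6) : ∃ j, R L e p i j := by
  obtain ⟨l, hl, hpl, hil⟩ := exists_line F.st (Ne.symm (hp i))
  obtain ⟨j, hj, hjl, -⟩ := secant_other F hl hil
  exact ⟨j, hj, l, hl, hpl, hil, hjl⟩

theorem R_unique (F : Frame L e) {p : α} (hp : ∀ i, e i ≠ p) {i j j' : Fin 6}
    (h : R L e p i j) (h' : R L e p i j') : j = j' := by
  obtain ⟨hj, l, hl, hpl, hil, hjl⟩ := h
  obtain ⟨hj', l', hl', hpl', hil', hjl'⟩ := h'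
  have : l = l' := line_eq F.st hl hl' (Ne.symm (hp i)) hpl hil hpl' hil'
  subst this
  obtain ⟨j0, hj0, -, huniq⟩ := secant_other F hl hil
  rcases huniq j hjl with h1 | h1
  · exact absurd h1 hj
  rcases huniq j' hjl' with h2 | h2
  · exact absurd h2 hj'
  rw [h1, h2]

omit [Fintype α] [DecidableEq α] in
theorem R_symm {p : α} {i j : Fin 6} (h : R L e p i j) : R L e p j i := by
  obtain ⟨hj, l, hl, a, b, c⟩ := h
  exact ⟨hj.symm, l, hl, a, c, b⟩

open Classical in
/-- The label paired with `i` by the point `p`. -/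
noncomputable def mm (L : Set (Finset α)) (e : Fin 6 → α) (p : α) (i : Fin 6) : Fin 6 :=
  if h : ∃ j, R L e p i j then Classical.choose h else i

theorem mm_spec (F : Frame L e) {p : α} (hp : ∀ i, e i ≠ p) (i : Fin 6) :
    R L e p i (mm L e p i) := by
  unfold mm
  rw [dif_pos (R_exists F hp i)]
  exact Classical.choose_spec (R_exists F hp i)

theorem mm_eq (F : Frame L e) {p : α} (hp : ∀ i, e i ≠ p) {i j : Fin 6} :
    mm L e p i = j ↔ R L e p i j :=
  ⟨fun h => h ▸ mm_spec F hp i, fun h => R_unique F hp (mm_spec F hp i) h⟩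

theorem exists_sidx (F : Frame L e) {p : α} (hp : ∀ i, e i ≠ p) :
    ∃ s : Fin 15, ∀ i, syn s i = mm L e p i :=
  m0 _ (fun i => (mm_spec F hp i).1) (fun i => (mm_eq F hp).2 (R_symm (mm_spec F hp i)))

open Classical in
/-- The bijection onto the model. -/
noncomputable def sig (L : Set (Finset α)) (e : Fin 6 → α) (x : α) : P21 :=
  if h : ∃ i, e i = x then Sum.inl (Classical.choose h)
  else if h' : ∃ s : Fin 15, ∀ i, syn s i = mm L e x i then Sum.inr (Classical.choose h')
  else Sum.inl 0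

theorem sig_e (F : Frame L e) (i : Fin 6) : sig L e (e i) = Sum.inl i := by
  have h : ∃ j, e j = e i := ⟨i, rfl⟩
  unfold sig
  rw [dif_pos h]
  exact congrArg Sum.inl (F.inj (Classical.choose_spec h))

theorem sig_out (F : Frame L e) {p : α} (hp : ∀ i, e i ≠ p) :
    ∃ s, sig L e p = Sum.inr s ∧ ∀ i j, syn s i = j ↔ R L e p i j := by
  have h : ¬ ∃ i, e i = p := fun ⟨i, hi⟩ => hp i hi
  have h' := exists_sidx F hp
  refine ⟨Classical.choose h', ?_, fun i j => ?_⟩
  · unfold sig
    rw [dif_neg h, dif_pos h']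
  · rw [Classical.choose_spec h' i]
    exact mm_eq F hp

theorem sig_inj (F : Frame L e) : Function.Injective (sig L e) := by
  intro x y hxy
  by_cases hx : ∃ i, e i = x
  · obtain ⟨i, rfl⟩ := hx
    rw [sig_e F] at hxy
    by_cases hy : ∃ j, e j = y
    · obtain ⟨j, rfl⟩ := hy
      rw [sig_e F] at hxy
      rw [Sum.inl.inj hxy]
    · obtain ⟨s, hs, -⟩ := sig_out F (not_exists.1 hy)
      rw [hs] at hxy
      cases hxy
  · by_cases hy : ∃ j, e j = y
    · obtain ⟨j, rfl⟩ := hy
      rw [sig_e F] at hxy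
      obtain ⟨s, hs, -⟩ := sig_out F (not_exists.1 hx)
      rw [hs] at hxy
      cases hxy
    · obtain ⟨s, hs, hsR⟩ := sig_out F (not_exists.1 hx)
      obtain ⟨t, ht, htR⟩ := sig_out F (not_exists.1 hy)
      rw [hs, ht] at hxy
      have hst := Sum.inr.inj hxy
      subst hst
      by_contra hne
      obtain ⟨i1, h10, h1j⟩ := exists_other s
      obtain ⟨-, l, hl, hxl, h0l, hjl⟩ := (hsR 0 _).1 rfl
      obtain ⟨-, l', hl', hyl', h0l', hjl'⟩ := (htR 0 _).1 rfl
      have h1 : l = l' := line_eq F.st hl hl' (F.inj.ne (syn_ne s 0).symm) h0l hjl h0l' hjl'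
      subst h1
      obtain ⟨-, m, hm, hxm, h1m, hj1m⟩ := (hsR i1 _).1 rfl
      obtain ⟨-, m', hm', hym', h1m', hj1m'⟩ := (htR i1 _).1 rfl
      have h2 : m = m' := line_eq F.st hm hm' (F.inj.ne (syn_ne s i1).symm) h1m hj1m h1m' hj1m'
      subst h2
      have hlm : l = m := line_eq F.st hl hm hne hxl hyl' hxm hym'
      subst hlm
      obtain ⟨j0, -, -, huniq⟩ := secant_other F hl h0l
      rcases huniq i1 h1m with h | h
      · exact h10 h
      · rcases huniq (syn s 0) hjl with h' | h'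
        · exact syn_ne s 0 h'
        · exact h1j (h.trans h'.symm)

theorem image_secant (F : Frame L e) {l : Finset α} (hl : l ∈ L) {i : Fin 6} (hi : e i ∈ l) :
    ∃ j, j ≠ i ∧ e j ∈ l ∧ l.image (sig L e) = secantLine i j := by
  obtain ⟨j, hj, hjl, huniq⟩ := secant_other F hl hi
  refine ⟨j, hj, hjl, eq_of_subset_of_card_le ?_ ?_⟩
  · intro y hy
    obtain ⟨x, hx, rfl⟩ := mem_image.1 hy
    by_cases hxe : ∃ k, e k = x
    · obtain ⟨k, rfl⟩ := hxe
      rw [sig_e F]
      rcases huniq k hx with rfl | rfl <;> simp [secantLine]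
    · obtain ⟨s, hs, hsR⟩ := sig_out F (not_exists.1 hxe)
      rw [hs]
      have : syn s i = j := (hsR i j).2 ⟨hj, l, hl, hx, hi, hjl⟩
      simp [secantLine, this]
  · rw [card_secant i j (Ne.symm hj), card_image_of_injective _ (sig_inj F), F.st.1 l hl]

theorem image_exterior (F : Frame L e) {l : Finset α} (hl : l ∈ L) (hi : ∀ i, e i ∉ l) :
    ∃ k, l.image (sig L e) = totalLine k := by
  have hout : ∀ x ∈ l, ∀ i, e i ≠ x := fun x hx i h => hi i (h ▸ hx)
  have hD : ∀ x ∈ l, ∀ y ∈ l, x ≠ y → ∀ s t, sig L e x = Sum.inr s → sig L e y = Sum.inr t →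
      D s t := by
    intro x hx y hy hxy s t hs ht i hst
    obtain ⟨s', hs', hsR⟩ := sig_out F (hout x hx)
    obtain ⟨t', ht', htR⟩ := sig_out F (hout y hy)
    rw [hs] at hs'
    rw [ht] at ht'
    have e1 := Sum.inr.inj hs'
    have e2 := Sum.inr.inj ht'
    subst e1 e2
    obtain ⟨hne, m, hm, hxm, him, hjm⟩ := (hsR i _).1 rfl
    obtain ⟨-, m', hm', hym', him', hjm'⟩ := (htR i _).1 hst.symm
    have h1 : m = m' := line_eq F.st hm hm' (F.inj.ne hne.symm) him hjm him' hjm'
    subst h1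
    have h2 : m = l := line_eq F.st hm hl hxy hxm hym' hx hy
    subst h2
    exact hi i him
  have hc : l.card = 5 := F.st.1 l hl
  obtain ⟨x, hx, y, hy, hxy⟩ := one_lt_card.1 (by omega : 1 < l.card)
  obtain ⟨s, hs, -⟩ := sig_out F (hout x hx)
  obtain ⟨t, ht, -⟩ := sig_out F (hout y hy)
  obtain ⟨k, hsk, htk, hk⟩ := m1 s t (hD x hx y hy hxy s t hs ht)
  refine ⟨k, eq_of_subset_of_card_le ?_ ?_⟩
  · intro z0 hz0
    obtain ⟨z, hz, rfl⟩ := mem_image.1 hz0
    obtain ⟨u, hu, -⟩ := sig_out F (hout z hz)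
    rw [hu, totalLine, mem_image]
    refine ⟨u, ?_, rfl⟩
    by_cases hzx : z = x
    · subst hzx
      rw [hs] at hu
      rw [← Sum.inr.inj hu]
      exact hsk
    by_cases hzy : z = y
    · subst hzy
      rw [ht] at hu
      rw [← Sum.inr.inj hu]
      exact htk
    obtain ⟨w, hw⟩ : (l \ {x, y, z}).Nonempty := by
      rw [← card_pos]
      have h1 := le_card_sdiff {x, y, z} l
      have h2 : ({x, y, z} : Finset α).card ≤ 3 := card_le_three
      omega
    rw [mem_sdiff, mem_insert, mem_insert, mem_singleton, not_or, not_or] at hw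
    obtain ⟨hwl, hwx, hwy, hwz⟩ := hw
    obtain ⟨v, hv, -⟩ := sig_out F (hout w hwl)
    exact hk u v (hD x hx z hz (Ne.symm hzx) s u hs hu) (hD y hy z hz (Ne.symm hzy) t u ht hu)
      (hD x hx w hwl (Ne.symm hwx) s v hs hv) (hD y hy w hwl (Ne.symm hwy) t v ht hv)
      (hD z hz w hwl (Ne.symm hwz) u v hu hv)
  · rw [totalLine, card_image_of_injective _ Sum.inr_injective, card_tot,
      card_image_of_injective _ (sig_inj F), hc]

/-- A plane of order 4 with a labelled 6-arc is carried onto the model by a bijection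
extending the labelling. -/
theorem exists_iso (F : Frame L e) : ∃ φ : α ≃ P21, (∀ i, φ (e i) = Sum.inl i) ∧
    (fun b => b.image φ) '' L = modelLines ∧
    ∀ p, (∀ i, e i ≠ p) → ∃ s, φ p = Sum.inr s ∧ ∀ i j, syn s i = j ↔ R L e p i j := by
  have hbij : Function.Bijective (sig L e) :=
    (Fintype.bijective_iff_injective_and_card _).2 ⟨sig_inj F, by rw [F.card]; rfl⟩
  refine ⟨Equiv.ofBijective _ hbij, fun i => sig_e F i, ?_, fun p hp => sig_out F hp⟩
  ext b
  constructor
  · rintro ⟨l, hl, rfl⟩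
    by_cases h : ∃ i, e i ∈ l
    · obtain ⟨i, hi⟩ := h
      obtain ⟨j, hj, -, h⟩ := image_secant F hl hi
      exact Or.inl ⟨i, j, hj.symm, h⟩
    · obtain ⟨k, hk⟩ := image_exterior F hl (not_exists.1 h)
      exact Or.inr ⟨k, hk⟩
  · rintro (⟨i, j, hij, rfl⟩ | ⟨k, rfl⟩)
    · obtain ⟨l, hl, hil, hjl⟩ := exists_line F.st (F.inj.ne hij)
      obtain ⟨j', hj', hj'l, h⟩ := image_secant F hl hil
      obtain ⟨j0, hj0, -, huniq⟩ := secant_other F hl hil
      have : j' = j := by
        rcases huniq j' hj'l with h1 | h1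
        · exact absurd h1 hj'
        rcases huniq j hjl with h2 | h2
        · exact absurd h2 hij.symm
        rw [h1, h2]
      subst this
      exact ⟨l, hl, h⟩
    · obtain ⟨s, hs, t, ht, hst⟩ := one_lt_card.1 (by rw [card_tot]; norm_num : 1 < (tot k).card)
      obtain ⟨x, hx⟩ := hbij.2 (Sum.inr s)
      obtain ⟨y, hy⟩ := hbij.2 (Sum.inr t)
      have hxy : x ≠ y := by
        rintro rfl
        rw [hx] at hy
        exact hst (Sum.inr.inj hy)
      obtain ⟨l, hl, hxl, hyl⟩ := exists_line F.st hxy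
      have hext : ∀ i, e i ∉ l := by
        intro i hi
        obtain ⟨j, hj, -, h⟩ := image_secant F hl hi
        have h1 : Sum.inr s ∈ secantLine i j := by
          rw [← h, ← hx]; exact mem_image_of_mem _ hxl
        have h2 : Sum.inr t ∈ secantLine i j := by
          rw [← h, ← hy]; exact mem_image_of_mem _ hyl
        simp [secantLine] at h1 h2
        exact tot_D k s hs t ht hst i (h1.trans h2.symm)
      obtain ⟨k', hk'⟩ := image_exterior F hl hext
      have h1 : Sum.inr s ∈ totalLine k' := by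
        rw [← hk', ← hx]; exact mem_image_of_mem _ hxl
      have h2 : Sum.inr t ∈ totalLine k' := by
        rw [← hk', ← hy]; exact mem_image_of_mem _ hyl
      simp [totalLine] at h1 h2
      have := tot_unique k k' s t hst hs ht h1 h2
      subst this
      exact ⟨l, hl, hk'⟩

end abstract


section iso

variable {α : Type*} [Fintype α] [DecidableEq α]

theorem exists_frame (hα : Fintype.card α = 21) {L : Set (Finset α)}
    (hL : Cfsg.IsSteinerSystem 2 5 L) (H : Finset α)
    (harc : ∀ l ∈ L, (l ∩ H).card ≤ 2) (e0 : Fin 6 ≃ H) :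
    Frame L (fun i => (e0 i : α)) ∧ univ.image (fun i => (e0 i : α)) = H := by
  have himg : univ.image (fun i => (e0 i : α)) = H := by
    ext x
    simp only [mem_image, mem_univ, true_and]
    constructor
    · rintro ⟨i, rfl⟩
      exact (e0 i).2
    · intro hx
      exact ⟨e0.symm ⟨x, hx⟩, by simp⟩
  exact ⟨⟨hα, hL, Subtype.val_injective.comp e0.injective, by rw [himg]; exact harc⟩, himg⟩

/-- Every plane of order 4 is isomorphic to the model. -/
theorem iso_model (hα : Fintype.card α = 21) {L : Set (Finset α)}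
    (hL : Cfsg.IsSteinerSystem 2 5 L) :
    ∃ φ : α ≃ P21, (fun b => b.image φ) '' L = modelLines := by
  obtain ⟨H, hH⟩ := card_pos.1 (by rw [card_arcs6 hα hL]; norm_num : 0 < (arcs L 6).card)
  rw [mem_arcs] at hH
  obtain ⟨F, -⟩ := exists_frame hα hL H hH.2 (Finset.equivFinOfCardEq hH.1).symm
  obtain ⟨φ, -, h, -⟩ := exists_iso F
  exact ⟨φ, h⟩

end iso

/-- Two set systems carried onto the same model are isomorphic. -/
theorem iso_of_model {α β γ : Type*} [DecidableEq α] [DecidableEq β] [DecidableEq γ]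
    {L : Set (Finset α)} {L' : Set (Finset β)} {M : Set (Finset γ)} (φ : α ≃ γ) (φ' : β ≃ γ)
    (h : (fun b => b.image φ) '' L = M) (h' : (fun b => b.image φ') '' L' = M) :
    (fun b => b.image (φ.trans φ'.symm)) '' L = L' := by
  ext b
  constructor
  · rintro ⟨l, hl, rfl⟩
    have h1 : l.image φ ∈ M := h ▸ Set.mem_image_of_mem _ hl
    rw [← h'] at h1
    obtain ⟨l', hl', hh⟩ := h1
    simp only at hh
    have h2 : l.image (φ.trans φ'.symm) = l' := by
      rw [Equiv.coe_trans, ← Finset.image_image, ← hh, Finset.image_image]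
      simp
    simp only
    rw [h2]
    exact hl'
  · intro hb
    have h1 : b.image φ' ∈ M := h' ▸ Set.mem_image_of_mem _ hb
    rw [← h] at h1
    obtain ⟨l, hl, hh⟩ := h1
    simp only at hh
    refine ⟨l, hl, ?_⟩
    simp only
    rw [Equiv.coe_trans, ← Finset.image_image, hh, Finset.image_image]
    simp

end Cfsg.Agent.Lib.Helper8.Plane4Model
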