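import Mathlib
import Cfsg.Prelude.Def_Sporadic_a
import Cfsg.Agent.Lib.Helper8.Plane4Model
import Cfsg.Agent.Lib.Helper8.CodeSpan

/-!
Model codes of length 24 and 22 on the points of the model plane of order 4 together with
three (resp. one) extra points, given by explicit generators: line blocks and hyperoval blocks.
-/

set_option autoImplicit false

namespace Cfsg.Agent.Lib.Helper8.GolayModel

open Finset Cfsg.Agent.Lib.Helper8.Plane4Model Cfsg.Agent.Lib.Helper8.CodeSpan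

/-- The six labelled points of the model plane. -/
def H0 : Finset P21 := univ.image Sum.inl

/-- A second hyperoval of the model plane, through the labels 0, 1, 2. -/
def K1 : Finset P21 :=
  {Sum.inl 0, Sum.inl 1, Sum.inl 2} ∪ ({7, 11, 13} : Finset (Fin 15)).image Sum.inr

/-- The 24 points of the model. -/
abbrev Pts := Fin 3 ⊕ P21

def lineOct (l : Finset P21) : Finset Pts := {Sum.inl 0, Sum.inl 1, Sum.inl 2} ∪ l.image Sum.inr

def hypOct0 : Finset Pts := {Sum.inl 0, Sum.inl 1} ∪ H0.image Sum.inr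

def hypOct1 : Finset Pts := {Sum.inl 0, Sum.inl 2} ∪ K1.image Sum.inr

def gen : Fin 13 → Finset Pts :=
  ![lineOct (secantLine 0 1), lineOct (secantLine 0 2), lineOct (secantLine 0 3),
    lineOct (secantLine 0 4), lineOct (secantLine 0 5), lineOct (secantLine 1 2),
    lineOct (secantLine 1 3), lineOct (secantLine 1 4), lineOct (secantLine 1 5),
    lineOct (secantLine 2 3), lineOct (secantLine 2 4), hypOct0, hypOct1]

def comb : Fin 12 → Finset (Fin 13) :=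
  ![{0}, {1}, {7, 9, 10, 12}, {2, 3, 4, 5, 6, 9, 10, 11, 12}, {2, 3, 4, 5, 6, 10, 11, 12},
    {2, 3, 5, 6, 7, 9, 10}, {7, 9, 12}, {6, 7, 9, 12}, {3, 4, 5, 6, 9, 11},
    {2, 4, 5, 7, 10, 11}, {11}, {2, 3, 4, 5, 6, 7, 10, 11, 12}]

def hvec (i : Fin 12) : Pts → ZMod 2 := fun x => ∑ k ∈ comb i, ind (gen k) x

def piv : Fin 12 → Pts :=
  ![Sum.inr (Sum.inr 2), Sum.inr (Sum.inr 5), Sum.inr (Sum.inr 8), Sum.inr (Sum.inr 11),
    Sum.inr (Sum.inr 14), Sum.inr (Sum.inr 12), Sum.inr (Sum.inr 13), Sum.inr (Sum.inr 10),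
    Sum.inr (Sum.inr 6), Sum.inr (Sum.inr 9), Sum.inr (Sum.inl 5), Sum.inr (Sum.inr 7)]

theorem hpiv : ∀ i k, hvec i (piv k) = if i = k then 1 else 0 := by decide +kernel

/-- The model code of length 24. -/
def K24 : Submodule (ZMod 2) (Pts → ZMod 2) := Submodule.span (ZMod 2) (Set.range hvec)

theorem cl24 (𝓑 : Set (Finset Pts)) (hev : ∀ S ∈ 𝓑, ∀ T ∈ 𝓑, Even (S ∩ T).card)
    (hgen : ∀ k, gen k ∈ 𝓑) : Submodule.span (ZMod 2) (ind '' 𝓑) = K24 := by
  apply span_eq hvec piv hpiv (by decide) _ (span_orth 𝓑 hev)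
  intro i
  have : hvec i = ∑ k ∈ comb i, ind (gen k) := by
    ext x
    simp [hvec, Finset.sum_apply]
  rw [this]
  exact Submodule.sum_mem _ (fun k _ => Submodule.subset_span ⟨gen k, hgen k, rfl⟩)

theorem gen_mem (𝓑 : Set (Finset Pts))
    (h1 : ∀ i j : Fin 6, i ≠ j → lineOct (secantLine i j) ∈ 𝓑) (h2 : hypOct0 ∈ 𝓑)
    (h3 : hypOct1 ∈ 𝓑) : ∀ k, gen k ∈ 𝓑 := by
  intro k
  fin_cases k
  · exact h1 0 1 (by decide)
  · exact h1 0 2 (by decide)
  · exact h1 0 3 (by decide)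
  · exact h1 0 4 (by decide)
  · exact h1 0 5 (by decide)
  · exact h1 1 2 (by decide)
  · exact h1 1 3 (by decide)
  · exact h1 1 4 (by decide)
  · exact h1 1 5 (by decide)
  · exact h1 2 3 (by decide)
  · exact h1 2 4 (by decide)
  · exact h2
  · exact h3

/-- The 22 points of the second model. -/
abbrev Pts22 := Fin 1 ⊕ P21

def lineBlk (l : Finset P21) : Finset Pts22 := {Sum.inl 0} ∪ l.image Sum.inr

def hypBlk : Finset Pts22 := H0.image Sum.inr

def gen22 : Fin 12 → Finset Pts22 :=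
  ![lineBlk (secantLine 0 1), lineBlk (secantLine 0 2), lineBlk (secantLine 0 3),
    lineBlk (secantLine 0 4), lineBlk (secantLine 0 5), lineBlk (secantLine 1 2),
    lineBlk (secantLine 1 3), lineBlk (secantLine 1 4), lineBlk (secantLine 1 5),
    lineBlk (secantLine 2 3), lineBlk (secantLine 2 4), hypBlk]

def comb22 : Fin 11 → Finset (Fin 12) :=
  ![{0}, {1}, {2, 3, 4, 5, 6, 9, 11}, {7, 9}, {7}, {2, 3, 5, 6, 7, 9, 10},
    {2, 3, 4, 5, 6, 9, 10, 11}, {2, 3, 4, 5, 9, 10, 11}, {3, 4, 5, 6, 9, 11},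
    {2, 4, 5, 7, 10, 11}, {11}]

def hvec22 (i : Fin 11) : Pts22 → ZMod 2 := fun x => ∑ k ∈ comb22 i, ind (gen22 k) x

def piv22 : Fin 11 → Pts22 :=
  ![Sum.inr (Sum.inr 2), Sum.inr (Sum.inr 5), Sum.inr (Sum.inr 8), Sum.inr (Sum.inr 11),
    Sum.inr (Sum.inr 14), Sum.inr (Sum.inr 12), Sum.inr (Sum.inr 13), Sum.inr (Sum.inr 10),
    Sum.inr (Sum.inr 6), Sum.inr (Sum.inr 9), Sum.inr (Sum.inl 5)]

theorem hpiv22 : ∀ i k, hvec22 i (piv22 k) = if i = k then 1 else 0 := by decide +kernel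

/-- The model code of length 22. -/
def K22 : Submodule (ZMod 2) (Pts22 → ZMod 2) := Submodule.span (ZMod 2) (Set.range hvec22)

theorem cl22 (𝓑 : Set (Finset Pts22)) (hev : ∀ S ∈ 𝓑, ∀ T ∈ 𝓑, Even (S ∩ T).card)
    (hgen : ∀ k, gen22 k ∈ 𝓑) : Submodule.span (ZMod 2) (ind '' 𝓑) = K22 := by
  apply span_eq hvec22 piv22 hpiv22 (by decide) _ (span_orth 𝓑 hev)
  intro i
  have : hvec22 i = ∑ k ∈ comb22 i, ind (gen22 k) := by
    ext x
    simp [hvec22, Finset.sum_apply]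
  rw [this]
  exact Submodule.sum_mem _ (fun k _ => Submodule.subset_span ⟨gen22 k, hgen k, rfl⟩)

theorem gen22_mem (𝓑 : Set (Finset Pts22))
    (h1 : ∀ i j : Fin 6, i ≠ j → lineBlk (secantLine i j) ∈ 𝓑) (h2 : hypBlk ∈ 𝓑) :
    ∀ k, gen22 k ∈ 𝓑 := by
  intro k
  fin_cases k
  · exact h1 0 1 (by decide)
  · exact h1 0 2 (by decide)
  · exact h1 0 3 (by decide)
  · exact h1 0 4 (by decide)
  · exact h1 0 5 (by decide)
  · exact h1 1 2 (by decide)
  · exact h1 1 3 (by decide)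
  · exact h1 1 4 (by decide)
  · exact h1 1 5 (by decide)
  · exact h1 2 3 (by decide)
  · exact h1 2 4 (by decide)
  · exact h2

/-- Three involutions matching the labels 0, 1, 2 with 3, 4, 5, pairwise different on each of
0, 1, 2, form one of two triples. -/
theorem m2 : ∀ s t u : Fin 15, s ≠ t → s ≠ u → t ≠ u →
    (∀ i : Fin 6, i.val < 3 → 3 ≤ (syn s i).val ∧ 3 ≤ (syn t i).val ∧ 3 ≤ (syn u i).val ∧
      syn s i ≠ syn t i ∧ syn s i ≠ syn u i ∧ syn t i ≠ syn u i) →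
    (({s, t, u} : Finset (Fin 15)) = {7, 11, 13} ∨ ({s, t, u} : Finset (Fin 15)) = {8, 10, 14}) := by
  decide +kernel

/-- Swapping the labels 0 and 1 exchanges the two triples. -/
theorem m3 : ∀ s s' : Fin 15, s ∈ ({8, 10, 14} : Finset (Fin 15)) →
    (∀ i, syn s' i = Equiv.swap (0 : Fin 6) 1 (syn s (Equiv.swap (0 : Fin 6) 1 i))) →
    s' ∈ ({7, 11, 13} : Finset (Fin 15)) := by
  decide +kernel

theorem m4 : ∀ s : Fin 15, s ∈ ({8, 10, 14} : Finset (Fin 15)) →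
    s ∉ ({7, 11, 13} : Finset (Fin 15)) := by decide

end Cfsg.Agent.Lib.Helper8.GolayModel
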