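import Mathlib
import Cfsg.Prelude.Def_Sporadic_a
import Cfsg.Agent.Lib.Helper8.Plane4Model
import Cfsg.Agent.Lib.Helper8.GolayModel

/-!
A plane of order 4 with two 6-arcs meeting in exactly three points is carried onto the model
plane so that the two arcs go to the two model hyperovals `H0` and `K1`.
-/

set_option autoImplicit false

namespace Cfsg.Agent.Lib.Helper8.Plane4Hyp

open Finset Cfsg.Agent.Lib.Helper8.Plane4Model Cfsg.Agent.Lib.Helper8.GolayModel

variable {α : Type*} [Fintype α] [DecidableEq α]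

omit [Fintype α] in
theorem three_le {s : Finset α} {x y z : α} (hxy : x ≠ y) (hxz : x ≠ z) (hyz : y ≠ z)
    (hx : x ∈ s) (hy : y ∈ s) (hz : z ∈ s) : 3 ≤ s.card := by
  have hsub : ({x, y, z} : Finset α) ⊆ s := by
    intro w hw
    simp only [mem_insert, mem_singleton] at hw
    rcases hw with rfl | rfl | rfl <;> assumption
  have := card_le_card hsub
  rwa [card_eq_three.2 ⟨x, y, z, hxy, hxz, hyz, rfl⟩] at this

theorem lt3 : ∀ i : Fin 6, i.val < 3 → i = 0 ∨ i = 1 ∨ i = 2 := by decide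

variable {L : Set (Finset α)} {e : Fin 6 → α}

theorem hyp_image (F : Frame L e) (K' : Finset α) (hK : K'.card = 6)
    (harc : ∀ l ∈ L, (l ∩ K').card ≤ 2) (hint : K' ∩ univ.image e = {e 0, e 1, e 2})
    (φ : α ≃ P21) (hφe : ∀ i, φ (e i) = Sum.inl i)
    (hφR : ∀ p, (∀ i, e i ≠ p) → ∃ s, φ p = Sum.inr s ∧ ∀ i j, syn s i = j ↔ R L e p i j) :
    ∃ Tset : Finset (Fin 15), (Tset = {7, 11, 13} ∨ Tset = {8, 10, 14}) ∧
      K'.image φ = {Sum.inl 0, Sum.inl 1, Sum.inl 2} ∪ Tset.image Sum.inr ∧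
      (∀ x ∈ K', (∀ i, e i ≠ x) → ∃ s ∈ Tset, φ x = Sum.inr s) ∧
      ∃ x ∈ K', ∀ i, e i ≠ x := by
  have h01 : e 0 ≠ e 1 := F.inj.ne (by decide)
  have h02 : e 0 ≠ e 2 := F.inj.ne (by decide)
  have h12 : e 1 ≠ e 2 := F.inj.ne (by decide)
  have hc3 : (K' ∩ univ.image e).card = 3 := by
    rw [hint]
    exact card_eq_three.2 ⟨_, _, _, h01, h02, h12, rfl⟩
  have hcard : (K' \ univ.image e).card = 3 := by
    have := card_sdiff_add_card_inter K' (univ.image e)
    omega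
  obtain ⟨p, q, r, hpq, hpr, hqr, hpqr⟩ := card_eq_three.1 hcard
  have hmemK : ∀ i : Fin 6, i.val < 3 → e i ∈ K' := by
    intro i hi
    have : e i ∈ K' ∩ univ.image e := by
      rw [hint]
      rcases lt3 i hi with rfl | rfl | rfl <;> simp
    exact (mem_inter.1 this).1
  have hout : ∀ x, x ∈ K' \ univ.image e → x ∈ K' ∧ ∀ i, e i ≠ x := by
    intro x hx
    rw [mem_sdiff] at hx
    exact ⟨hx.1, fun i h => hx.2 (by rw [← h]; simp)⟩
  have hp := hout p (by rw [hpqr]; simp)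
  have hq := hout q (by rw [hpqr]; simp)
  have hr := hout r (by rw [hpqr]; simp)
  obtain ⟨s, hs, hsR⟩ := hφR p hp.2
  obtain ⟨t, ht, htR⟩ := hφR q hq.2
  obtain ⟨u, hu, huR⟩ := hφR r hr.2
  -- property A
  have hA : ∀ x, x ∈ K' → (∀ i, e i ≠ x) → ∀ s, (∀ i j, syn s i = j ↔ R L e x i j) →
      ∀ i : Fin 6, i.val < 3 → 3 ≤ (syn s i).val := by
    intro x hxK hx s hsR i hi
    by_contra hlt
    obtain ⟨hne, l, hl, hxl, hil, hjl⟩ := (hsR i _).1 rfl
    have h3 := three_le (s := l ∩ K') (hx i).symm (hx (syn s i)).symm (F.inj.ne hne.symm)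
      (mem_inter.2 ⟨hxl, hxK⟩) (mem_inter.2 ⟨hil, hmemK i hi⟩)
      (mem_inter.2 ⟨hjl, hmemK _ (by omega)⟩)
    have := harc l hl
    omega
  have hB : ∀ x y, x ∈ K' → y ∈ K' → x ≠ y → (∀ i, e i ≠ x) → (∀ i, e i ≠ y) → ∀ s t,
      (∀ i j, syn s i = j ↔ R L e x i j) → (∀ i j, syn t i = j ↔ R L e y i j) →
      ∀ i : Fin 6, i.val < 3 → syn s i ≠ syn t i := by
    intro x y hxK hyK hxy hx hy s t hsR htR i hi hst
    obtain ⟨hne, l, hl, hxl, hil, hjl⟩ := (hsR i _).1 rfl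
    obtain ⟨-, l', hl', hyl', hil', hjl'⟩ := (htR i _).1 hst.symm
    have h1 : l = l' := line_eq F.st hl hl' (F.inj.ne hne.symm) hil hjl hil' hjl'
    subst h1
    have h3 := three_le (s := l ∩ K') hxy (hx i).symm (hy i).symm
      (mem_inter.2 ⟨hxl, hxK⟩) (mem_inter.2 ⟨hyl', hyK⟩) (mem_inter.2 ⟨hil, hmemK i hi⟩)
    have := harc l hl
    omega
  have hst : s ≠ t := by
    rintro rfl
    exact hpq (φ.injective (hs.trans ht.symm))
  have hsu : s ≠ u := by
    rintro rfl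
    exact hpr (φ.injective (hs.trans hu.symm))
  have htu : t ≠ u := by
    rintro rfl
    exact hqr (φ.injective (ht.trans hu.symm))
  have hT := m2 s t u hst hsu htu (fun i hi =>
    ⟨hA p hp.1 hp.2 s hsR i hi, hA q hq.1 hq.2 t htR i hi, hA r hr.1 hr.2 u huR i hi,
      hB p q hp.1 hq.1 hpq hp.2 hq.2 s t hsR htR i hi,
      hB p r hp.1 hr.1 hpr hp.2 hr.2 s u hsR huR i hi,
      hB q r hq.1 hr.1 hqr hq.2 hr.2 t u htR huR i hi⟩)
  refine ⟨{s, t, u}, hT, ?_, ?_, p, hp.1, hp.2⟩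
  · have hsplit : K' = (K' ∩ univ.image e) ∪ (K' \ univ.image e) := by
      rw [union_comm, sdiff_union_inter]
    rw [hsplit, hint, hpqr, image_union]
    simp only [image_insert, image_singleton, hφe, hs, ht, hu]
  · intro x hxK hx
    have hx' : x ∈ K' \ univ.image e := by
      rw [mem_sdiff]
      refine ⟨hxK, fun h => ?_⟩
      obtain ⟨i, -, hi⟩ := mem_image.1 h
      exact hx i hi
    rw [hpqr] at hx'
    simp only [mem_insert, mem_singleton] at hx'
    rcases hx' with rfl | rfl | rfl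
    · exact ⟨s, by simp, hs⟩
    · exact ⟨t, by simp, ht⟩
    · exact ⟨u, by simp, hu⟩

/-- A plane of order 4 with a labelled 6-arc and a second 6-arc meeting it exactly in the
points labelled 0, 1, 2 is carried onto the model with the arcs going to `H0` and `K1`. -/
theorem two_hyp (F : Frame L e) (K' : Finset α) (hK : K'.card = 6)
    (harc : ∀ l ∈ L, (l ∩ K').card ≤ 2) (hint : K' ∩ univ.image e = {e 0, e 1, e 2}) :
    ∃ φ : α ≃ P21, (fun b => b.image φ) '' L = modelLines ∧ (univ.image e).image φ = H0 ∧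
      K'.image φ = K1 := by
  obtain ⟨φ, hφe, hφL, hφR⟩ := exists_iso F
  have hH : ∀ (e' : Fin 6 → α) (φ' : α ≃ P21), (∀ i, φ' (e' i) = Sum.inl i) →
      (univ.image e').image φ' = H0 := by
    intro e' φ' h
    rw [image_image]
    have : (φ' ∘ e') = Sum.inl := funext h
    rw [this]
    rfl
  obtain ⟨Tset, hT, himg, hmem, x, hxK, hx⟩ := hyp_image F K' hK harc hint φ hφe hφR
  rcases hT with hT | hT
  · exact ⟨φ, hφL, hH e φ hφe, by rw [himg, hT]; rfl⟩
  -- relabel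
  let τ : Equiv.Perm (Fin 6) := Equiv.swap 0 1
  have himg' : univ.image (e ∘ τ) = univ.image e := by
    ext y
    simp only [mem_image, mem_univ, true_and, Function.comp_apply]
    constructor
    · rintro ⟨i, rfl⟩
      exact ⟨τ i, rfl⟩
    · rintro ⟨i, rfl⟩
      exact ⟨τ.symm i, by simp⟩
  have F' : Frame L (e ∘ τ) :=
    ⟨F.card, F.st, F.inj.comp τ.injective, by rw [himg']; exact F.arc⟩
  have hint' : K' ∩ univ.image (e ∘ τ) = {(e ∘ τ) 0, (e ∘ τ) 1, (e ∘ τ) 2} := by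
    rw [himg', hint]
    have h0 : τ 0 = 1 := by decide
    have h1 : τ 1 = 0 := by decide
    have h2 : τ 2 = 2 := by decide
    simp only [Function.comp_apply, h0, h1, h2]
    exact Finset.insert_comm _ _ _
  obtain ⟨φ', hφe', hφL', hφR'⟩ := exists_iso F'
  obtain ⟨Tset', hT', himg2, hmem', -⟩ := hyp_image F' K' hK harc hint' φ' hφe' hφR'
  rcases hT' with hT' | hT'
  · exact ⟨φ', hφL', by rw [← himg']; exact hH (e ∘ τ) φ' hφe', by rw [himg2, hT']; rfl⟩
  exfalso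
  have hx' : ∀ i, (e ∘ τ) i ≠ x := fun i => hx (τ i)
  obtain ⟨s, hsT, hs⟩ := hmem x hxK hx
  obtain ⟨s', hsT', hs'⟩ := hmem' x hxK hx'
  obtain ⟨s1, hs1, hsR⟩ := hφR x hx
  obtain ⟨s1', hs1', hsR'⟩ := hφR' x hx'
  rw [hs] at hs1
  rw [hs'] at hs1'
  have e1 := Sum.inr.inj hs1
  have e2 := Sum.inr.inj hs1'
  subst e1 e2
  have hconj : ∀ i, syn s' i = τ (syn s (τ i)) := by
    intro i
    rw [hsR']
    obtain ⟨hne, l, hl, hxl, hil, hjl⟩ := (hsR (τ i) _).1 rfl
    refine ⟨fun h => hne ?_, l, hl, hxl, hil, ?_⟩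
    · have := congrArg τ h
      simpa [τ] using this
    · simpa [τ] using hjl
  rw [hT] at hsT
  rw [hT'] at hsT'
  exact m4 s' hsT' (m3 s s' hsT hconj)

end Cfsg.Agent.Lib.Helper8.Plane4Hyp
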