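import Mathlib
import Cfsg.Agent.Lib.Helper8.Steiner

/-!
Steiner systems S(4, 7, 23): moment identities and block intersection sizes.
-/

set_option autoImplicit false

namespace Cfsg.Agent.Lib.Helper8.S4723

open Finset Cfsg.Agent.Lib.Helper8.Steiner

variable {α : Type*} [Fintype α] [DecidableEq α]

theorem card_blocks (hα : Fintype.card α = 23) {B : Set (Finset α)}
    (hB : Cfsg.IsSteinerSystem 4 7 B) : (blocks B).card = 253 := by
  have h := moment hB ∅ 0 (by norm_num)
  have c1 : Nat.choose 23 4 = 8855 := by decide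
  have c2 : Nat.choose 7 4 = 35 := by decide
  simp only [hα, Nat.choose_zero_right, sum_const, smul_eq_mul, mul_one, Nat.sub_zero, c1, c2,
    one_mul] at h
  omega

theorem m1 (hα : Fintype.card α = 23) {B : Set (Finset α)}
    (hB : Cfsg.IsSteinerSystem 4 7 B) (S : Finset α) :
    ∑ b ∈ blocks B, (b ∩ S).card = 77 * S.card := by
  have h := moment hB S 1 (by norm_num)
  have c1 : Nat.choose 22 3 = 1540 := by decide
  have c2 : Nat.choose 6 3 = 20 := by decide
  simp only [hα, Nat.choose_one_right, c1, c2, Nat.reduceSub] at h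
  omega

theorem m2 (hα : Fintype.card α = 23) {B : Set (Finset α)}
    (hB : Cfsg.IsSteinerSystem 4 7 B) (S : Finset α) :
    ∑ b ∈ blocks B, (b ∩ S).card.choose 2 = 21 * S.card.choose 2 := by
  have h := moment hB S 2 (by norm_num)
  have c1 : Nat.choose 21 2 = 210 := by decide
  have c2 : Nat.choose 5 2 = 10 := by decide
  simp only [hα, c1, c2, Nat.reduceSub] at h
  omega

theorem m3 (hα : Fintype.card α = 23) {B : Set (Finset α)}
    (hB : Cfsg.IsSteinerSystem 4 7 B) (S : Finset α) :
    ∑ b ∈ blocks B, (b ∩ S).card.choose 3 = 5 * S.card.choose 3 := by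
  have h := moment hB S 3 (by norm_num)
  simp only [hα, Nat.choose_one_right, Nat.reduceSub] at h
  omega

theorem m4 (hα : Fintype.card α = 23) {B : Set (Finset α)}
    (hB : Cfsg.IsSteinerSystem 4 7 B) (S : Finset α) :
    ∑ b ∈ blocks B, (b ∩ S).card.choose 4 = S.card.choose 4 := by
  have h := moment hB S 4 (by norm_num)
  simp only [hα, Nat.choose_zero_right, Nat.reduceSub, mul_one] at h
  exact h

omit [Fintype α] in
theorem inter_le_three {B : Set (Finset α)}
    (hB : Cfsg.IsSteinerSystem 4 7 B) {b c : Finset α} (hb : b ∈ B) (hc : c ∈ B) (hbc : b ≠ c) :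
    (b ∩ c).card ≤ 3 := by
  by_contra hlt
  obtain ⟨s, hs, hcard⟩ := Finset.exists_subset_card_eq (show 4 ≤ (b ∩ c).card by omega)
  obtain ⟨d, _, huniq⟩ := hB.2 s hcard
  have h1 := huniq b ⟨hb, hs.trans inter_subset_left⟩
  have h2 := huniq c ⟨hc, hs.trans inter_subset_right⟩
  exact hbc (h1.trans h2.symm)

theorem inter_card (hα : Fintype.card α = 23) {B : Set (Finset α)}
    (hB : Cfsg.IsSteinerSystem 4 7 B) {b c : Finset α} (hb : b ∈ B) (hc : c ∈ B) (hbc : b ≠ c) :
    (b ∩ c).card = 1 ∨ (b ∩ c).card = 3 := by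
  have hpt : ∀ d ∈ blocks B,
      (if (d ∩ c).card = 0 ∨ (d ∩ c).card = 2 then 1 else 0) + (d ∩ c).card
        + 4 * (d ∩ c).card.choose 3
      = 1 + 2 * (d ∩ c).card.choose 2 + (if d = c then 104 else 0) := by
    intro d hd
    rw [mem_blocks] at hd
    by_cases hdc : d = c
    · subst hdc
      have c2 : Nat.choose 7 2 = 21 := by decide
      have c3 : Nat.choose 7 3 = 35 := by decide
      simp [hB.1 d hd, c2, c3]
    · have := inter_le_three hB hd hc hdc
      rw [if_neg hdc]
      interval_cases h : (d ∩ c).card <;> simp <;> decide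
  have hs := Finset.sum_congr rfl hpt
  rw [sum_add_distrib, sum_add_distrib, sum_add_distrib, sum_add_distrib, ← mul_sum, ← mul_sum,
    m1 hα hB, m2 hα hB, m3 hα hB, sum_ite_eq', sum_boole,
    if_pos (mem_blocks.mpr hc), hB.1 c hc, sum_const, card_blocks hα hB] at hs
  have c2 : Nat.choose 7 2 = 21 := by decide
  have c3 : Nat.choose 7 3 = 35 := by decide
  rw [c2, c3] at hs
  simp only [Nat.cast_id, smul_eq_mul] at hs
  have h0 : ((blocks B).filter (fun d => (d ∩ c).card = 0 ∨ (d ∩ c).card = 2)).card = 0 := by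
    omega
  rw [card_eq_zero] at h0
  have hb1 : ¬ ((b ∩ c).card = 0 ∨ (b ∩ c).card = 2) := by
    intro h1
    have : b ∈ (blocks B).filter (fun d => (d ∩ c).card = 0 ∨ (d ∩ c).card = 2) := by
      rw [mem_filter]; exact ⟨mem_blocks.mpr hb, h1⟩
    rw [h0] at this
    exact absurd this (notMem_empty _)
  have := inter_le_three hB hb hc hbc
  omega

end Cfsg.Agent.Lib.Helper8.S4723
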