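import Mathlib
import Cfsg.Prelude.Def_Sporadic_a
import Cfsg.Agent.Lib.Helper8.Steiner
import Cfsg.Agent.Lib.Helper8.CodeSpan
import Cfsg.Agent.S0352
import Cfsg.Agent.S0355
import Cfsg.Agent.S0356

/-!
The blocks of a Steiner system `S(5,8,24)`, `S(4,7,23)` (extended by a new point) or
`S(3,6,22)` are exactly the words of the right weight in the binary span of the blocks.
-/

set_option autoImplicit false

namespace Cfsg.Agent.Lib.Helper8.SteinerSpan

open Finset Cfsg.Agent.Lib.Helper8.Steiner Cfsg.Agent.Lib.Helper8.CodeSpan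

variable {α : Type*} [Fintype α] [DecidableEq α]

theorem choose_aux : ∀ k : ℕ, k ≤ 4 → Even k → k.choose 3 = 4 * k.choose 4 := by decide

theorem choose_aux2 : ∀ k : ℕ, k ≤ 4 → Even k → k + 2 * k.choose 3 = 2 * k.choose 2 := by decide

theorem no4_24 (hα : Fintype.card α = 24) {B : Set (Finset α)}
    (hB : Cfsg.IsSteinerSystem 5 8 B) (T : Finset α) (hT : T.card = 4)
    (hev : ∀ Y ∈ B, Even (T ∩ Y).card) : False := by
  have h3 := moment hB T 3 (by norm_num)
  have h4 := moment hB T 4 (by norm_num)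
  have c1 : Nat.choose 21 2 = 210 := by decide
  have c2 : Nat.choose 5 2 = 10 := by decide
  have c3 : Nat.choose 4 3 = 4 := by decide
  simp only [hα, hT, Nat.reduceSub, c1, c2, c3, Nat.choose_one_right, Nat.choose_self] at h3 h4
  have hpt : ∀ b ∈ blocks B, (b ∩ T).card.choose 3 = 4 * (b ∩ T).card.choose 4 := by
    intro b hb
    rw [mem_blocks] at hb
    have hle : (b ∩ T).card ≤ 4 := hT ▸ card_le_card inter_subset_right
    exact choose_aux _ hle (by rw [inter_comm]; exact hev b hb)
  rw [sum_congr rfl hpt, ← mul_sum] at h3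
  omega

theorem no4_23 (hα : Fintype.card α = 23) {B : Set (Finset α)}
    (hB : Cfsg.IsSteinerSystem 4 7 B) (T : Finset α) (hT : T.card = 4)
    (hev : ∀ Y ∈ B, Even (T ∩ Y).card) : False := by
  have h3 := moment hB T 3 (by norm_num)
  have h4 := moment hB T 4 (by norm_num)
  have c3 : Nat.choose 4 3 = 4 := by decide
  simp only [hα, hT, Nat.reduceSub, c3, Nat.choose_one_right, Nat.choose_self,
    Nat.choose_zero_right] at h3 h4
  have hpt : ∀ b ∈ blocks B, (b ∩ T).card.choose 3 = 4 * (b ∩ T).card.choose 4 := by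
    intro b hb
    rw [mem_blocks] at hb
    have hle : (b ∩ T).card ≤ 4 := hT ▸ card_le_card inter_subset_right
    exact choose_aux _ hle (by rw [inter_comm]; exact hev b hb)
  rw [sum_congr rfl hpt, ← mul_sum] at h3
  omega

theorem no4_22 (hα : Fintype.card α = 22) {B : Set (Finset α)}
    (hB : Cfsg.IsSteinerSystem 3 6 B) (T : Finset α) (hT : T.card = 4)
    (hev : ∀ Y ∈ B, Even (T ∩ Y).card) : False := by
  have h1 := moment hB T 1 (by norm_num)
  have h2 := moment hB T 2 (by norm_num)
  have h3 := moment hB T 3 (by norm_num)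
  have c1 : Nat.choose 21 2 = 210 := by decide
  have c2 : Nat.choose 5 2 = 10 := by decide
  have c3 : Nat.choose 4 3 = 4 := by decide
  have c4 : Nat.choose 4 2 = 6 := by decide
  simp only [hα, hT, Nat.reduceSub, c1, c2, c3, c4, Nat.choose_one_right,
    Nat.choose_zero_right] at h1 h2 h3
  have hpt : ∀ b ∈ blocks B, (b ∩ T).card + 2 * (b ∩ T).card.choose 3
      = 2 * (b ∩ T).card.choose 2 := by
    intro b hb
    rw [mem_blocks] at hb
    have hle : (b ∩ T).card ≤ 4 := hT ▸ card_le_card inter_subset_right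
    exact choose_aux2 _ hle (by rw [inter_comm]; exact hev b hb)
  have hs := sum_congr rfl hpt
  rw [sum_add_distrib, ← mul_sum, ← mul_sum] at hs
  omega


theorem even_inter_24 (hα : Fintype.card α = 24) {B : Set (Finset α)}
    (hB : Cfsg.IsSteinerSystem 5 8 B) {X Y : Finset α} (hX : X ∈ B) (hY : Y ∈ B) :
    Even (X ∩ Y).card := by
  by_cases h : X = Y
  · subst h
    rw [inter_self, hB.1 X hX]
    decide
  · rcases Cfsg.Agent.S0352.result hα hB hX hY h with h | h | h <;> rw [h] <;> decide

theorem even_inter_22 (hα : Fintype.card α = 22) {B : Set (Finset α)}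
    (hB : Cfsg.IsSteinerSystem 3 6 B) {X Y : Finset α} (hX : X ∈ B) (hY : Y ∈ B) :
    Even (X ∩ Y).card := by
  by_cases h : X = Y
  · subst h
    rw [inter_self, hB.1 X hX]
    decide
  · rcases Cfsg.Agent.S0356.result hα hB hX hY h with h | h <;> rw [h] <;> decide

omit [Fintype α] in
theorem insertNone_inter (X Y : Finset α) :
    Finset.insertNone X ∩ Finset.insertNone Y = Finset.insertNone (X ∩ Y) := by
  ext o
  cases o <;> simp

theorem even_inter_23 (hα : Fintype.card α = 23) {B : Set (Finset α)}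
    (hB : Cfsg.IsSteinerSystem 4 7 B) {X Y : Finset (Option α)}
    (hX : X ∈ Finset.insertNone '' B) (hY : Y ∈ Finset.insertNone '' B) :
    Even (X ∩ Y).card := by
  obtain ⟨X, hX, rfl⟩ := hX
  obtain ⟨Y, hY, rfl⟩ := hY
  rw [insertNone_inter, Finset.card_insertNone]
  by_cases h : X = Y
  · subst h
    rw [inter_self, hB.1 X hX]
    decide
  · rcases Cfsg.Agent.S0355.result hα hB hX hY h with h | h <;> rw [h] <;> decide

/-- The blocks of an `S(5,8,24)` are the words of weight 8 in their span. -/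
theorem sl24 (hα : Fintype.card α = 24) {B : Set (Finset α)}
    (hB : Cfsg.IsSteinerSystem 5 8 B) (S : Finset α) :
    S ∈ B ↔ S.card = 8 ∧ ind S ∈ Submodule.span (ZMod 2) (ind '' B) := by
  constructor
  · intro hS
    exact ⟨hB.1 S hS, Submodule.subset_span ⟨S, hS, rfl⟩⟩
  · rintro ⟨hc, hS⟩
    have horth := span_orth B (fun X hX Y hY => even_inter_24 hα hB hX hY)
    obtain ⟨s, hs, hsc⟩ := exists_subset_card_eq (by omega : 5 ≤ S.card)
    obtain ⟨Y, ⟨hY, hsY⟩, -⟩ := hB.2 s hsc
    have hk : 8 ≤ (S ∩ Y).card + 3 := by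
      have := card_le_card (subset_inter hs hsY)
      omega
    rcases eq_or_four horth hS (Submodule.subset_span ⟨Y, hY, rfl⟩) (by decide : Even 8) hc
      (hB.1 Y hY) hk with h | ⟨hT, hTW⟩
    · rw [h]
      exact hY
    · exact (no4_24 hα hB _ hT (fun Z hZ =>
        even_of_dot (horth _ hTW _ (Submodule.subset_span ⟨Z, hZ, rfl⟩)))).elim

/-- The blocks of an `S(3,6,22)` are the words of weight 6 in their span. -/
theorem sl22 (hα : Fintype.card α = 22) {B : Set (Finset α)}
    (hB : Cfsg.IsSteinerSystem 3 6 B) (S : Finset α) :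
    S ∈ B ↔ S.card = 6 ∧ ind S ∈ Submodule.span (ZMod 2) (ind '' B) := by
  constructor
  · intro hS
    exact ⟨hB.1 S hS, Submodule.subset_span ⟨S, hS, rfl⟩⟩
  · rintro ⟨hc, hS⟩
    have horth := span_orth B (fun X hX Y hY => even_inter_22 hα hB hX hY)
    obtain ⟨s, hs, hsc⟩ := exists_subset_card_eq (by omega : 3 ≤ S.card)
    obtain ⟨Y, ⟨hY, hsY⟩, -⟩ := hB.2 s hsc
    have hk : 6 ≤ (S ∩ Y).card + 3 := by
      have := card_le_card (subset_inter hs hsY)
      omega
    rcases eq_or_four horth hS (Submodule.subset_span ⟨Y, hY, rfl⟩) (by decide : Even 6) hc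
      (hB.1 Y hY) hk with h | ⟨hT, hTW⟩
    · rw [h]
      exact hY
    · exact (no4_22 hα hB _ hT (fun Z hZ =>
        even_of_dot (horth _ hTW _ (Submodule.subset_span ⟨Z, hZ, rfl⟩)))).elim

/-- The blocks of an `S(4,7,23)`, extended by a new point, are the words of weight 8 through
the new point in their span. -/
theorem sl23 (hα : Fintype.card α = 23) {B : Set (Finset α)}
    (hB : Cfsg.IsSteinerSystem 4 7 B) (S : Finset (Option α)) :
    S ∈ Finset.insertNone '' B ↔ S.card = 8 ∧ none ∈ S ∧
      ind S ∈ Submodule.span (ZMod 2) (ind '' (Finset.insertNone '' B)) := by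
  constructor
  · rintro ⟨X, hX, rfl⟩
    refine ⟨by rw [Finset.card_insertNone, hB.1 X hX], Finset.none_mem_insertNone,
      Submodule.subset_span ⟨_, ⟨X, hX, rfl⟩, rfl⟩⟩
  · rintro ⟨hc, hn, hS⟩
    have horth := span_orth (Finset.insertNone '' B)
      (fun X hX Y hY => even_inter_23 hα hB hX hY)
    have hc' : (Finset.eraseNone S).card = 7 := by
      rw [Finset.card_eraseNone_of_mem hn, hc]
    obtain ⟨s, hs, hsc⟩ := exists_subset_card_eq (by omega : 4 ≤ (Finset.eraseNone S).card)
    obtain ⟨Y, ⟨hY, hsY⟩, -⟩ := hB.2 s hsc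
    have hYW : ind (Finset.insertNone Y) ∈ Submodule.span (ZMod 2) (ind '' (Finset.insertNone '' B)) :=
      Submodule.subset_span ⟨_, ⟨Y, hY, rfl⟩, rfl⟩
    have hk : 8 ≤ (S ∩ Finset.insertNone Y).card + 3 := by
      have hsub : Finset.insertNone s ⊆ S ∩ Finset.insertNone Y := by
        intro o ho
        rw [mem_inter]
        cases o with
        | none => exact ⟨hn, Finset.none_mem_insertNone⟩
        | some a =>
          rw [Finset.some_mem_insertNone] at ho
          exact ⟨Finset.mem_eraseNone.1 (hs ho), Finset.some_mem_insertNone.2 (hsY ho)⟩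
      have := card_le_card hsub
      rw [Finset.card_insertNone, hsc] at this
      omega
    rcases eq_or_four horth hS hYW (by decide : Even 8) hc
      (by rw [Finset.card_insertNone, hB.1 Y hY]) hk with h | ⟨hT, hTW⟩
    · exact ⟨Y, hY, h.symm⟩
    · exfalso
      have hnT : none ∉ symmDiff S (Finset.insertNone Y) := by
        rw [Finset.mem_symmDiff]
        simp [hn]
      refine no4_23 hα hB (Finset.eraseNone (symmDiff S (Finset.insertNone Y)))
        (by rw [Finset.card_eraseNone_of_not_mem hnT, hT]) (fun Z hZ => ?_)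
      have h1 := even_of_dot (horth _ hTW _ (Submodule.subset_span ⟨_, ⟨Z, hZ, rfl⟩, rfl⟩))
      have h2 : none ∉ symmDiff S (Finset.insertNone Y) ∩ Finset.insertNone Z :=
        fun h => hnT (mem_inter.1 h).1
      rw [← Finset.card_eraseNone_of_not_mem h2, Finset.eraseNone_inter,
        Finset.eraseNone_insertNone] at h1
      exact h1

end Cfsg.Agent.Lib.Helper8.SteinerSpan
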