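import Mathlib
import Cfsg.Prelude.Def_Sporadic_a
import Cfsg.Agent.Lib.Helper8.Steiner
import Cfsg.Agent.Lib.Helper8.Plane4
import Cfsg.Agent.Lib.Helper8.Plane4Model
import Cfsg.Agent.Lib.Helper8.GolayModel
import Cfsg.Agent.Lib.Helper8.Plane4Hyp
import Cfsg.Agent.Lib.Helper8.DerivedPlane
import Cfsg.Agent.Lib.Helper8.CodeSpan
import Cfsg.Agent.Lib.Helper8.SteinerSpan

/-!
Every Steiner system `S(5,8,24)`, `S(4,7,23)`, `S(3,6,22)` is carried onto a fixed model by a
bijection of the point sets.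
-/

set_option autoImplicit false

namespace Cfsg.Agent.Lib.Helper8.SteinerUniq

open Finset Cfsg.Agent.Lib.Helper8.Steiner Cfsg.Agent.Lib.Helper8.Plane4
  Cfsg.Agent.Lib.Helper8.Plane4Model Cfsg.Agent.Lib.Helper8.GolayModel
  Cfsg.Agent.Lib.Helper8.Plane4Hyp Cfsg.Agent.Lib.Helper8.DerivedPlane
  Cfsg.Agent.Lib.Helper8.CodeSpan Cfsg.Agent.Lib.Helper8.SteinerSpan

section geom

variable {α : Type*} [Fintype α] [DecidableEq α]

theorem exists_hyp {J : Finset α} {B : Set (Finset α)} {j : ℕ} (hJ : J.card = j)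
    (hα : Fintype.card α = 21 + j) (hB : Cfsg.IsSteinerSystem (2 + j) (5 + j) B) {c : α}
    (hc : c ∈ J) : ∃ X ∈ B, X ∩ J = J.erase c := by
  have hL : Cfsg.IsSteinerSystem 2 5 (lines J B) := derived hJ hB
  have hcard : Fintype.card (Co J) = 21 := by rw [card_co, hα, hJ]; omega
  obtain ⟨x0, y0, hxy⟩ := Fintype.one_lt_card_iff.1 (by rw [hcard]; norm_num : 1 < Fintype.card (Co J))
  obtain ⟨l0, hl0, hx0, hy0⟩ := exists_line hL hxy
  obtain ⟨z0, hz0⟩ : ∃ z0, z0 ∉ l0 := by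
    by_contra h
    simp only [not_exists, not_not] at h
    have h1 : l0 = univ := eq_univ_of_forall h
    have h2 := hL.1 l0 hl0
    rw [h1, card_univ, hcard] at h2
    omega
  obtain ⟨X, hX, hXJ, -⟩ := exists_block hJ hB hc x0 y0 z0 hxy
    (fun h => hz0 (h ▸ hx0)) (fun h => hz0 (h ▸ hy0))
    (fun l hl h => hz0 (by rw [line_eq hL hl0 hl hxy hx0 hy0 h.1 h.2.1]; exact h.2.2))
  exact ⟨X, hX, hXJ⟩

/-- The plane derived at `J`, with one block missing one point of `J`, is carried onto the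
model with the block going to `H0`. -/
theorem geom1 {J : Finset α} {B : Set (Finset α)} {j : ℕ} (hJ : J.card = j)
    (hα : Fintype.card α = 21 + j) (hB : Cfsg.IsSteinerSystem (2 + j) (5 + j) B) {c : α}
    (hc : c ∈ J) :
    ∃ (X : Finset α) (φ : Co J ≃ P21), X ∈ B ∧ X ∩ J = J.erase c ∧
      (fun l => l.image φ) '' (lines J B) = modelLines ∧ (X.subtype (· ∉ J)).image φ = H0 := by
  have hL : Cfsg.IsSteinerSystem 2 5 (lines J B) := derived hJ hB
  have hcard : Fintype.card (Co J) = 21 := by rw [card_co, hα, hJ]; omega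
  obtain ⟨X, hX, hXJ⟩ := exists_hyp hJ hα hB hc
  obtain ⟨hH6, hHarc⟩ := arc_of_block hJ hB hX hc hXJ
  obtain ⟨F, himg⟩ := exists_frame hcard hL (X.subtype (· ∉ J)) hHarc
    (Finset.equivFinOfCardEq hH6).symm
  obtain ⟨φ, hφe, hφL, -⟩ := exists_iso F
  refine ⟨X, φ, hX, hXJ, hφL, ?_⟩
  rw [← himg, image_image]
  have : (φ ∘ fun i => (((Finset.equivFinOfCardEq hH6).symm i : (X.subtype (· ∉ J))) : Co J))
      = Sum.inl := funext hφe
  rw [this]
  rfl

/-- The plane derived at `J`, with two blocks each missing one point of `J`, is carried onto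
the model with the blocks going to `H0` and `K1`. -/
theorem geom2 {J : Finset α} {B : Set (Finset α)} {j : ℕ} (hJ : J.card = j)
    (hα : Fintype.card α = 21 + j) (hB : Cfsg.IsSteinerSystem (2 + j) (5 + j) B) {b c : α}
    (hb : b ∈ J) (hc : c ∈ J) (hbc : b ≠ c) :
    ∃ (X X' : Finset α) (φ : Co J ≃ P21), X ∈ B ∧ X' ∈ B ∧ X ∩ J = J.erase c ∧
      X' ∩ J = J.erase b ∧ (fun l => l.image φ) '' (lines J B) = modelLines ∧
      (X.subtype (· ∉ J)).image φ = H0 ∧ (X'.subtype (· ∉ J)).image φ = K1 := by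
  have hL : Cfsg.IsSteinerSystem 2 5 (lines J B) := derived hJ hB
  have hcard : Fintype.card (Co J) = 21 := by rw [card_co, hα, hJ]; omega
  obtain ⟨X, hX, hXJ⟩ := exists_hyp hJ hα hB hc
  obtain ⟨hH6, hHarc⟩ := arc_of_block hJ hB hX hc hXJ
  obtain ⟨F, himg⟩ := exists_frame hcard hL (X.subtype (· ∉ J)) hHarc
    (Finset.equivFinOfCardEq hH6).symm
  generalize hedef : (fun i => (((Finset.equivFinOfCardEq hH6).symm i : (X.subtype (· ∉ J))) : Co J))
    = e at F himg
  have hmem : ∀ i, e i ∈ X.subtype (· ∉ J) := fun i => by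
    rw [← himg]; exact mem_image_of_mem _ (mem_univ _)
  have h01 : e 0 ≠ e 1 := F.inj.ne (by decide)
  have h02 : e 0 ≠ e 2 := F.inj.ne (by decide)
  have h12 : e 1 ≠ e 2 := F.inj.ne (by decide)
  have hncol : ∀ l ∈ lines J B, ¬ (e 0 ∈ l ∧ e 1 ∈ l ∧ e 2 ∈ l) := by
    rintro l hl ⟨h0, h1, h2⟩
    have h3 := three_le (s := l ∩ X.subtype (· ∉ J)) h01 h02 h12
      (mem_inter.2 ⟨h0, hmem 0⟩) (mem_inter.2 ⟨h1, hmem 1⟩) (mem_inter.2 ⟨h2, hmem 2⟩)
    have := hHarc l hl
    omega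
  obtain ⟨X', hX', hXJ', hx', hy', hz'⟩ := exists_block hJ hB hb (e 0) (e 1) (e 2) h01 h02 h12 hncol
  obtain ⟨hK6, hKarc⟩ := arc_of_block hJ hB hX' hb hXJ'
  have hint := inter_arcs hJ hB hb hc hbc hX hX' hXJ hXJ' (e 0) (e 1) (e 2) h01 h02 h12
    (mem_subtype.1 (hmem 0)) (mem_subtype.1 (hmem 1)) (mem_subtype.1 (hmem 2)) hx' hy' hz'
  obtain ⟨φ, hφL, hφH, hφK⟩ := two_hyp F (X'.subtype (· ∉ J)) hK6 hKarc
    (by rw [himg]; exact hint)
  exact ⟨X, X', φ, hX, hX', hXJ, hXJ', hφL, by rw [← himg]; exact hφH, hφK⟩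

end geom


section assemble

theorem exists_equiv {β γ : Type*} [Fintype β] [Fintype γ] (Ψ : γ → β)
    (hΨ : Function.Injective Ψ) (hcard : Fintype.card γ = Fintype.card β) :
    ∃ Φ : β ≃ γ, ∀ y, Φ (Ψ y) = y :=
  ⟨(Equiv.ofBijective Ψ ((Fintype.bijective_iff_injective_and_card Ψ).2 ⟨hΨ, hcard⟩)).symm,
    fun y => by rw [Equiv.symm_apply_eq]; rfl⟩

/-- The blocks of the model `S(5,8,24)`. -/
def BM24 : Set (Finset Pts) := {S | S.card = 8 ∧ ind S ∈ K24}

/-- The blocks of the model `S(3,6,22)`. -/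
def BM22 : Set (Finset Pts22) := {S | S.card = 6 ∧ ind S ∈ K22}

theorem assemble {β : Type*} [Fintype β] [DecidableEq β] (hβ : Fintype.card β = 24)
    (Ψ : Pts → β) (hΨ : Function.Injective Ψ) (𝓧 : Set (Finset β))
    (hev : ∀ S ∈ 𝓧, ∀ T ∈ 𝓧, Even (S ∩ T).card)
    (h1 : ∀ i j : Fin 6, i ≠ j → (lineOct (secantLine i j)).image Ψ ∈ 𝓧)
    (h2 : hypOct0.image Ψ ∈ 𝓧) (h3 : hypOct1.image Ψ ∈ 𝓧) :
    ∃ Φ : β ≃ Pts, (∀ y, Φ (Ψ y) = y) ∧ ∀ S : Finset β,
      ind (S.image Φ) ∈ K24 ↔ ind S ∈ Submodule.span (ZMod 2) (ind '' 𝓧) := by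
  obtain ⟨Φ, hΦ⟩ := exists_equiv Ψ hΨ (by rw [hβ]; rfl)
  refine ⟨Φ, hΦ, fun S => ?_⟩
  have himg : ∀ T : Finset Pts, (T.image Ψ).image Φ = T := fun T => by
    rw [image_image]
    have : Φ ∘ Ψ = id := funext hΦ
    rw [this, image_id]
  have hcl := cl24 ((fun b => b.image Φ) '' 𝓧) ?_ (gen_mem _ ?_ ?_ ?_)
  · rw [← hcl]
    exact span_image Φ 𝓧 S
  · rintro _ ⟨S, hS, rfl⟩ _ ⟨T, hT, rfl⟩
    rw [← Finset.image_inter _ _ Φ.injective, card_image_of_injective _ Φ.injective]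
    exact hev S hS T hT
  · intro i j hij
    exact ⟨_, h1 i j hij, himg _⟩
  · exact ⟨_, h2, himg _⟩
  · exact ⟨_, h3, himg _⟩

theorem assemble22 {β : Type*} [Fintype β] [DecidableEq β] (hβ : Fintype.card β = 22)
    (Ψ : Pts22 → β) (hΨ : Function.Injective Ψ) (𝓧 : Set (Finset β))
    (hev : ∀ S ∈ 𝓧, ∀ T ∈ 𝓧, Even (S ∩ T).card)
    (h1 : ∀ i j : Fin 6, i ≠ j → (lineBlk (secantLine i j)).image Ψ ∈ 𝓧)
    (h2 : hypBlk.image Ψ ∈ 𝓧) :
    ∃ Φ : β ≃ Pts22, (∀ y, Φ (Ψ y) = y) ∧ ∀ S : Finset β,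
      ind (S.image Φ) ∈ K22 ↔ ind S ∈ Submodule.span (ZMod 2) (ind '' 𝓧) := by
  obtain ⟨Φ, hΦ⟩ := exists_equiv Ψ hΨ (by rw [hβ]; rfl)
  refine ⟨Φ, hΦ, fun S => ?_⟩
  have himg : ∀ T : Finset Pts22, (T.image Ψ).image Φ = T := fun T => by
    rw [image_image]
    have : Φ ∘ Ψ = id := funext hΦ
    rw [this, image_id]
  have hcl := cl22 ((fun b => b.image Φ) '' 𝓧) ?_ (gen22_mem _ ?_ ?_)
  · rw [← hcl]
    exact span_image Φ 𝓧 S
  · rintro _ ⟨S, hS, rfl⟩ _ ⟨T, hT, rfl⟩
    rw [← Finset.image_inter _ _ Φ.injective, card_image_of_injective _ Φ.injective]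
    exact hev S hS T hT
  · intro i j hij
    exact ⟨_, h1 i j hij, himg _⟩
  · exact ⟨_, h2, himg _⟩

end assemble


section images

variable {α : Type*} [DecidableEq α]

omit [DecidableEq α] in
theorem psi_inj {β : Type*} {J : Finset α} {n : ℕ} (ψ : Fin n → β) (hψ : Function.Injective ψ)
    (ι : α → β) (hι : Function.Injective ι) (hne : ∀ i, ∀ x : Co J, ψ i ≠ ι x) (φ : Co J ≃ P21) :
    Function.Injective (Sum.elim ψ (fun p => ι ((φ.symm p : Co J) : α)) : Fin n ⊕ P21 → β) := by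
  intro u v h
  rcases u with i | p <;> rcases v with i' | p' <;> simp only [Sum.elim_inl, Sum.elim_inr] at h
  · rw [hψ h]
  · exact absurd h (hne _ _)
  · exact absurd h.symm (hne _ _)
  · rw [φ.symm.injective (Subtype.ext (hι h))]

theorem img {β : Type*} [DecidableEq β] {J : Finset α} {n : ℕ} (ψ : Fin n → β) (ι : α → β)
    (φ : Co J ≃ P21) (T0 : Finset (Fin n)) (l : Finset (Co J)) :
    ((T0.image Sum.inl ∪ (l.image φ).image Sum.inr : Finset (Fin n ⊕ P21))).image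
        (Sum.elim ψ (fun p => ι ((φ.symm p : Co J) : α)))
      = T0.image ψ ∪ (l.map (Function.Embedding.subtype _)).image ι := by
  rw [image_union, image_image, image_image, image_image, Finset.map_eq_image, image_image]
  congr 1
  apply image_congr
  intro x _
  simp

theorem lineOct_eq (m : Finset P21) :
    lineOct m = (univ : Finset (Fin 3)).image Sum.inl ∪ m.image Sum.inr := by
  have : ({Sum.inl 0, Sum.inl 1, Sum.inl 2} : Finset Pts) = (univ : Finset (Fin 3)).image Sum.inl := by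
    decide
  rw [lineOct, this]

theorem hypOct0_eq :
    hypOct0 = ((univ : Finset (Fin 3)).erase 2).image Sum.inl ∪ H0.image Sum.inr := by
  have : ({Sum.inl 0, Sum.inl 1} : Finset Pts) = ((univ : Finset (Fin 3)).erase 2).image Sum.inl := by
    decide
  rw [hypOct0, this]

theorem hypOct1_eq :
    hypOct1 = ((univ : Finset (Fin 3)).erase 1).image Sum.inl ∪ K1.image Sum.inr := by
  have : ({Sum.inl 0, Sum.inl 2} : Finset Pts) = ((univ : Finset (Fin 3)).erase 1).image Sum.inl := by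
    decide
  rw [hypOct1, this]

theorem lineBlk_eq (m : Finset P21) :
    lineBlk m = (univ : Finset (Fin 1)).image Sum.inl ∪ m.image Sum.inr := by
  have : ({Sum.inl 0} : Finset Pts22) = (univ : Finset (Fin 1)).image Sum.inl := by
    decide
  rw [lineBlk, this]

theorem hypBlk_eq :
    hypBlk = ((univ : Finset (Fin 1)).erase 0).image Sum.inl ∪ H0.image Sum.inr := by
  have : ((univ : Finset (Fin 1)).erase 0) = ∅ := by decide
  rw [hypBlk, this, image_empty, empty_union]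

theorem split_J (X J : Finset α) :
    X ∩ J ∪ (X.subtype (· ∉ J)).map (Function.Embedding.subtype _) = X := by
  rw [Finset.subtype_map]
  ext x
  simp only [mem_union, mem_inter, mem_filter]
  tauto

end images

section main

variable {α : Type*} [Fintype α] [DecidableEq α]

/-- Every `S(5,8,24)` is carried onto the model `BM24`. -/
theorem u24 (hα : Fintype.card α = 24) {B : Set (Finset α)}
    (hB : Cfsg.IsSteinerSystem 5 8 B) : ∃ Φ : α ≃ Pts, (fun b => b.image Φ) '' B = BM24 := by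
  obtain ⟨ψ⟩ : Nonempty (Fin 3 ↪ α) :=
    Function.Embedding.nonempty_of_card_le (by rw [hα, Fintype.card_fin]; norm_num)
  have hJ : (univ.image ψ).card = 3 := by rw [card_image_of_injective _ ψ.injective]; rfl
  obtain ⟨X, X', φ, hX, hX', hXJ, hXJ', hφL, hφH, hφK⟩ :=
    geom2 (j := 3) hJ (by rw [hα]) hB (b := ψ 1) (c := ψ 2)
      (mem_image_of_mem _ (mem_univ _)) (mem_image_of_mem _ (mem_univ _))
      (ψ.injective.ne (by decide))
  have hΨ := psi_inj (J := univ.image ψ) ψ ψ.injective id Function.injective_id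
    (fun i x h => x.2 (by rw [id] at h; rw [← h]; exact mem_image_of_mem _ (mem_univ _))) φ
  have h1 : ∀ i j : Fin 6, i ≠ j → (lineOct (secantLine i j)).image
      (Sum.elim ψ (fun p => id ((φ.symm p : Co (univ.image ψ)) : α))) ∈ B := by
    intro i j hij
    have hm : secantLine i j ∈ modelLines := Or.inl ⟨i, j, hij, rfl⟩
    rw [← hφL] at hm
    obtain ⟨l, hl, hli⟩ := hm
    simp only at hli
    rw [← hli, lineOct_eq, img ψ id φ univ l, image_id]
    exact hl
  have h2 : hypOct0.image (Sum.elim ψ (fun p => id ((φ.symm p : Co (univ.image ψ)) : α))) ∈ B := by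
    rw [hypOct0_eq, ← hφH, img ψ id φ _ _, image_id, Finset.image_erase ψ.injective, ← hXJ,
      split_J]
    exact hX
  have h3 : hypOct1.image (Sum.elim ψ (fun p => id ((φ.symm p : Co (univ.image ψ)) : α))) ∈ B := by
    rw [hypOct1_eq, ← hφK, img ψ id φ _ _, image_id, Finset.image_erase ψ.injective, ← hXJ',
      split_J]
    exact hX'
  obtain ⟨Φ, hΦ, hspan⟩ := assemble hα _ hΨ B (fun S hS T hT => even_inter_24 hα hB hS hT)
    h1 h2 h3
  refine ⟨Φ, ?_⟩
  ext T
  constructor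
  · rintro ⟨S, hS, rfl⟩
    have := (sl24 hα hB S).1 hS
    exact ⟨by rw [card_image_of_injective _ Φ.injective]; exact this.1, (hspan S).2 this.2⟩
  · rintro ⟨hc, hT⟩
    have hTT : (T.image Φ.symm).image Φ = T := by
      rw [image_image]
      simp
    refine ⟨T.image Φ.symm, ?_, hTT⟩
    rw [sl24 hα hB]
    refine ⟨by rw [card_image_of_injective _ Φ.symm.injective]; exact hc, (hspan _).1 ?_⟩
    rw [hTT]
    exact hT

/-- The blocks of the model `S(4,7,23)`, extended by the point `inl 0`. -/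
def BM23 : Set (Finset Pts) := {S | S.card = 8 ∧ Sum.inl 0 ∈ S ∧ ind S ∈ K24}

/-- Every `S(3,6,22)` is carried onto the model `BM22`. -/
theorem u22 (hα : Fintype.card α = 22) {B : Set (Finset α)}
    (hB : Cfsg.IsSteinerSystem 3 6 B) : ∃ Φ : α ≃ Pts22, (fun b => b.image Φ) '' B = BM22 := by
  obtain ⟨ψ⟩ : Nonempty (Fin 1 ↪ α) :=
    Function.Embedding.nonempty_of_card_le (by rw [hα, Fintype.card_fin]; norm_num)
  have hJ : (univ.image ψ).card = 1 := by rw [card_image_of_injective _ ψ.injective]; rfl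
  obtain ⟨X, φ, hX, hXJ, hφL, hφH⟩ :=
    geom1 (j := 1) hJ (by rw [hα]) hB (c := ψ 0) (mem_image_of_mem _ (mem_univ _))
  have hΨ := psi_inj (J := univ.image ψ) ψ ψ.injective id Function.injective_id
    (fun i x h => x.2 (by rw [id] at h; rw [← h]; exact mem_image_of_mem _ (mem_univ _))) φ
  have h1 : ∀ i j : Fin 6, i ≠ j → (lineBlk (secantLine i j)).image
      (Sum.elim ψ (fun p => id ((φ.symm p : Co (univ.image ψ)) : α))) ∈ B := by
    intro i j hij
    have hm : secantLine i j ∈ modelLines := Or.inl ⟨i, j, hij, rfl⟩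
    rw [← hφL] at hm
    obtain ⟨l, hl, hli⟩ := hm
    simp only at hli
    rw [← hli, lineBlk_eq, img ψ id φ univ l, image_id]
    exact hl
  have h2 : hypBlk.image (Sum.elim ψ (fun p => id ((φ.symm p : Co (univ.image ψ)) : α))) ∈ B := by
    rw [hypBlk_eq, ← hφH, img ψ id φ _ _, image_id, Finset.image_erase ψ.injective, ← hXJ,
      split_J]
    exact hX
  obtain ⟨Φ, hΦ, hspan⟩ := assemble22 hα _ hΨ B (fun S hS T hT => even_inter_22 hα hB hS hT)
    h1 h2
  refine ⟨Φ, ?_⟩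
  ext T
  constructor
  · rintro ⟨S, hS, rfl⟩
    have := (sl22 hα hB S).1 hS
    exact ⟨by rw [card_image_of_injective _ Φ.injective]; exact this.1, (hspan S).2 this.2⟩
  · rintro ⟨hc, hT⟩
    have hTT : (T.image Φ.symm).image Φ = T := by
      rw [image_image]
      simp
    refine ⟨T.image Φ.symm, ?_, hTT⟩
    rw [sl22 hα hB]
    refine ⟨by rw [card_image_of_injective _ Φ.symm.injective]; exact hc, (hspan _).1 ?_⟩
    rw [hTT]
    exact hT

end main

end Cfsg.Agent.Lib.Helper8.SteinerUniq
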