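import Mathlib
import Cfsg.Prelude.Def_Sporadic_a
import Cfsg.Agent.Lib.Helper8.SteinerUniq

/-!
Every Steiner system `S(4,7,23)`, extended by a new point, is carried onto a fixed model.
-/

set_option autoImplicit false

namespace Cfsg.Agent.Lib.Helper8.SteinerUniq23

open Finset Cfsg.Agent.Lib.Helper8.Steiner Cfsg.Agent.Lib.Helper8.Plane4
  Cfsg.Agent.Lib.Helper8.Plane4Model Cfsg.Agent.Lib.Helper8.GolayModel
  Cfsg.Agent.Lib.Helper8.Plane4Hyp Cfsg.Agent.Lib.Helper8.DerivedPlane
  Cfsg.Agent.Lib.Helper8.CodeSpan Cfsg.Agent.Lib.Helper8.SteinerSpan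
  Cfsg.Agent.Lib.Helper8.SteinerUniq

theorem insertNone_eq {α : Type*} [DecidableEq α] (S : Finset α) :
    Finset.insertNone S = insert none (S.image some) := by
  ext o
  cases o <;> simp

/-- A bijection of the extended point sets fixing the new point and matching the extended
blocks restricts to an isomorphism. -/
theorem iso_of_option {α β : Type*} [DecidableEq α] [DecidableEq β] (Ψ : Option α ≃ Option β)
    (hΨ : Ψ none = none) {B : Set (Finset α)} {B' : Set (Finset β)}
    (h : (fun b => b.image Ψ) '' (Finset.insertNone '' B) = Finset.insertNone '' B') :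
    (fun b => b.image (Equiv.removeNone Ψ)) '' B = B' := by
  have hsome : ∀ x, Ψ (some x) = some (Equiv.removeNone Ψ x) := by
    intro x
    refine (Equiv.removeNone_some Ψ ?_).symm
    cases hx : Ψ (some x) with
    | none => exact absurd (Ψ.injective (hx.trans hΨ.symm)) (by simp)
    | some y => exact ⟨y, rfl⟩
  have himg : ∀ X : Finset α,
      (Finset.insertNone X).image Ψ = Finset.insertNone (X.image (Equiv.removeNone Ψ)) := by
    intro X
    rw [insertNone_eq, insertNone_eq, image_insert, hΨ, image_image, image_image]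
    congr 2
    exact funext hsome
  ext Y
  constructor
  · rintro ⟨X, hX, rfl⟩
    have h1 : (Finset.insertNone X).image Ψ ∈ Finset.insertNone '' B' := by
      rw [← h]
      exact ⟨_, ⟨X, hX, rfl⟩, rfl⟩
    obtain ⟨Y, hY, hYX⟩ := h1
    rw [himg] at hYX
    show X.image (Equiv.removeNone Ψ) ∈ B'
    rw [← Finset.insertNone.injective hYX]
    exact hY
  · intro hY
    have h1 : Finset.insertNone Y ∈ Finset.insertNone '' B' := ⟨Y, hY, rfl⟩
    rw [← h] at h1
    obtain ⟨_, ⟨X, hX, rfl⟩, hXY⟩ := h1
    simp only at hXY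
    rw [himg] at hXY
    exact ⟨X, hX, Finset.insertNone.injective hXY⟩

variable {α : Type*} [Fintype α] [DecidableEq α]

/-- Every `S(4,7,23)`, extended by a new point, is carried onto the model `BM23`. -/
theorem u23 (hα : Fintype.card α = 23) {B : Set (Finset α)}
    (hB : Cfsg.IsSteinerSystem 4 7 B) : ∃ Φ : Option α ≃ Pts, Φ none = Sum.inl 0 ∧
      (fun b => b.image Φ) '' (Finset.insertNone '' B) = BM23 := by
  obtain ⟨ψ⟩ : Nonempty (Fin 2 ↪ α) :=
    Function.Embedding.nonempty_of_card_le (by rw [hα, Fintype.card_fin]; norm_num)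
  have hJ : (univ.image ψ).card = 2 := by rw [card_image_of_injective _ ψ.injective]; rfl
  obtain ⟨X, X', φ, hX, hX', hXJ, hXJ', hφL, hφH, hφK⟩ :=
    geom2 (j := 2) hJ (by rw [hα]) hB (b := ψ 0) (c := ψ 1)
      (mem_image_of_mem _ (mem_univ _)) (mem_image_of_mem _ (mem_univ _))
      (ψ.injective.ne (by decide))
  have hu3 : (univ : Finset (Fin 3)) = {0, 1, 2} := by decide
  have he2 : (univ : Finset (Fin 3)).erase 2 = {0, 1} := by decide
  have he1 : (univ : Finset (Fin 3)).erase 1 = {0, 2} := by decide
  have hu2 : (univ : Finset (Fin 2)) = {0, 1} := by decide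
  have hJ0 : (univ.image ψ).erase (ψ 1) = {ψ 0} := by
    rw [← Finset.image_erase ψ.injective]
    have : (univ : Finset (Fin 2)).erase 1 = {0} := by decide
    rw [this, image_singleton]
  have hJ1 : (univ.image ψ).erase (ψ 0) = {ψ 1} := by
    rw [← Finset.image_erase ψ.injective]
    have : (univ : Finset (Fin 2)).erase 0 = {1} := by decide
    rw [this, image_singleton]
  have hJ2 : (univ.image ψ).image some = {some (ψ 0), some (ψ 1)} := by
    rw [hu2, image_insert, image_singleton, image_insert, image_singleton]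
  rw [hJ0] at hXJ
  rw [hJ1] at hXJ'
  let ψp : Fin 3 → Option α := ![none, some (ψ 0), some (ψ 1)]
  have hψp : Function.Injective ψp := by
    intro i j hij
    have h01 : ψ 0 ≠ ψ 1 := ψ.injective.ne (by decide)
    fin_cases i <;> fin_cases j <;> first | rfl | (exfalso; revert hij; simp [ψp, h01, h01.symm])
  have hne : ∀ i, ∀ x : Co (univ.image ψ), ψp i ≠ some (x : α) := by
    intro i x h
    fin_cases i
    · exact absurd h (by simp [ψp])
    · exact x.2 (by
        have : ψ 0 = x := Option.some_injective _ h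
        rw [← this]; exact mem_image_of_mem _ (mem_univ _))
    · exact x.2 (by
        have : ψ 1 = x := Option.some_injective _ h
        rw [← this]; exact mem_image_of_mem _ (mem_univ _))
  have hΨ := psi_inj (J := univ.image ψ) ψp hψp some (Option.some_injective _) hne φ
  have h1 : ∀ i j : Fin 6, i ≠ j → (lineOct (secantLine i j)).image
      (Sum.elim ψp (fun p => some ((φ.symm p : Co (univ.image ψ)) : α)))
        ∈ Finset.insertNone '' B := by
    intro i j hij
    have hm : secantLine i j ∈ modelLines := Or.inl ⟨i, j, hij, rfl⟩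
    rw [← hφL] at hm
    obtain ⟨l, hl, hli⟩ := hm
    simp only at hli
    refine ⟨_, hl, ?_⟩
    rw [← hli, lineOct_eq, img ψp some φ univ l, hu3, insertNone_eq, image_union, hJ2]
    simp only [image_insert, image_singleton, insert_union]
    rfl
  have h2 : hypOct0.image (Sum.elim ψp (fun p => some ((φ.symm p : Co (univ.image ψ)) : α)))
      ∈ Finset.insertNone '' B := by
    refine ⟨X, hX, ?_⟩
    rw [hypOct0_eq, ← hφH, img ψp some φ _ _, he2, insertNone_eq]
    conv_lhs => rw [← split_J X (univ.image ψ), hXJ]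
    simp only [image_union, image_insert, image_singleton, insert_union]
    rfl
  have h3 : hypOct1.image (Sum.elim ψp (fun p => some ((φ.symm p : Co (univ.image ψ)) : α)))
      ∈ Finset.insertNone '' B := by
    refine ⟨X', hX', ?_⟩
    rw [hypOct1_eq, ← hφK, img ψp some φ _ _, he1, insertNone_eq]
    conv_lhs => rw [← split_J X' (univ.image ψ), hXJ']
    simp only [image_union, image_insert, image_singleton, insert_union]
    rfl
  obtain ⟨Φ, hΦ, hspan⟩ := assemble (by rw [Fintype.card_option, hα]) _ hΨ
    (Finset.insertNone '' B) (fun S hS T hT => even_inter_23 hα hB hS hT) h1 h2 h3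
  have hnone : Φ none = Sum.inl 0 := hΦ (Sum.inl 0)
  refine ⟨Φ, hnone, ?_⟩
  ext T
  constructor
  · rintro ⟨S, hS, rfl⟩
    have := (sl23 hα hB S).1 hS
    exact ⟨by rw [card_image_of_injective _ Φ.injective]; exact this.1,
      by rw [← hnone]; exact mem_image_of_mem _ this.2.1, (hspan S).2 this.2.2⟩
  · rintro ⟨hc, h0, hT⟩
    have hTT : (T.image Φ.symm).image Φ = T := by
      rw [image_image]
      simp
    refine ⟨T.image Φ.symm, ?_, hTT⟩
    rw [sl23 hα hB]
    refine ⟨by rw [card_image_of_injective _ Φ.symm.injective]; exact hc, ?_, (hspan _).1 ?_⟩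
    · rw [mem_image]
      exact ⟨Sum.inl 0, h0, by rw [Equiv.symm_apply_eq]; exact hnone.symm⟩
    · rw [hTT]
      exact hT

end Cfsg.Agent.Lib.Helper8.SteinerUniq23
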