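import Mathlib
import Cfsg.Prelude.Def_Sporadic_a
import Cfsg.Agent.Lib.Helper8.SteinerUniq
import Cfsg.Agent.Lib.Helper8.SteinerUniq23
import Cfsg.Agent.Lib.Helper8.SteinerUniq23b
import Cfsg.Agent.Lib.Helper8.AutTransport
import Cfsg.Agent.S0363
import Cfsg.Agent.S0369

/-!
The automorphism group of an `S(4,7,23)` embeds in `Cfsg.M24` as a point stabiliser.
-/

set_option autoImplicit false

namespace Cfsg.Agent.Lib.Helper8.AutExt23

open scoped Pointwise
open Finset Cfsg.Agent.Lib.Helper8.GolayModel Cfsg.Agent.Lib.Helper8.CodeSpan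
  Cfsg.Agent.Lib.Helper8.SteinerSpan Cfsg.Agent.Lib.Helper8.SteinerUniq
  Cfsg.Agent.Lib.Helper8.SteinerUniq23 Cfsg.Agent.Lib.Helper8.SteinerUniq23b
  Cfsg.Agent.Lib.Helper8.AutTransport

/-- A permutation preserving membership in a set system is an automorphism. -/
theorem aut_of_iff {β : Type*} [DecidableEq β] (G : Equiv.Perm β) (𝒪 : Set (Finset β))
    (h : ∀ S, S.image G ∈ 𝒪 ↔ S ∈ 𝒪) : G ∈ Cfsg.setSystemAut 𝒪 := by
  rw [mem_aut_iff]
  ext T
  constructor
  · rintro ⟨S, hS, rfl⟩
    exact (h S).2 hS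
  · intro hT
    have hTT : (T.image G.symm).image G = T := by
      rw [image_image]
      simp
    refine ⟨T.image G.symm, (h _).1 ?_, hTT⟩
    rw [hTT]
    exact hT

theorem aut_image {β : Type*} [DecidableEq β] {G : Equiv.Perm β} {𝒪 : Set (Finset β)}
    (hG : G ∈ Cfsg.setSystemAut 𝒪) {S : Finset β} (hS : S ∈ 𝒪) : S.image G ∈ 𝒪 := by
  rw [mem_aut_iff] at hG
  rw [← hG]
  exact ⟨S, hS, rfl⟩

variable {α : Type*} [DecidableEq α]

theorem optionCongr_image (g : Equiv.Perm α) (X : Finset α) :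
    (Finset.insertNone X).image (Equiv.optionCongr g) = Finset.insertNone (X.image g) := by
  rw [insertNone_eq, insertNone_eq, image_insert, image_image, image_image]
  rfl

theorem option_mem {B : Set (Finset α)} {g : Equiv.Perm α} (hg : g ∈ Cfsg.setSystemAut B) :
    Equiv.optionCongr g ∈ Cfsg.setSystemAut (ext23 B) := by
  have hX : (fun b => b.image (Equiv.optionCongr g)) '' (Finset.insertNone '' B)
      = Finset.insertNone '' B := by
    rw [mem_aut_iff] at hg
    rw [Set.image_image]
    conv_rhs => rw [← hg, Set.image_image]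
    apply Set.image_congr
    intro X _
    exact optionCongr_image g X
  apply aut_of_iff
  intro S
  have h1 := span_image (Equiv.optionCongr g) (Finset.insertNone '' B) S
  rw [hX] at h1
  constructor
  · rintro ⟨hc, hS⟩
    exact ⟨by rwa [card_image_of_injective _ (Equiv.optionCongr g).injective] at hc, h1.1 hS⟩
  · rintro ⟨hc, hS⟩
    exact ⟨by rwa [card_image_of_injective _ (Equiv.optionCongr g).injective], h1.2 hS⟩

theorem optionCongr_removeNone (k : Equiv.Perm (Option α)) (hk : k none = none) :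
    Equiv.optionCongr (Equiv.removeNone k) = k := by
  ext x : 1
  cases x with
  | none => simp [hk]
  | some x =>
    rw [Equiv.optionCongr_apply, Option.map_some]
    refine Equiv.removeNone_some k ?_
    cases hx : k (some x) with
    | none => exact absurd (k.injective (hx.trans hk.symm)) (by simp)
    | some y => exact ⟨y, rfl⟩

variable [Fintype α]

theorem removeNone_mem (hα : Fintype.card α = 23) {B : Set (Finset α)}
    (hB : Cfsg.IsSteinerSystem 4 7 B) {k : Equiv.Perm (Option α)}
    (hk : k ∈ Cfsg.setSystemAut (ext23 B)) (hnone : k none = none) :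
    Equiv.removeNone k ∈ Cfsg.setSystemAut B := by
  rw [mem_aut_iff]
  apply iso_of_option k hnone
  ext T
  constructor
  · rintro ⟨S, hS, rfl⟩
    rw [mem_ext23_none hα hB] at hS ⊢
    exact ⟨aut_image hk hS.1, by rw [← hnone]; exact mem_image_of_mem _ hS.2⟩
  · intro hT
    rw [mem_ext23_none hα hB] at hT
    have hk' := hk
    rw [mem_aut_iff] at hk'
    have h1 := hT.1
    rw [← hk'] at h1
    obtain ⟨S, hS, rfl⟩ := h1
    refine ⟨S, (mem_ext23_none hα hB S).2 ⟨hS, ?_⟩, rfl⟩
    obtain ⟨u, hu, hun⟩ := mem_image.1 hT.2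
    have : u = none := k.injective (hun.trans hnone.symm)
    rw [← this]
    exact hu

/-- The extension of automorphisms, as a group homomorphism. -/
def extHom (B : Set (Finset α)) : Cfsg.setSystemAut B →* Cfsg.setSystemAut (ext23 B) :=
  MonoidHom.mk' (fun g => ⟨Equiv.optionCongr (g : Equiv.Perm α), option_mem g.2⟩) (by
    intro g g'
    apply Subtype.ext
    ext x : 1
    cases x <;> simp [Equiv.Perm.mul_apply])

omit [Fintype α] in
theorem extHom_apply (B : Set (Finset α)) (g : Cfsg.setSystemAut B) :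
    ((extHom B g : Cfsg.setSystemAut (ext23 B)) : Equiv.Perm (Option α))
      = Equiv.optionCongr (g : Equiv.Perm α) := rfl

/-- The automorphism group of an `S(4,7,23)` is carried isomorphically onto a point
stabiliser in `Cfsg.M24`, compatibly with a bijection of the extended point set onto the 24
points. -/
theorem exists_hom (hα : Fintype.card α = 23) {B : Set (Finset α)}
    (hB : Cfsg.IsSteinerSystem 4 7 B) :
    ∃ (e : Option α ≃ Cfsg.GolayPt) (f : Cfsg.setSystemAut B →* Cfsg.M24),
      Function.Injective f ∧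
      (∀ g x, ((f g : Cfsg.M24) : Equiv.Perm Cfsg.GolayPt) (e (some x))
        = e (some ((g : Equiv.Perm α) x))) ∧
      (∀ g, ((f g : Cfsg.M24) : Equiv.Perm Cfsg.GolayPt) (e none) = e none) ∧
      ∀ h : Cfsg.M24, (h : Equiv.Perm Cfsg.GolayPt) (e none) = e none → ∃ g, f g = h := by
  obtain ⟨Φ, -, hΦ⟩ := ext23_iso hα hB
  obtain ⟨Φ', hΦ'⟩ := u24 (α := Cfsg.GolayPt)
    (by rw [Fintype.card_option, ZMod.card]) Cfsg.Agent.S0363.result
  have hiso := Cfsg.Agent.Lib.Helper8.Plane4Model.iso_of_model Φ Φ' hΦ hΦ'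
  let ψ := (autCongr (Φ.trans Φ'.symm) hiso).trans
    (MulEquiv.subgroupCongr Cfsg.Agent.S0369.result.symm)
  have hψ : ∀ (k : Cfsg.setSystemAut (ext23 B)) (x : Option α),
      ((ψ k : Cfsg.M24) : Equiv.Perm Cfsg.GolayPt) ((Φ.trans Φ'.symm) x)
        = (Φ.trans Φ'.symm) ((k : Equiv.Perm (Option α)) x) := fun k x =>
    autCongr_apply (Φ.trans Φ'.symm) hiso k x
  have hψs : ∀ (h : Cfsg.M24) (x : Option α),
      ((ψ.symm h : Cfsg.setSystemAut (ext23 B)) : Equiv.Perm (Option α)) x
        = (Φ.trans Φ'.symm).symm ((h : Equiv.Perm Cfsg.GolayPt) ((Φ.trans Φ'.symm) x)) :=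
    fun h x => autCongr_symm_apply (Φ.trans Φ'.symm) hiso _ x
  refine ⟨Φ.trans Φ'.symm, ψ.toMonoidHom.comp (extHom B), ?_, ?_, ?_, ?_⟩
  · intro g g' hgg
    have h1 : extHom B g = extHom B g' := ψ.injective hgg
    have h2 := congrArg (fun k : Cfsg.setSystemAut (ext23 B) => (k : Equiv.Perm (Option α))) h1
    simp only [extHom_apply] at h2
    exact Subtype.ext (Equiv.optionCongr_injective h2)
  · intro g x
    show ((ψ (extHom B g) : Cfsg.M24) : Equiv.Perm Cfsg.GolayPt) _ = _
    rw [hψ, extHom_apply]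
    rfl
  · intro g
    show ((ψ (extHom B g) : Cfsg.M24) : Equiv.Perm Cfsg.GolayPt) _ = _
    rw [hψ, extHom_apply]
    rfl
  · intro h hh
    have hnone : ((ψ.symm h : Cfsg.setSystemAut (ext23 B)) : Equiv.Perm (Option α)) none = none := by
      rw [hψs, hh]
      simp
    refine ⟨⟨Equiv.removeNone ((ψ.symm h : Cfsg.setSystemAut (ext23 B)) : Equiv.Perm (Option α)),
      removeNone_mem hα hB (ψ.symm h).2 hnone⟩, ?_⟩
    show ψ (extHom B _) = h
    rw [← MulEquiv.eq_symm_apply]
    apply Subtype.ext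
    rw [extHom_apply]
    exact optionCongr_removeNone _ hnone

end Cfsg.Agent.Lib.Helper8.AutExt23
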