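import Mathlib
import Cfsg.Prelude.Def_Sporadic_a
import Cfsg.Agent.Lib.Helper8.SteinerUniq

/-!
Two Steiner systems `S(5,8,24)` on the same points with the same blocks through two given
points either coincide or differ by the transposition of the two points.
-/

set_option autoImplicit false

namespace Cfsg.Agent.Lib.Helper8.TwoExt

open Finset Cfsg.Agent.Lib.Helper8.Steiner Cfsg.Agent.Lib.Helper8.Plane4
  Cfsg.Agent.Lib.Helper8.Plane4Model Cfsg.Agent.Lib.Helper8.GolayModel
  Cfsg.Agent.Lib.Helper8.Plane4Hyp Cfsg.Agent.Lib.Helper8.DerivedPlane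
  Cfsg.Agent.Lib.Helper8.CodeSpan Cfsg.Agent.Lib.Helper8.SteinerSpan
  Cfsg.Agent.Lib.Helper8.SteinerUniq

section basic

variable {α : Type*} [DecidableEq α]

theorem steiner_image {β : Type*} [DecidableEq β] (e : α ≃ β) {t k : ℕ} {B : Set (Finset α)}
    (hB : Cfsg.IsSteinerSystem t k B) :
    Cfsg.IsSteinerSystem t k ((fun b => b.image e) '' B) := by
  constructor
  · rintro _ ⟨b, hb, rfl⟩
    rw [card_image_of_injective _ e.injective]
    exact hB.1 b hb
  · intro s hs
    obtain ⟨b, ⟨hb, hsb⟩, huniq⟩ := hB.2 (s.image e.symm)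
      (by rw [card_image_of_injective _ e.symm.injective]; exact hs)
    refine ⟨b.image e, ⟨⟨b, hb, rfl⟩, ?_⟩, ?_⟩
    · intro x hx
      have h1 : e.symm x ∈ b := hsb (mem_image_of_mem _ hx)
      have h2 := mem_image_of_mem e h1
      simpa using h2
    · rintro _ ⟨⟨b', hb', rfl⟩, hsb'⟩
      have h1 : b' = b := by
        refine huniq b' ⟨hb', ?_⟩
        intro x hx
        obtain ⟨y, hy, rfl⟩ := mem_image.1 hx
        obtain ⟨z, hz, hzy⟩ := mem_image.1 (hsb' hy)
        rw [← hzy]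
        simpa using hz
      rw [h1]

theorem image_swap_of_mem {a b : α} {S : Finset α} (ha : a ∈ S) (hb : b ∈ S) :
    S.image (Equiv.swap a b) = S := by
  apply eq_of_subset_of_card_le
  · intro x hx
    obtain ⟨y, hy, rfl⟩ := mem_image.1 hx
    by_cases hya : y = a
    · rw [hya, Equiv.swap_apply_left]; exact hb
    · by_cases hyb : y = b
      · rw [hyb, Equiv.swap_apply_right]; exact ha
      · rw [Equiv.swap_apply_of_ne_of_ne hya hyb]; exact hy
  · rw [card_image_of_injective _ (Equiv.swap a b).injective]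

theorem image_swap_swap (a b : α) (S : Finset α) :
    (S.image (Equiv.swap a b)).image (Equiv.swap a b) = S := by
  rw [image_image]
  have : (Equiv.swap a b : α → α) ∘ (Equiv.swap a b : α → α) = id := by
    funext x
    simp
  rw [this, image_id]

end basic

variable {α : Type*} [Fintype α] [DecidableEq α]

/-- The map onto the model is determined by the labelling data. -/
theorem u24_core (hα : Fintype.card α = 24) {B : Set (Finset α)}
    (hB : Cfsg.IsSteinerSystem 5 8 B) (ψ : Fin 3 ↪ α) {X X' : Finset α} (hX : X ∈ B)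
    (hX' : X' ∈ B) (hXJ : X ∩ univ.image ψ = (univ.image ψ).erase (ψ 2))
    (hXJ' : X' ∩ univ.image ψ = (univ.image ψ).erase (ψ 1))
    (φ : Co (univ.image ψ) ≃ P21)
    (hφL : (fun l => l.image φ) '' (lines (univ.image ψ) B) = modelLines)
    (hφH : (X.subtype (· ∉ univ.image ψ)).image φ = H0)
    (hφK : (X'.subtype (· ∉ univ.image ψ)).image φ = K1) (Φ : α ≃ Pts)
    (hΦ : ∀ y, Φ (Sum.elim ψ (fun p => id ((φ.symm p : Co (univ.image ψ)) : α)) y) = y) :
    (fun b => b.image Φ) '' B = BM24 := by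
  have hΨ := psi_inj (J := univ.image ψ) ψ ψ.injective id Function.injective_id
    (fun i x h => x.2 (by rw [id] at h; rw [← h]; exact mem_image_of_mem _ (mem_univ _))) φ
  have h1 : ∀ i j : Fin 6, i ≠ j → (lineOct (secantLine i j)).image
      (Sum.elim ψ (fun p => id ((φ.symm p : Co (univ.image ψ)) : α))) ∈ B := by
    intro i j hij
    have hm : secantLine i j ∈ modelLines := Or.inl ⟨i, j, hij, rfl⟩
    rw [← hφL] at hm
    obtain ⟨l, hl, hli⟩ := hm
    simp only at hli
    rw [← hli, lineOct_eq, img ψ id φ univ l, image_id]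
    exact hl
  have h2 : hypOct0.image (Sum.elim ψ (fun p => id ((φ.symm p : Co (univ.image ψ)) : α))) ∈ B := by
    rw [hypOct0_eq, ← hφH, img ψ id φ _ _, image_id, Finset.image_erase ψ.injective, ← hXJ,
      split_J]
    exact hX
  have h3 : hypOct1.image (Sum.elim ψ (fun p => id ((φ.symm p : Co (univ.image ψ)) : α))) ∈ B := by
    rw [hypOct1_eq, ← hφK, img ψ id φ _ _, image_id, Finset.image_erase ψ.injective, ← hXJ',
      split_J]
    exact hX'
  obtain ⟨Φ₁, hΦ₁, hspan⟩ := assemble hα _ hΨ B (fun S hS T hT => even_inter_24 hα hB hS hT)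
    h1 h2 h3
  have hsurj : Function.Surjective
      (Sum.elim ψ (fun p => id ((φ.symm p : Co (univ.image ψ)) : α))) :=
    ((Fintype.bijective_iff_injective_and_card _).2 ⟨hΨ, by rw [hα]; rfl⟩).2
  have hEq : Φ₁ = Φ := by
    ext x
    obtain ⟨y, rfl⟩ := hsurj x
    rw [hΦ, hΦ₁]
  subst hEq
  ext T
  constructor
  · rintro ⟨S, hS, rfl⟩
    have := (sl24 hα hB S).1 hS
    exact ⟨by rw [card_image_of_injective _ Φ₁.injective]; exact this.1, (hspan S).2 this.2⟩
  · rintro ⟨hc, hT⟩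
    have hTT : (T.image Φ₁.symm).image Φ₁ = T := by
      rw [image_image]
      simp
    refine ⟨T.image Φ₁.symm, ?_, hTT⟩
    rw [sl24 hα hB]
    refine ⟨by rw [card_image_of_injective _ Φ₁.symm.injective]; exact hc, (hspan _).1 ?_⟩
    rw [hTT]
    exact hT

/-- Two systems with the same derived plane and two common blocks in suitable position
coincide. -/
theorem two_ext_aux (hα : Fintype.card α = 24) {E E' : Set (Finset α)}
    (hE : Cfsg.IsSteinerSystem 5 8 E) (hE' : Cfsg.IsSteinerSystem 5 8 E') (ψ : Fin 3 ↪ α)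
    (hl : lines (univ.image ψ) E = lines (univ.image ψ) E')
    {X X' : Finset α} (hX : X ∈ E) (hX2 : X ∈ E') (hX' : X' ∈ E) (hX'2 : X' ∈ E')
    (hXJ : X ∩ univ.image ψ = (univ.image ψ).erase (ψ 2))
    (hXJ' : X' ∩ univ.image ψ = (univ.image ψ).erase (ψ 1))
    {e : Fin 6 → Co (univ.image ψ)} (F : Frame (lines (univ.image ψ) E) e)
    (himg : univ.image e = X.subtype (· ∉ univ.image ψ))
    (h0 : (e 0 : α) ∈ X') (h1 : (e 1 : α) ∈ X') (h2 : (e 2 : α) ∈ X') : E = E' := by
  have hJ : (univ.image ψ).card = 3 := by rw [card_image_of_injective _ ψ.injective]; rfl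
  have hb : ψ 1 ∈ univ.image ψ := mem_image_of_mem _ (mem_univ _)
  have hc : ψ 2 ∈ univ.image ψ := mem_image_of_mem _ (mem_univ _)
  have hbc : ψ 1 ≠ ψ 2 := ψ.injective.ne (by decide)
  have hmem : ∀ i, e i ∈ X.subtype (· ∉ univ.image ψ) := fun i => by
    rw [← himg]; exact mem_image_of_mem _ (mem_univ _)
  have h01 : e 0 ≠ e 1 := F.inj.ne (by decide)
  have h02 : e 0 ≠ e 2 := F.inj.ne (by decide)
  have h12 : e 1 ≠ e 2 := F.inj.ne (by decide)
  obtain ⟨hK6, hKarc⟩ := arc_of_block (j := 3) hJ hE hX' hb hXJ'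
  have hint := inter_arcs (j := 3) hJ hE hb hc hbc hX hX' hXJ hXJ' (e 0) (e 1) (e 2) h01 h02 h12
    (mem_subtype.1 (hmem 0)) (mem_subtype.1 (hmem 1)) (mem_subtype.1 (hmem 2)) h0 h1 h2
  obtain ⟨φ, hφL, hφH, hφK⟩ := two_hyp F (X'.subtype (· ∉ univ.image ψ)) hK6 hKarc
    (by rw [himg]; exact hint)
  rw [himg] at hφH
  have hΨ := psi_inj (J := univ.image ψ) ψ ψ.injective id Function.injective_id
    (fun i x h => x.2 (by rw [id] at h; rw [← h]; exact mem_image_of_mem _ (mem_univ _))) φ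
  obtain ⟨Φ, hΦ⟩ := exists_equiv _ hΨ (by rw [hα]; rfl)
  have e1 := u24_core hα hE ψ hX hX' hXJ hXJ' φ hφL hφH hφK Φ hΦ
  have e2 := u24_core hα hE' ψ hX2 hX'2 hXJ hXJ' φ (by rw [← hl]; exact hφL) hφH hφK Φ hΦ
  exact (Set.image_injective.2 (Finset.image_injective Φ.injective)) (e1.trans e2.symm)

/-- The class of the arc cut out by a block through three labelled points. -/
theorem arc_T {E : Set (Finset α)}
    (hE : Cfsg.IsSteinerSystem 5 8 E) (ψ : Fin 3 ↪ α) {X Y : Finset α} (hX : X ∈ E)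
    (hY : Y ∈ E) (hXJ : X ∩ univ.image ψ = (univ.image ψ).erase (ψ 2)) {k : Fin 3}
    (hk : k ≠ 2) (hYJ : Y ∩ univ.image ψ = (univ.image ψ).erase (ψ k))
    {e : Fin 6 → Co (univ.image ψ)} (F : Frame (lines (univ.image ψ) E) e)
    (himg : univ.image e = X.subtype (· ∉ univ.image ψ))
    (h0 : (e 0 : α) ∈ Y) (h1 : (e 1 : α) ∈ Y) (h2 : (e 2 : α) ∈ Y)
    (φ : Co (univ.image ψ) ≃ P21) (hφe : ∀ i, φ (e i) = Sum.inl i)
    (hφR : ∀ p, (∀ i, e i ≠ p) → ∃ s, φ p = Sum.inr s ∧
      ∀ i j, syn s i = j ↔ R (lines (univ.image ψ) E) e p i j) :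
    ∃ Tset : Finset (Fin 15), (Tset = {7, 11, 13} ∨ Tset = {8, 10, 14}) ∧
      (Y.subtype (· ∉ univ.image ψ)).image φ
        = {Sum.inl 0, Sum.inl 1, Sum.inl 2} ∪ Tset.image Sum.inr := by
  have hJ : (univ.image ψ).card = 3 := by rw [card_image_of_injective _ ψ.injective]; rfl
  have hb : ψ k ∈ univ.image ψ := mem_image_of_mem _ (mem_univ _)
  have hc : ψ 2 ∈ univ.image ψ := mem_image_of_mem _ (mem_univ _)
  have hbc : ψ k ≠ ψ 2 := ψ.injective.ne hk
  have hmem : ∀ i, e i ∈ X.subtype (· ∉ univ.image ψ) := fun i => by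
    rw [← himg]; exact mem_image_of_mem _ (mem_univ _)
  have h01 : e 0 ≠ e 1 := F.inj.ne (by decide)
  have h02 : e 0 ≠ e 2 := F.inj.ne (by decide)
  have h12 : e 1 ≠ e 2 := F.inj.ne (by decide)
  obtain ⟨hK6, hKarc⟩ := arc_of_block (j := 3) hJ hE hY hb hYJ
  have hint := inter_arcs (j := 3) hJ hE hb hc hbc hX hY hXJ hYJ (e 0) (e 1) (e 2) h01 h02 h12
    (mem_subtype.1 (hmem 0)) (mem_subtype.1 (hmem 1)) (mem_subtype.1 (hmem 2)) h0 h1 h2
  obtain ⟨Tset, hT, hi, -⟩ := hyp_image F (Y.subtype (· ∉ univ.image ψ)) hK6 hKarc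
    (by rw [himg]; exact hint) φ hφe hφR
  exact ⟨Tset, hT, hi⟩

theorem two_ext_psi (hα : Fintype.card α = 24) {E E' : Set (Finset α)}
    (hE : Cfsg.IsSteinerSystem 5 8 E) (hE' : Cfsg.IsSteinerSystem 5 8 E') (ψ : Fin 3 ↪ α)
    (h : ∀ S : Finset α, ψ 0 ∈ S → ψ 1 ∈ S → (S ∈ E ↔ S ∈ E')) :
    E' = E ∨ E' = (fun S => S.image (Equiv.swap (ψ 0) (ψ 1))) '' E := by
  have hJ : (univ.image ψ).card = 3 := by rw [card_image_of_injective _ ψ.injective]; rfl
  have hm : ∀ i, ψ i ∈ univ.image ψ := fun i => mem_image_of_mem _ (mem_univ _)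
  have hne : ∀ i j : Fin 3, i ≠ j → ψ i ≠ ψ j := fun i j hij => ψ.injective.ne hij
  have hl : lines (univ.image ψ) E = lines (univ.image ψ) E' := by
    ext l
    exact h _ (mem_union_left _ (hm 0)) (mem_union_left _ (hm 1))
  have hL : Cfsg.IsSteinerSystem 2 5 (lines (univ.image ψ) E) := derived (j := 3) hJ hE
  have hcard : Fintype.card (Co (univ.image ψ)) = 21 := by rw [card_co, hα, hJ]
  obtain ⟨X, hX, hXJ⟩ := exists_hyp (j := 3) hJ (by rw [hα]) hE (hm 2)
  have hmemJ : ∀ (Y : Finset α) (i k : Fin 3),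
      Y ∩ univ.image ψ = (univ.image ψ).erase (ψ k) → i ≠ k → ψ i ∈ Y := by
    intro Y i k hY hik
    have : ψ i ∈ Y ∩ univ.image ψ := by rw [hY]; exact mem_erase.2 ⟨hne i k hik, hm i⟩
    exact (mem_inter.1 this).1
  have hnmemJ : ∀ (Y : Finset α) (k : Fin 3),
      Y ∩ univ.image ψ = (univ.image ψ).erase (ψ k) → ψ k ∉ Y := by
    intro Y k hY hk
    have : ψ k ∈ Y ∩ univ.image ψ := mem_inter.2 ⟨hk, hm k⟩
    rw [hY] at this
    exact (mem_erase.1 this).1 rfl
  have hX2 : X ∈ E' :=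
    (h X (hmemJ X 0 2 hXJ (by decide)) (hmemJ X 1 2 hXJ (by decide))).1 hX
  obtain ⟨hH6, hHarc⟩ := arc_of_block (j := 3) hJ hE hX (hm 2) hXJ
  obtain ⟨F, himg⟩ := exists_frame hcard hL (X.subtype (· ∉ univ.image ψ)) hHarc
    (Finset.equivFinOfCardEq hH6).symm
  generalize hedef : (fun i => (((Finset.equivFinOfCardEq hH6).symm i :
    (X.subtype (· ∉ univ.image ψ))) : Co (univ.image ψ))) = e at F himg
  have hmem : ∀ i, e i ∈ X.subtype (· ∉ univ.image ψ) := fun i => by
    rw [← himg]; exact mem_image_of_mem _ (mem_univ _)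
  have h01 : e 0 ≠ e 1 := F.inj.ne (by decide)
  have h02 : e 0 ≠ e 2 := F.inj.ne (by decide)
  have h12 : e 1 ≠ e 2 := F.inj.ne (by decide)
  have hncol : ∀ l ∈ lines (univ.image ψ) E, ¬ (e 0 ∈ l ∧ e 1 ∈ l ∧ e 2 ∈ l) := by
    rintro l hl ⟨h0, h1, h2⟩
    have h3 := three_le (s := l ∩ X.subtype (· ∉ univ.image ψ)) h01 h02 h12
      (mem_inter.2 ⟨h0, hmem 0⟩) (mem_inter.2 ⟨h1, hmem 1⟩) (mem_inter.2 ⟨h2, hmem 2⟩)
    have := hHarc l hl
    omega
  have hncol' : ∀ l ∈ lines (univ.image ψ) E', ¬ (e 0 ∈ l ∧ e 1 ∈ l ∧ e 2 ∈ l) := by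
    rw [← hl]; exact hncol
  have F' : Frame (lines (univ.image ψ) E') e := by rw [← hl]; exact F
  obtain ⟨X1, hX1, hX1J, hx1, hy1, hz1⟩ :=
    exists_block (j := 3) hJ hE (hm 1) (e 0) (e 1) (e 2) h01 h02 h12 hncol
  obtain ⟨X2, hX2', hX2J, hx2, hy2, hz2⟩ :=
    exists_block (j := 3) hJ hE' (hm 1) (e 0) (e 1) (e 2) h01 h02 h12 hncol'
  obtain ⟨X3, hX3, hX3J, hx3, hy3, hz3⟩ :=
    exists_block (j := 3) hJ hE' (hm 0) (e 0) (e 1) (e 2) h01 h02 h12 hncol'
  obtain ⟨φ, hφe, hφL, hφR⟩ := exists_iso F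
  have hφR' : ∀ p, (∀ i, e i ≠ p) → ∃ s, φ p = Sum.inr s ∧
      ∀ i j, syn s i = j ↔ R (lines (univ.image ψ) E') e p i j := by
    rw [← hl]; exact hφR
  obtain ⟨T1, hT1, hi1⟩ := arc_T hE ψ hX hX1 hXJ (k := 1) (by decide) hX1J F himg
    hx1 hy1 hz1 φ hφe hφR
  obtain ⟨T2, hT2, hi2⟩ := arc_T hE' ψ hX2 hX2' hXJ (k := 1) (by decide) hX2J F' himg
    hx2 hy2 hz2 φ hφe hφR'
  obtain ⟨T3, hT3, hi3⟩ := arc_T hE' ψ hX2 hX3 hXJ (k := 0) (by decide) hX3J F' himg
    hx3 hy3 hz3 φ hφe hφR'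
  by_cases hT : T1 = T2
  · left
    have hsub : X1.subtype (· ∉ univ.image ψ) = X2.subtype (· ∉ univ.image ψ) :=
      Finset.image_injective φ.injective (by rw [hi1, hi2, hT])
    have hXX : X1 = X2 := by
      rw [← split_J X1 (univ.image ψ), ← split_J X2 (univ.image ψ), hX1J, hX2J, hsub]
    subst hXX
    exact (two_ext_aux hα hE hE' ψ hl hX hX2 hX1 hX2' hXJ hX1J F himg hx1 hy1 hz1).symm
  · right
    have hT32 : T3 ≠ T2 := by
      intro h32
      have hsub : X2.subtype (· ∉ univ.image ψ) = X3.subtype (· ∉ univ.image ψ) :=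
        Finset.image_injective φ.injective (by rw [hi2, hi3, h32])
      have hneq : X2 ≠ X3 := fun h23 =>
        hnmemJ X3 0 hX3J (h23 ▸ hmemJ X2 0 1 hX2J (by decide))
      have hle := inter_le (t := 4) hE' hX2' hX3 hneq
      have hsub2 : (X2.subtype (· ∉ univ.image ψ)).map (Function.Embedding.subtype _)
          ⊆ X2 ∩ X3 := by
        intro w hw
        rw [mem_inter]
        constructor
        · rw [Finset.subtype_map] at hw; exact (mem_filter.1 hw).1
        · rw [hsub, Finset.subtype_map] at hw; exact (mem_filter.1 hw).1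
      have hc6 : (X2.subtype (· ∉ univ.image ψ)).card = 6 :=
        (arc_of_block (j := 3) hJ hE' hX2' (hm 1) hX2J).1
      have := card_le_card hsub2
      rw [card_map, hc6] at this
      omega
    have hT31 : T3 = T1 := by
      rcases hT1 with h1 | h1 <;> rcases hT2 with h2 | h2 <;> rcases hT3 with h3 | h3
      all_goals first
        | exact absurd (h1.trans h2.symm) hT
        | exact absurd (h3.trans h2.symm) hT32
        | exact h3.trans h1.symm
    have hsub : X3.subtype (· ∉ univ.image ψ) = X1.subtype (· ∉ univ.image ψ) :=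
      Finset.image_injective φ.injective (by rw [hi1, hi3, hT31])
    have hfix : ((X1.subtype (· ∉ univ.image ψ)).map (Function.Embedding.subtype _)).image
        (Equiv.swap (ψ 0) (ψ 1)) = (X1.subtype (· ∉ univ.image ψ)).map
          (Function.Embedding.subtype _) := by
      conv_rhs => rw [← image_id (s := (X1.subtype (· ∉ univ.image ψ)).map
        (Function.Embedding.subtype _))]
      apply image_congr
      intro w hw
      obtain ⟨v, -, rfl⟩ := mem_map.1 (Finset.mem_coe.1 hw)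
      have hv0 : (v : α) ≠ ψ 0 := fun hv => v.2 (hv ▸ hm 0)
      have hv1 : (v : α) ≠ ψ 1 := fun hv => v.2 (hv ▸ hm 1)
      simp only [Function.Embedding.coe_subtype, id]
      exact Equiv.swap_apply_of_ne_of_ne hv0 hv1
    have hX31 : X3.image (Equiv.swap (ψ 0) (ψ 1)) = X1 := by
      rw [← split_J X3 (univ.image ψ), image_union, hX3J,
        Finset.image_erase (Equiv.swap (ψ 0) (ψ 1)).injective,
        image_swap_of_mem (hm 0) (hm 1), Equiv.swap_apply_left, ← hX1J, hsub, hfix, split_J]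
    have hE'' := steiner_image (Equiv.swap (ψ 0) (ψ 1)) hE'
    have h'' : ∀ S : Finset α, ψ 0 ∈ S → ψ 1 ∈ S →
        (S ∈ E ↔ S ∈ (fun S => S.image (Equiv.swap (ψ 0) (ψ 1))) '' E') := by
      intro S h0 h1
      constructor
      · intro hS
        exact ⟨S, (h S h0 h1).1 hS, image_swap_of_mem h0 h1⟩
      · rintro ⟨T, hT', hTS⟩
        simp only at hTS
        have ht0 : ψ 0 ∈ T := by
          rw [← hTS] at h1
          obtain ⟨t, ht, hte⟩ := mem_image.1 h1
          have : t = ψ 0 := by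
            have h5 := congrArg (Equiv.swap (ψ 0) (ψ 1)) hte
            simpa using h5
          rw [← this]; exact ht
        have ht1 : ψ 1 ∈ T := by
          rw [← hTS] at h0
          obtain ⟨t, ht, hte⟩ := mem_image.1 h0
          have : t = ψ 1 := by
            have h5 := congrArg (Equiv.swap (ψ 0) (ψ 1)) hte
            simpa using h5
          rw [← this]; exact ht
        rw [image_swap_of_mem ht0 ht1] at hTS
        rw [← hTS]
        exact (h T ht0 ht1).2 hT'
    have hl'' : lines (univ.image ψ) E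
        = lines (univ.image ψ) ((fun S => S.image (Equiv.swap (ψ 0) (ψ 1))) '' E') := by
      ext l
      exact h'' _ (mem_union_left _ (hm 0)) (mem_union_left _ (hm 1))
    have hXE'' : X ∈ (fun S => S.image (Equiv.swap (ψ 0) (ψ 1))) '' E' :=
      (h'' X (hmemJ X 0 2 hXJ (by decide)) (hmemJ X 1 2 hXJ (by decide))).1 hX
    have hX1E'' : X1 ∈ (fun S => S.image (Equiv.swap (ψ 0) (ψ 1))) '' E' := ⟨X3, hX3, hX31⟩
    have hfin := two_ext_aux hα hE hE'' ψ hl'' hX hXE'' hX1 hX1E'' hXJ hX1J F himg hx1 hy1 hz1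
    rw [hfin, Set.image_image]
    conv_lhs => rw [← Set.image_id E']
    apply Set.image_congr
    intro S _
    exact (image_swap_swap _ _ S).symm

/-- Two Steiner systems `S(5,8,24)` with the same blocks through `a` and `b` coincide or
differ by the transposition of `a` and `b`. -/
theorem two_ext (hα : Fintype.card α = 24) {E E' : Set (Finset α)}
    (hE : Cfsg.IsSteinerSystem 5 8 E) (hE' : Cfsg.IsSteinerSystem 5 8 E') {a b : α}
    (hab : a ≠ b) (h : ∀ S : Finset α, a ∈ S → b ∈ S → (S ∈ E ↔ S ∈ E')) :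
    E' = E ∨ E' = (fun S => S.image (Equiv.swap a b)) '' E := by
  obtain ⟨c, hc⟩ : ∃ c, c ∉ ({a, b} : Finset α) := by
    by_contra hcon
    simp only [not_exists, not_not] at hcon
    have h1 : (univ : Finset α) ⊆ {a, b} := fun x _ => hcon x
    have h2 := card_le_card h1
    rw [card_univ, hα] at h2
    have h3 := card_le_two (a := a) (b := b)
    omega
  have hca : c ≠ a := fun h => hc (by simp [h])
  have hcb : c ≠ b := fun h => hc (by simp [h])
  have hinj : Function.Injective ![a, b, c] := by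
    intro i j hij
    fin_cases i <;> fin_cases j <;> first
      | rfl
      | exact absurd hij hab
      | exact absurd hij.symm hab
      | exact absurd hij hca
      | exact absurd hij.symm hca
      | exact absurd hij hcb
      | exact absurd hij.symm hcb
  exact two_ext_psi hα hE hE' ⟨![a, b, c], hinj⟩ h

end Cfsg.Agent.Lib.Helper8.TwoExt
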