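import Mathlib
import Cfsg.Prelude.Def_Sporadic_a
import Cfsg.Agent.Lib.Helper8.TwoExt
import Cfsg.Agent.Lib.Helper8.AutTransport
import Cfsg.Agent.Lib.Helper8.AutExt23

/-!
The automorphism group of the design derived from an `S(5,8,24)` at two points: it contains
the restriction of the two-point stabiliser as a subgroup of index 2.
-/

set_option autoImplicit false

namespace Cfsg.Agent.Lib.Helper8.AutExt22

open Finset Cfsg.Agent.Lib.Helper8.DerivedPlane Cfsg.Agent.Lib.Helper8.TwoExt
  Cfsg.Agent.Lib.Helper8.AutTransport Cfsg.Agent.Lib.Helper8.AutExt23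

section restrict

variable {α : Type*} [DecidableEq α]

theorem aut_image_iff {G : Equiv.Perm α} {𝒪 : Set (Finset α)}
    (hG : G ∈ Cfsg.setSystemAut 𝒪) (S : Finset α) : S.image G ∈ 𝒪 ↔ S ∈ 𝒪 := by
  constructor
  · intro h
    have h1 := aut_image (inv_mem hG) h
    rw [image_image] at h1
    have h2 : (⇑G⁻¹ ∘ ⇑G) = id := by
      funext x
      simp
    rwa [h2, image_id] at h1
  · exact aut_image hG

theorem image_union_map (J : Finset α) (g : Equiv.Perm α) (h : ∀ x, g x ∉ J ↔ x ∉ J)
    (l : Finset (Co J)) :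
    (J ∪ l.map (Function.Embedding.subtype _)).image g
      = J ∪ (l.image (g.subtypePerm h)).map (Function.Embedding.subtype _) := by
  have hJ : J.image g = J := by
    apply eq_of_subset_of_card_le
    · intro x hx
      obtain ⟨y, hy, rfl⟩ := mem_image.1 hx
      by_contra hgy
      exact ((h y).1 hgy) hy
    · rw [card_image_of_injective _ g.injective]
  rw [image_union, hJ]
  congr 1
  rw [Finset.map_eq_image, Finset.map_eq_image, image_image, image_image]
  exact image_congr (fun x _ => rfl)

theorem restrict_mem {J : Finset α} {E : Set (Finset α)} {g : Equiv.Perm α}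
    (hg : g ∈ Cfsg.setSystemAut E) (h : ∀ x, g x ∉ J ↔ x ∉ J) :
    g.subtypePerm h ∈ Cfsg.setSystemAut (lines J E) := by
  apply aut_of_iff
  intro l
  show J ∪ (l.image (g.subtypePerm h)).map _ ∈ E ↔ J ∪ l.map _ ∈ E
  rw [← image_union_map J g h l]
  exact aut_image_iff hg _

theorem image_ofSubtype (J : Finset α) (β : Equiv.Perm (Co J)) (l : Finset (Co J)) :
    (J ∪ l.map (Function.Embedding.subtype _)).image (Equiv.Perm.ofSubtype β)
      = J ∪ (l.image β).map (Function.Embedding.subtype _) := by
  have h1 := image_union_map J (Equiv.Perm.ofSubtype β)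
    (Equiv.Perm.ofSubtype_apply_mem_iff_mem β) l
  rwa [Equiv.Perm.subtypePerm_ofSubtype] at h1

theorem ofSubtype_iff {J : Finset α} {E : Set (Finset α)} {β : Equiv.Perm (Co J)}
    (hβ : β ∈ Cfsg.setSystemAut (lines J E)) {S : Finset α} (hJS : J ⊆ S) :
    S.image (Equiv.Perm.ofSubtype β) ∈ E ↔ S ∈ E := by
  have hS := union_subtype hJS
  have h1 : S.image (Equiv.Perm.ofSubtype β)
      = J ∪ ((S.subtype (· ∉ J)).image β).map (Function.Embedding.subtype _) := by
    conv_lhs => rw [← hS]
    exact image_ofSubtype J β _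
  rw [h1]
  have h2 := aut_image_iff hβ (S.subtype (· ∉ J))
  have h3 : S.subtype (· ∉ J) ∈ lines J E ↔ S ∈ E := by
    show J ∪ _ ∈ E ↔ _
    rw [hS]
  exact h2.trans h3

theorem fix_iff {a b : α} (g : Equiv.Perm α) (ha : g a = a) (hb : g b = b) (x : α) :
    g x ∉ ({a, b} : Finset α) ↔ x ∉ ({a, b} : Finset α) := by
  have h1 : g x = a ↔ x = a := ⟨fun h => g.injective (h.trans ha.symm), fun h => h ▸ ha⟩
  have h2 : g x = b ↔ x = b := ⟨fun h => g.injective (h.trans hb.symm), fun h => h ▸ hb⟩
  simp only [mem_insert, mem_singleton, h1, h2]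

theorem swap_iff {a b : α} (g : Equiv.Perm α) (ha : g a = b) (hb : g b = a) (x : α) :
    g x ∉ ({a, b} : Finset α) ↔ x ∉ ({a, b} : Finset α) := by
  have h1 : g x = a ↔ x = b := ⟨fun h => g.injective (h.trans hb.symm), fun h => h ▸ hb⟩
  have h2 : g x = b ↔ x = a := ⟨fun h => g.injective (h.trans ha.symm), fun h => h ▸ ha⟩
  simp only [mem_insert, mem_singleton, h1, h2]
  tauto

end restrict

section main

variable {α : Type*} [Fintype α] [DecidableEq α]

/-- No automorphism of an `S(5,8,24)` is a transposition. -/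
theorem swap_not_mem (hα : Fintype.card α = 24) {E : Set (Finset α)}
    (hE : Cfsg.IsSteinerSystem 5 8 E) {a b : α} (hab : a ≠ b) :
    Equiv.swap a b ∉ Cfsg.setSystemAut E := by
  intro hmem
  obtain ⟨T₀, hsub, hT₀⟩ := exists_superset_card_eq (s := ({a, b} : Finset α)) (n := 5)
    (by rw [card_pair hab]; norm_num) (by rw [hα]; norm_num)
  obtain ⟨X, ⟨hX, hTX⟩, -⟩ := hE.2 T₀ hT₀
  obtain ⟨c, hc⟩ : ∃ c, c ∉ X := by
    by_contra hcon
    simp only [not_exists, not_not] at hcon
    have h1 : X = univ := eq_univ_of_forall hcon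
    have h2 := hE.1 X hX
    rw [h1, card_univ, hα] at h2
    omega
  have haT : a ∈ T₀ := hsub (by simp)
  have hbT : b ∈ T₀ := hsub (by simp)
  have hcT : c ∉ T₀.erase b := fun h => hc (hTX (mem_of_mem_erase h))
  have hT : (insert c (T₀.erase b)).card = 5 := by
    rw [card_insert_of_notMem hcT, card_erase_of_mem hbT, hT₀]
  obtain ⟨Y, ⟨hY, hTY⟩, -⟩ := hE.2 _ hT
  have hcY : c ∈ Y := hTY (mem_insert_self _ _)
  have haY : a ∈ Y := hTY (mem_insert_of_mem (mem_erase.2 ⟨hab, haT⟩))
  have hbY : b ∉ Y := by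
    intro hbY
    have hXY : X ≠ Y := fun h => hc (h ▸ hcY)
    have hle := inter_le (t := 4) hE hX hY hXY
    have hsub2 : T₀ ⊆ X ∩ Y := by
      intro w hw
      rw [mem_inter]
      refine ⟨hTX hw, ?_⟩
      by_cases hwb : w = b
      · rw [hwb]; exact hbY
      · exact hTY (mem_insert_of_mem (mem_erase.2 ⟨hwb, hw⟩))
    have := card_le_card hsub2
    omega
  have hY' : Y.image (Equiv.swap a b) ∈ E := aut_image hmem hY
  have hne : Y ≠ Y.image (Equiv.swap a b) := by
    intro h
    apply hbY
    rw [h]
    exact mem_image.2 ⟨a, haY, Equiv.swap_apply_left a b⟩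
  have hle := inter_le (t := 4) hE hY hY' hne
  have hsub3 : Y.erase a ⊆ Y ∩ Y.image (Equiv.swap a b) := by
    intro w hw
    rw [mem_erase] at hw
    rw [mem_inter]
    refine ⟨hw.2, mem_image.2 ⟨w, hw.2, Equiv.swap_apply_of_ne_of_ne hw.1 ?_⟩⟩
    rintro rfl
    exact hbY hw.2
  have := card_le_card hsub3
  rw [card_erase_of_mem haY, hE.1 Y hY] at this
  omega

/-- An automorphism of the design derived at two points extends to an automorphism of the
`S(5,8,24)`, possibly after composing with the transposition of the two points. -/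
theorem lift_or (hα : Fintype.card α = 24) {E : Set (Finset α)}
    (hE : Cfsg.IsSteinerSystem 5 8 E) {a b : α} (hab : a ≠ b)
    {β : Equiv.Perm (Co ({a, b} : Finset α))}
    (hβ : β ∈ Cfsg.setSystemAut (lines ({a, b} : Finset α) E)) :
    Equiv.Perm.ofSubtype β ∈ Cfsg.setSystemAut E ∨
      Equiv.swap a b * Equiv.Perm.ofSubtype β ∈ Cfsg.setSystemAut E := by
  have hE' := steiner_image (Equiv.Perm.ofSubtype β) hE
  have h : ∀ S : Finset α, a ∈ S → b ∈ S →
      (S ∈ E ↔ S ∈ (fun b => b.image (Equiv.Perm.ofSubtype β)) '' E) := by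
    intro S ha hb
    have hJS : ({a, b} : Finset α) ⊆ S := by
      intro w hw
      simp only [mem_insert, mem_singleton] at hw
      rcases hw with rfl | rfl <;> assumption
    constructor
    · intro hS
      refine ⟨S.image (Equiv.Perm.ofSubtype β⁻¹), (ofSubtype_iff (inv_mem hβ) hJS).2 hS, ?_⟩
      simp only
      rw [image_image, map_inv]
      have h2 : (⇑(Equiv.Perm.ofSubtype β) ∘ ⇑(Equiv.Perm.ofSubtype β)⁻¹) = id := by
        funext x
        simp
      rw [h2, image_id]
    · rintro ⟨T, hT, rfl⟩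
      have hJT : ({a, b} : Finset α) ⊆ T := by
        intro w hw
        obtain ⟨t, ht, hte⟩ := mem_image.1 (hJS hw)
        have hwfix : Equiv.Perm.ofSubtype β w = w :=
          Equiv.Perm.ofSubtype_apply_of_not_mem β (not_not.2 hw)
        have : t = w := (Equiv.Perm.ofSubtype β).injective (hte.trans hwfix.symm)
        rw [← this]
        exact ht
      exact (ofSubtype_iff hβ hJT).2 hT
  rcases two_ext hα hE hE' hab h with h1 | h1
  · left
    rw [mem_aut_iff]
    exact h1
  · right
    rw [mem_aut_iff]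
    have h2 : (fun S : Finset α => S.image (Equiv.swap a b * Equiv.Perm.ofSubtype β)) '' E
        = (fun S => S.image (Equiv.swap a b)) ''
          ((fun S => S.image (Equiv.Perm.ofSubtype β)) '' E) := by
      rw [Set.image_image]
      apply Set.image_congr
      intro S _
      rw [image_image]
      rfl
    rw [h2, h1, Set.image_image]
    conv_rhs => rw [← Set.image_id E]
    apply Set.image_congr
    intro S _
    exact image_swap_swap a b S

/-- The automorphism group of the design derived from an `S(5,8,24)` at two points `a`, `b` is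
3-transitive and contains a copy of the two-point stabiliser as a subgroup of index 2, when
the automorphism group of the `S(5,8,24)` is 5-transitive. -/
theorem aut22 (hα : Fintype.card α = 24) {E : Set (Finset α)}
    (hE : Cfsg.IsSteinerSystem 5 8 E) {a b : α} (hab : a ≠ b)
    (G : Subgroup (Equiv.Perm α)) (hG : G = Cfsg.setSystemAut E)
    (h5 : MulAction.IsMultiplyPretransitive G α 5) :
    MulAction.IsMultiplyPretransitive (Cfsg.setSystemAut (lines ({a, b} : Finset α) E))
        (Co ({a, b} : Finset α)) 3 ∧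
      ∃ H : Subgroup (Cfsg.setSystemAut (lines ({a, b} : Finset α) E)), H.index = 2 ∧
        Nonempty (↥(MulAction.stabilizer G a ⊓ MulAction.stabilizer G b) ≃* H) := by
  subst hG
  have hfa : ∀ g : ↥(MulAction.stabilizer (Cfsg.setSystemAut E) a ⊓
      MulAction.stabilizer (Cfsg.setSystemAut E) b),
      ((g : Cfsg.setSystemAut E) : Equiv.Perm α) a = a := fun g =>
    MulAction.mem_stabilizer_iff.1 (Subgroup.mem_inf.1 g.2).1
  have hfb : ∀ g : ↥(MulAction.stabilizer (Cfsg.setSystemAut E) a ⊓
      MulAction.stabilizer (Cfsg.setSystemAut E) b),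
      ((g : Cfsg.setSystemAut E) : Equiv.Perm α) b = b := fun g =>
    MulAction.mem_stabilizer_iff.1 (Subgroup.mem_inf.1 g.2).2
  let r : ↥(MulAction.stabilizer (Cfsg.setSystemAut E) a ⊓
      MulAction.stabilizer (Cfsg.setSystemAut E) b) →*
        Cfsg.setSystemAut (lines ({a, b} : Finset α) E) :=
    MonoidHom.mk' (fun g => ⟨((g : Cfsg.setSystemAut E) : Equiv.Perm α).subtypePerm
      (fix_iff _ (hfa g) (hfb g)), restrict_mem (g : Cfsg.setSystemAut E).2 _⟩)
      (fun g g' => Subtype.ext (by ext x; rfl))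
  have hr : ∀ (g : ↥(MulAction.stabilizer (Cfsg.setSystemAut E) a ⊓
      MulAction.stabilizer (Cfsg.setSystemAut E) b)) (x : Co ({a, b} : Finset α)),
      (((r g : Cfsg.setSystemAut (lines ({a, b} : Finset α) E)) :
        Equiv.Perm (Co ({a, b} : Finset α))) x : α)
        = ((g : Cfsg.setSystemAut E) : Equiv.Perm α) x := fun g x => rfl
  have hinj : Function.Injective r := by
    intro g g' h
    apply Subtype.ext
    apply Subtype.ext
    ext x
    by_cases hx : x ∈ ({a, b} : Finset α)
    · simp only [mem_insert, mem_singleton] at hx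
      rcases hx with rfl | rfl
      · rw [hfa g, hfa g']
      · rw [hfb g, hfb g']
    · have h1 := congrArg (fun k : Cfsg.setSystemAut (lines ({a, b} : Finset α) E) =>
        (((k : Equiv.Perm (Co ({a, b} : Finset α))) ⟨x, hx⟩ : Co ({a, b} : Finset α)) : α)) h
      exact h1
  have hrange : ∀ β : Cfsg.setSystemAut (lines ({a, b} : Finset α) E),
      β ∈ r.range ↔ Equiv.Perm.ofSubtype (β : Equiv.Perm (Co ({a, b} : Finset α)))
        ∈ Cfsg.setSystemAut E := by
    intro β
    constructor
    · rintro ⟨g, rfl⟩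
      have h1 : Equiv.Perm.ofSubtype ((r g : Cfsg.setSystemAut (lines ({a, b} : Finset α) E)) :
          Equiv.Perm (Co ({a, b} : Finset α))) = ((g : Cfsg.setSystemAut E) : Equiv.Perm α) := by
        refine Equiv.Perm.ofSubtype_subtypePerm (fix_iff _ (hfa g) (hfb g)) ?_
        intro x hx hxJ
        simp only [mem_insert, mem_singleton] at hxJ
        rcases hxJ with rfl | rfl
        · exact hx (hfa g)
        · exact hx (hfb g)
      rw [h1]
      exact (g : Cfsg.setSystemAut E).2
    · intro hβ
      have ha' : Equiv.Perm.ofSubtype (β : Equiv.Perm (Co ({a, b} : Finset α))) a = a :=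
        Equiv.Perm.ofSubtype_apply_of_not_mem _ (not_not.2 (by simp))
      have hb' : Equiv.Perm.ofSubtype (β : Equiv.Perm (Co ({a, b} : Finset α))) b = b :=
        Equiv.Perm.ofSubtype_apply_of_not_mem _ (not_not.2 (by simp))
      refine ⟨⟨⟨Equiv.Perm.ofSubtype (β : Equiv.Perm (Co ({a, b} : Finset α))), hβ⟩,
        Subgroup.mem_inf.2 ⟨MulAction.mem_stabilizer_iff.2 ha',
          MulAction.mem_stabilizer_iff.2 hb'⟩⟩, ?_⟩
      apply Subtype.ext
      exact Equiv.Perm.subtypePerm_ofSubtype (β : Equiv.Perm (Co ({a, b} : Finset α)))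
  have h2 : MulAction.IsMultiplyPretransitive (Cfsg.setSystemAut E) α 2 :=
    MulAction.isMultiplyPretransitive_of_le (n := 5) (by norm_num)
      (by rw [Nat.card_eq_fintype_card, hα]; norm_num)
  obtain ⟨s, hsa, hsb⟩ := MulAction.is_two_pretransitive_iff.1 h2 hab hab.symm
  have hsa' : (s : Equiv.Perm α) a = b := hsa
  have hsb' : (s : Equiv.Perm α) b = a := hsb
  have hσ : Equiv.Perm.ofSubtype (((s : Equiv.Perm α).subtypePerm (swap_iff _ hsa' hsb') :
      Equiv.Perm (Co ({a, b} : Finset α))))
      = Equiv.swap a b * (s : Equiv.Perm α) := by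
    ext x
    by_cases hx : x ∈ ({a, b} : Finset α)
    · rw [Equiv.Perm.ofSubtype_apply_of_not_mem (p := fun x => x ∉ ({a, b} : Finset α)) _
        (not_not.2 hx)]
      simp only [mem_insert, mem_singleton] at hx
      rcases hx with rfl | rfl
      · rw [Equiv.Perm.mul_apply, hsa', Equiv.swap_apply_right]
      · rw [Equiv.Perm.mul_apply, hsb', Equiv.swap_apply_left]
    · rw [Equiv.Perm.ofSubtype_apply_of_mem (p := fun x => x ∉ ({a, b} : Finset α)) _ hx]
      have hsx := (swap_iff _ hsa' hsb' x).2 hx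
      simp only [mem_insert, mem_singleton, not_or] at hsx
      rw [Equiv.Perm.mul_apply, Equiv.swap_apply_of_ne_of_ne hsx.1 hsx.2]
      rfl
  have hcomm : ∀ β : Equiv.Perm (Co ({a, b} : Finset α)),
      Equiv.Perm.ofSubtype β * Equiv.swap a b = Equiv.swap a b * Equiv.Perm.ofSubtype β := by
    intro β
    have ha' : Equiv.Perm.ofSubtype β a = a :=
      Equiv.Perm.ofSubtype_apply_of_not_mem _ (not_not.2 (by simp))
    have hb' : Equiv.Perm.ofSubtype β b = b :=
      Equiv.Perm.ofSubtype_apply_of_not_mem _ (not_not.2 (by simp))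
    ext x
    rw [Equiv.Perm.mul_apply, Equiv.Perm.mul_apply]
    by_cases hxa : x = a
    · rw [hxa, Equiv.swap_apply_left, hb', ha', Equiv.swap_apply_left]
    · by_cases hxb : x = b
      · rw [hxb, Equiv.swap_apply_right, hb', ha', Equiv.swap_apply_right]
      · rw [Equiv.swap_apply_of_ne_of_ne hxa hxb]
        have hx : x ∉ ({a, b} : Finset α) := by simp [hxa, hxb]
        have h3 := (Equiv.Perm.ofSubtype_apply_mem_iff_mem β x).2 hx
        simp only [mem_insert, mem_singleton, not_or] at h3
        rw [Equiv.swap_apply_of_ne_of_ne h3.1 h3.2]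
  refine ⟨?_, r.range, ?_, ⟨MonoidHom.ofInjective hinj⟩⟩
  · rw [MulAction.isMultiplyPretransitive_iff]
    intro x y
    rw [MulAction.isMultiplyPretransitive_iff] at h5
    have hx : Function.Injective
        (Fin.cons a (Fin.cons b (fun i => ((x i : Co ({a, b} : Finset α)) : α))) : Fin 5 → α) := by
      rw [Fin.cons_injective_iff]
      refine ⟨?_, ?_⟩
      · rintro ⟨i, hi⟩
        revert hi
        refine Fin.cases ?_ (fun j => ?_) i
        · rw [Fin.cons_zero]
          exact hab.symm
        · rw [Fin.cons_succ]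
          intro h
          exact (x j).2 (by rw [h]; simp)
      · rw [Fin.cons_injective_iff]
        refine ⟨?_, fun i j hij => x.injective (Subtype.ext hij)⟩
        rintro ⟨i, hi⟩
        have hi' : ((x i : Co ({a, b} : Finset α)) : α) = b := hi
        exact (x i).2 (by rw [hi']; simp)
    have hy : Function.Injective
        (Fin.cons a (Fin.cons b (fun i => ((y i : Co ({a, b} : Finset α)) : α))) : Fin 5 → α) := by
      rw [Fin.cons_injective_iff]
      refine ⟨?_, ?_⟩
      · rintro ⟨i, hi⟩
        revert hi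
        refine Fin.cases ?_ (fun j => ?_) i
        · rw [Fin.cons_zero]
          exact hab.symm
        · rw [Fin.cons_succ]
          intro h
          exact (y j).2 (by rw [h]; simp)
      · rw [Fin.cons_injective_iff]
        refine ⟨?_, fun i j hij => y.injective (Subtype.ext hij)⟩
        rintro ⟨i, hi⟩
        have hi' : ((y i : Co ({a, b} : Finset α)) : α) = b := hi
        exact (y i).2 (by rw [hi']; simp)
    obtain ⟨g, hg⟩ := h5 ⟨_, hx⟩ ⟨_, hy⟩
    have hga : (g : Equiv.Perm α) a = a := congrArg (fun F : Fin 5 ↪ α => F 0) hg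
    have hgb : (g : Equiv.Perm α) b = b := congrArg (fun F : Fin 5 ↪ α => F 1) hg
    refine ⟨⟨(g : Equiv.Perm α).subtypePerm (fix_iff _ hga hgb), restrict_mem g.2 _⟩, ?_⟩
    ext i
    have hi : (g : Equiv.Perm α) ((x i : Co ({a, b} : Finset α)) : α)
        = ((y i : Co ({a, b} : Finset α)) : α) :=
      congrArg (fun F : Fin 5 ↪ α => F i.succ.succ) hg
    exact hi
  · rw [Subgroup.index_eq_two_iff_exists_notMem_and]
    refine ⟨⟨(s : Equiv.Perm α).subtypePerm (swap_iff _ hsa' hsb'), restrict_mem s.2 _⟩, ?_, ?_⟩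
    · rw [hrange]
      show Equiv.Perm.ofSubtype (((s : Equiv.Perm α).subtypePerm (swap_iff _ hsa' hsb') :
        Equiv.Perm (Co ({a, b} : Finset α)))) ∉ _
      rw [hσ]
      intro hmem
      have h3 := mul_mem hmem (inv_mem s.2)
      rw [mul_inv_cancel_right] at h3
      exact swap_not_mem hα hE hab h3
    · intro β
      rw [hrange, hrange]
      rcases lift_or hα hE hab β.2 with h1 | h1
      · right
        exact h1
      · left
        show Equiv.Perm.ofSubtype ((β : Equiv.Perm (Co ({a, b} : Finset α))) *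
          ((s : Equiv.Perm α).subtypePerm (swap_iff _ hsa' hsb') :
            Equiv.Perm (Co ({a, b} : Finset α)))) ∈ _
        rw [map_mul, hσ, ← mul_assoc, hcomm]
        exact mul_mem h1 s.2

end main

end Cfsg.Agent.Lib.Helper8.AutExt22
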