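import Mathlib
import Cfsg.Agent.Lib.Helper30.CTIStmt

/-!
# S4064 piece MAB: the maximal centralizer `M` is abelian
-/

set_option autoImplicit false

namespace Cfsg.Agent.Lib.Helper8.CTIMAB

open Cfsg.Agent.Lib.Helper30.CTIStmt

universe u

theorem main : Cfsg.Agent.Lib.Helper30.CTIStmt.MAB.{u} := by
  intro hSQAB hVCARD G _ _ M V hCTI hZ hcv hVdef hk x hx y hy
  obtain ⟨k, hk2, hVk, hMk⟩ := hk
  have hVM : V ≤ M := fun v hv => ((hVdef v).1 hv).1
  have hVc : ∀ v ∈ V, ∀ m ∈ M, v * m = m * v := by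
    intro v hv m hm
    obtain ⟨hvM, hv2⟩ := (hVdef v).1 hv
    by_cases hv1 : v = 1
    · rw [hv1, one_mul, mul_one]
    · exact hcv v hvM (orderOf_eq_prime hv2 hv1) m hm
  rcases hMk with hMk | hMk
  · -- `M = V`
    have hle : Nat.card ↥M ≤ Nat.card ↥V := by rw [hMk, hVk]
    have hxV : x ∈ V := by
      have h := Subgroup.eq_of_le_of_card_ge hVM hle
      rw [h]
      exact hx
    exact hVc x hxV y hy
  · -- an involution outside `H`
    have hne : NM M ≠ ⊤ := hZ.se.1
    obtain ⟨g, hg⟩ : ∃ g : G, g ∉ NM M := by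
      by_contra hall
      apply hne
      rw [eq_top_iff]
      intro g _
      by_contra hg
      exact hall ⟨g, hg⟩
    have hne' : (QuotientGroup.mk (1 : G) : G ⧸ NM M) ≠ QuotientGroup.mk g := by
      intro h
      rw [QuotientGroup.eq, inv_one, one_mul] at h
      exact hg h
    obtain ⟨u, huo, hu⟩ := hZ.swap _ _ hne'
    have huH : u ∉ NM M := by
      intro h
      apply hne'
      rw [← hu, MulAction.Quotient.smul_mk, smul_eq_mul, mul_one, QuotientGroup.eq, inv_one,
        one_mul]
      exact h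
    have hD : Nat.card ↥(DU (NM M) u) = 2 ^ k - 1 := by
      rw [hZ.dcard u huo huH]
      have h := hVCARD G M V hVdef hZ.invM
      rw [hVk] at h
      omega
    have hDH : ∀ d ∈ DU (NM M) u, d ∈ NM M := fun d hd => (Subgroup.mem_inf.1 hd).1
    have hDM : ∀ d ∈ DU (NM M) u, ∀ m ∈ M, d * m * d⁻¹ ∈ M := by
      intro d hd m hm
      exact (Subgroup.mem_normalizer_iff.1 (hDH d hd) m).1 hm
    have hfpf : ∀ d ∈ DU (NM M) u, d ≠ 1 → ∀ m ∈ M, m ≠ 1 → d * m ≠ m * d := by
      intro d hd hd1 m hm hm1 hc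
      have hdM : d ∈ M := by
        apply hZ.cc m hm hm1
        rw [Subgroup.mem_centralizer_iff]
        intro h hh
        rw [Set.mem_singleton_iff] at hh
        rw [hh]
        exact hc.symm
      have hmem : d ∈ DU (NM M) u ⊓ M := Subgroup.mem_inf.2 ⟨hd, hdM⟩
      rw [hZ.dM u huo huH] at hmem
      exact hd1 (Subgroup.mem_bot.1 hmem)
    -- an involution of `M`
    have hVne : V ≠ ⊥ := by
      rw [← Subgroup.one_lt_card_iff_ne_bot, hVk]
      exact Nat.one_lt_two_pow (by omega)
    obtain ⟨⟨v, hv⟩, hv1⟩ := (Subgroup.ne_bot_iff_exists_ne_one).1 hVne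
    have hv1' : v ≠ 1 := fun h => hv1 (Subtype.ext h)
    obtain ⟨hvM, hv2⟩ := (hVdef v).1 hv
    have hvo : orderOf v = 2 := orderOf_eq_prime hv2 hv1'
    have hcomm : ∀ y ∈ M, ∀ d ∈ DU (NM M) u, Commute y (d * y * d⁻¹) := by
      intro y hy d hd
      have hvC : v ∈ Subgroup.centralizer ({y} : Set G) := by
        rw [Subgroup.mem_centralizer_iff]
        intro h hh
        rw [Set.mem_singleton_iff] at hh
        rw [hh]
        exact (hcv v hvM hvo y hy).symm
      have hdvM : d * v * d⁻¹ ∈ M := hDM d hd v hvM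
      have hdvo : orderOf (d * v * d⁻¹) = 2 := by
        have h := MulEquiv.orderOf_eq (MulAut.conj d) v
        rw [MulAut.conj_apply] at h
        rw [h]
        exact hvo
      have hdvC : d * v * d⁻¹ ∈ Subgroup.centralizer ({y} : Set G) := by
        rw [Subgroup.mem_centralizer_iff]
        intro h hh
        rw [Set.mem_singleton_iff] at hh
        rw [hh]
        exact (hcv _ hdvM hdvo y hy).symm
      have hdN : d ∈ Subgroup.normalizer ((Subgroup.centralizer ({y} : Set G) : Subgroup G) : Set G) := by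
        by_contra hdN
        exact hv1' (hCTI y d hdN v hvC hdvC)
      have hyC : y ∈ Subgroup.centralizer ({y} : Set G) := by
        rw [Subgroup.mem_centralizer_iff]
        intro h hh
        rw [Set.mem_singleton_iff] at hh
        rw [hh]
      have h1 := (Subgroup.mem_normalizer_iff.1 hdN y).1 hyC
      rw [Subgroup.mem_centralizer_iff] at h1
      exact h1 y rfl
    exact hSQAB G M V (DU (NM M) u) k hMk hVk hD hVdef hVc hDM hfpf hcomm x hx y hy

end Cfsg.Agent.Lib.Helper8.CTIMAB
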