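import Mathlib
import Cfsg.Agent.Lib.Helper28.DxStmt
import Cfsg.Agent.S2530

set_option autoImplicit false

/-!
# Piece LOC of S1615: three mutually non-commuting partners generate a copy of `S₃`
-/

namespace Cfsg.Agent.Lib.Helper8.DxLOC

open Cfsg Equiv Cfsg.Agent.Lib.Helper21.W3Class Cfsg.Agent.Lib.Helper21.W3Apps
  Cfsg.Agent.Lib.Helper28 Cfsg.Agent.Lib.Helper28.DxStmt Cfsg.Agent.Lib.Helper52.TT3Basic

universe u

variable {G : Type u} [Group G]

/-- Coxeter relations of type `A₂` give a homomorphism from `S₃`. -/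
theorem exists_hom3 (u v : G) (hu : u * u = 1) (hv : v * v = 1) (h : (u * v) ^ 3 = 1) :
    ∃ φ : Perm (Fin 3) →* G, φ (swap 0 1) = u ∧ φ (swap 1 2) = v := by
  obtain ⟨cs, hcs⟩ := Cfsg.Agent.S2530.result 2
  have hrev : (v * u) ^ 3 = 1 := by
    have e : v * u = (u * v)⁻¹ := by
      rw [mul_inv_rev, inv_eq_of_mul_eq_one_right hu, inv_eq_of_mul_eq_one_right hv]
    rw [e, inv_pow, h, inv_one]
  have hf : (CoxeterMatrix.A 2).IsLiftable (![u, v] : Fin 2 → G) := by
    intro i i'
    fin_cases i <;> fin_cases i'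
    all_goals simp only [CoxeterMatrix.A]
    all_goals first
      | (show (u * u) ^ 1 = 1; rw [hu, one_pow])
      | (show (v * v) ^ 1 = 1; rw [hv, one_pow])
      | (show (u * v) ^ 3 = 1; exact h)
      | (show (v * u) ^ 3 = 1; exact hrev)
  refine ⟨cs.lift ⟨_, hf⟩, ?_, ?_⟩
  · have := cs.lift_apply_simple hf 0
    rw [hcs 0] at this
    exact this
  · have := cs.lift_apply_simple hf 1
    rw [hcs 1] at this
    exact this

theorem p3_cases : ∀ σ : Perm (Fin 3), σ = 1 ∨ σ = swap 0 1 ∨ σ = swap 1 2 ∨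
    σ = swap 0 1 * swap 1 2 ∨ σ = swap 1 2 * swap 0 1 ∨ σ = swap 0 1 * swap 1 2 * swap 0 1 := by
  decide

/-- two distinct involutions with product of order 3 generate a copy of `S₃` -/
theorem s3_of_pair (u v : G) (hu : u * u = 1) (hv : v * v = 1) (h : (u * v) ^ 3 = 1)
    (hu1 : u ≠ 1) (hv1 : v ≠ 1) (huv : u ≠ v) (S : Set G) (hS : S = {u, v, u * v * u}) :
    Nonempty (↥(Subgroup.closure S) ≃* Perm (Fin 3)) := by
  obtain ⟨φ, hφ0, hφ1⟩ := exists_hom3 u v hu hv h
  have hinj : Function.Injective φ := by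
    rw [injective_iff_map_eq_one]
    intro σ hσ
    rcases p3_cases σ with rfl | rfl | rfl | rfl | rfl | rfl
    · rfl
    · exfalso; rw [hφ0] at hσ; exact hu1 hσ
    · exfalso; rw [hφ1] at hσ; exact hv1 hσ
    · exfalso
      rw [map_mul, hφ0, hφ1] at hσ
      apply huv
      calc u = u * (v * v) := by rw [hv, mul_one]
        _ = (u * v) * v := by rw [mul_assoc]
        _ = v := by rw [hσ, one_mul]
    · exfalso
      rw [map_mul, hφ0, hφ1] at hσ
      apply huv
      calc u = (v * v) * u := by rw [hv, one_mul]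
        _ = v * (v * u) := by rw [mul_assoc]
        _ = v := by rw [hσ, mul_one]
    · exfalso
      rw [map_mul, map_mul, hφ0, hφ1] at hσ
      apply hv1
      calc v = (u * u) * v * (u * u) := by rw [hu, one_mul, mul_one]
        _ = u * (u * v * u) * u := by simp only [mul_assoc]
        _ = 1 := by rw [hσ, mul_one, hu]
  have hrange : Subgroup.closure S = φ.range := by
    apply le_antisymm
    · rw [Subgroup.closure_le, hS]
      intro x hx
      rcases hx with rfl | rfl | rfl
      · exact ⟨swap 0 1, hφ0⟩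
      · exact ⟨swap 1 2, hφ1⟩
      · exact ⟨swap 0 1 * swap 1 2 * swap 0 1, by rw [map_mul, map_mul, hφ0, hφ1]⟩
    · rintro _ ⟨σ, rfl⟩
      have hu' : u ∈ Subgroup.closure S := Subgroup.subset_closure (by rw [hS]; simp)
      have hv' : v ∈ Subgroup.closure S := Subgroup.subset_closure (by rw [hS]; simp)
      rcases p3_cases σ with rfl | rfl | rfl | rfl | rfl | rfl
      · rw [map_one]; exact one_mem _
      · rw [hφ0]; exact hu'
      · rw [hφ1]; exact hv'
      · rw [map_mul, hφ0, hφ1]; exact mul_mem hu' hv'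
      · rw [map_mul, hφ0, hφ1]; exact mul_mem hv' hu'
      · rw [map_mul, map_mul, hφ0, hφ1]; exact mul_mem (mul_mem hu' hv') hu'
  exact ⟨(MulEquiv.subgroupCongr hrange).trans (MonoidHom.ofInjective hinj).symm⟩

theorem main : LocP.{u} := by
  intro G _ _ D hD T hTri hcard p hp
  have hfin : (Pt D p).Finite := Set.toFinite _
  obtain ⟨u, v, hu, hv, huv⟩ := (Set.one_lt_ncard_iff hfin).1 (by rw [hcard p hp]; norm_num)
  have hnc : ¬ Commute u v := hTri p hp u hu v hv huv
  have hu2 := tt_sq hD hu.1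
  have hv2 := tt_sq hD hv.1
  have h3 := cube_of_not_comm hD hu.1 hv.1 hnc
  obtain ⟨hw, hwu, hwv⟩ := Pt_third hD T.conj hu hv hnc
  have hPt : Pt D p = {u, v, u * v * u} := by
    symm
    apply Set.eq_of_subset_of_ncard_le
    · intro x hx
      rcases hx with rfl | rfl | rfl
      exacts [hu, hv, hw]
    · rw [hcard p hp]
      have : ({u, v, u * v * u} : Set G).ncard = 3 := by
        rw [Set.ncard_eq_three]
        exact ⟨u, v, u * v * u, huv, hwu.symm, hwv.symm, rfl⟩
      rw [this]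
    · exact hfin
  exact s3_of_pair u v hu2 hv2 h3 (tt_ne_one hD hu.1) (tt_ne_one hD hv.1) huv _ hPt

end Cfsg.Agent.Lib.Helper8.DxLOC
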