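import Mathlib
import Cfsg.Agent.Lib.Helper80.FTStmt

/-!
# S3999 / NSB: arithmetic of the structure of a non-solvable Frobenius complement
-/

set_option autoImplicit false

namespace Cfsg.Agent.Lib.Helper8.FTNSB

open Cfsg.Agent.Lib.Helper80.FTStmt

universe u

theorem main (h : SL15) : NSB.{u} := by
  intro C _ _ C₀ S M hC₀n hidx hsup hinf hcomm ⟨e⟩ hcop
  obtain ⟨h120, hno15⟩ := h
  have hS : Nat.card ↥S = 120 := by rw [Nat.card_congr e.toEquiv, h120]
  have hc : ∀ (s : ↥S) (m : ↥M), Commute (S.subtype s) (M.subtype m) :=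
    fun s m => hcomm s.1 s.2 m.1 m.2
  obtain ⟨φ, hφ⟩ : ∃ φ : ↥S × ↥M →* C, φ = MonoidHom.noncommCoprod S.subtype M.subtype hc :=
    ⟨_, rfl⟩
  have hφinj : Function.Injective φ := by
    rw [hφ, MonoidHom.noncommCoprod_injective]
    refine ⟨Subgroup.subtype_injective S, Subgroup.subtype_injective M, ?_⟩
    rw [Subgroup.range_subtype, Subgroup.range_subtype, disjoint_iff, hinf]
  have hφrange : φ.range = C₀ := by
    rw [hφ, MonoidHom.noncommCoprod_range, Subgroup.range_subtype, Subgroup.range_subtype, hsup]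
  have hC₀card : Nat.card ↥C₀ = 120 * Nat.card ↥M := by
    rw [← hφrange, ← hS, ← Nat.card_prod]
    exact (Nat.card_congr (MonoidHom.ofInjective hφinj).toEquiv).symm
  have hCcard : Nat.card C = C₀.index * (120 * Nat.card ↥M) := by
    rw [← hC₀card, Subgroup.index_mul_card]
  have hC0 : Nat.card C ≠ 0 := Nat.card_pos.ne'
  have hcop3 : (Nat.card ↥M).Coprime 3 :=
    Nat.Coprime.coprime_dvd_right (by norm_num : 3 ∣ 30) hcop
  have hcop5 : (Nat.card ↥M).Coprime 5 :=
    Nat.Coprime.coprime_dvd_right (by norm_num : 5 ∣ 30) hcop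
  refine ⟨?_, ?_, ?_⟩
  · apply le_antisymm
    · by_contra hlt
      push Not at hlt
      have h2 : 3 ^ 2 ∣ Nat.card C :=
        (Nat.Prime.pow_dvd_iff_le_factorization Nat.prime_three hC0).mpr hlt
      rw [hCcard, ← mul_assoc] at h2
      have h3 : 3 ^ 2 ∣ C₀.index * 120 :=
        (Nat.Coprime.pow_left 2 hcop3.symm).dvd_of_dvd_mul_right h2
      rcases hidx with h1 | h1 <;> rw [h1] at h3 <;> norm_num at h3
    · apply (Nat.Prime.pow_dvd_iff_le_factorization Nat.prime_three hC0).mp
      rw [hCcard]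
      exact Dvd.dvd.mul_left (Dvd.dvd.mul_right (by norm_num) _) _
  · apply le_antisymm
    · by_contra hlt
      push Not at hlt
      have h2 : 5 ^ 2 ∣ Nat.card C :=
        (Nat.Prime.pow_dvd_iff_le_factorization Nat.prime_five hC0).mpr hlt
      rw [hCcard, ← mul_assoc] at h2
      have h3 : 5 ^ 2 ∣ C₀.index * 120 :=
        (Nat.Coprime.pow_left 2 hcop5.symm).dvd_of_dvd_mul_right h2
      rcases hidx with h1 | h1 <;> rw [h1] at h3 <;> norm_num at h3
    · apply (Nat.Prime.pow_dvd_iff_le_factorization Nat.prime_five hC0).mp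
      rw [hCcard]
      exact Dvd.dvd.mul_left (Dvd.dvd.mul_right (by norm_num) _) _
  · intro y hy
    have h15 : y ^ 15 = 1 := by
      rw [← hy]
      exact pow_orderOf_eq_one y
    have hyC₀ : y ∈ C₀ := by
      rcases hidx with h1 | h1
      · rw [Subgroup.index_eq_one.mp h1]
        exact Subgroup.mem_top y
      · have h2 := Subgroup.sq_mem_of_index_two h1 y
        have h3 : y = (y ^ 2) ^ 8 := by
          calc y = y ^ 15 * y := by rw [h15, one_mul]
            _ = y ^ 16 := (pow_succ y 15).symm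
            _ = (y ^ 2) ^ 8 := by simp [← pow_mul]
        rw [h3]
        exact C₀.pow_mem h2 8
    rw [← hφrange] at hyC₀
    obtain ⟨⟨s, m⟩, hsm⟩ := hyC₀
    have ho : orderOf ((s, m) : ↥S × ↥M) = 15 := by
      rw [← orderOf_injective φ hφinj, hsm, hy]
    rw [Prod.orderOf] at ho
    dsimp only at ho
    have hm1 : orderOf m = 1 := by
      have h1 : orderOf m ∣ 15 := by
        rw [← ho]
        exact Nat.dvd_lcm_right _ _
      have h2 : orderOf m ∣ Nat.card ↥M := orderOf_dvd_natCard m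
      have h3 : (Nat.card ↥M).Coprime 15 :=
        Nat.Coprime.coprime_dvd_right (by norm_num : 15 ∣ 30) hcop
      exact Nat.Coprime.eq_one_of_dvd (Nat.Coprime.coprime_dvd_left h2 h3) h1
    rw [hm1, Nat.lcm_one_right] at ho
    have h4 : orderOf (e s) = 15 := by rw [MulEquiv.orderOf_eq, ho]
    exact hno15 (e s) h4

end Cfsg.Agent.Lib.Helper8.FTNSB
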