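import Mathlib
import Cfsg.Agent.Lib.Helper40.GFStmt
import Cfsg.Agent.Lib.Helper8.GFZ1BStmt

/-!
# S5886 / Z1B: assembly from the seven sub-pieces of `GFZ1BStmt`
-/

set_option autoImplicit false

namespace Cfsg.Agent.Lib.Helper8.GFZ1BAsm

open Cfsg.Agent.Lib.Helper40.GFStmt Cfsg.Agent.Lib.Helper8.GFZ1BStmt

universe u

theorem asm (hN1 : Norm1.{u}) (hN2 : Norm2.{u}) (hC1 : Conj1.{u}) (hA : AlgA.{u})
    (hC2 : Conj2.{u}) (hX : AlgX.{u}) (hS : Semi.{u}) : Z1B.{u} := by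
  intro F L _ _ _ _ c hF hL h hh hnl x₀ hx₀ hline
  obtain ⟨h₁, hh₁, v, hv, hnl₁, hfix, hLv⟩ := hN1 F L c hF hL h hh hnl x₀ hx₀ hline
  obtain ⟨v₂, ψ, χ, A, D, X, hD⟩ := hN2 F L c h₁ hh₁ v hv hfix hLv
  have hAbij : Function.Bijective A := ⟨hD.Ainj, Finite.injective_iff_surjective.mp hD.Ainj⟩
  obtain ⟨A', hA'⟩ : ∃ A' : L →ₗ[F] L, ∀ t, A' (A t) = t :=
    ⟨(LinearEquiv.ofBijective A hAbij).symm.toLinearMap,
      fun t => (LinearEquiv.ofBijective A hAbij).symm_apply_apply t⟩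
  have hψ0 : ψ ≠ 0 := by
    intro h0
    have h1 := hD.psi_v2
    rw [h0, LinearMap.zero_apply] at h1
    exact zero_ne_one h1
  by_cases hex : ∃ a : L, ∀ c' : L,
      A' ∘ₗ LinearMap.mulLeft F a ∘ₗ D ≠ LinearMap.mulLeft F c'
  · obtain ⟨a, ha⟩ := hex
    exact ⟨v, ψ, _, hv, hψ0, hD.psi_v, ha, hC1 F L c h₁ v v₂ ψ χ A D X hD A' hA' a⟩
  · push Not at hex
    obtain ⟨hmul, κ, hκ, hDκ⟩ := hA F L A A' D hD.A1 hA' hD.Dinj hex
    obtain ⟨lam, hl0, hl1⟩ : ∃ lam : L, lam ≠ 0 ∧ lam ≠ 1 := by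
      by_contra hno
      push Not at hno
      have : Finite F := Nat.finite_of_card_ne_zero (by rw [hF]; norm_num)
      haveI : Fintype F := Fintype.ofFinite F
      haveI : Fintype L := Fintype.ofFinite L
      have h4 : Fintype.card L = 4 := by
        rw [Module.card_eq_pow_finrank (K := F) (V := L), hL, ← Nat.card_eq_fintype_card, hF]
        norm_num
      have hsurj : Function.Surjective (fun b : Bool => if b then (1 : L) else 0) := by
        intro lam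
        by_cases h0 : lam = 0
        · exact ⟨false, by simp [h0]⟩
        · exact ⟨true, by simp [hno lam h0]⟩
      have h5 := Fintype.card_le_of_surjective _ hsurj
      rw [h4, Fintype.card_bool] at h5
      omega
    by_cases hm : ∃ c₃ : L, X ∘ₗ LinearMap.mulLeft F ((lam - 1) / κ) ∘ₗ A' ∘ₗ
        LinearMap.mulLeft F (A lam)⁻¹ = LinearMap.mulLeft F c₃
    · obtain ⟨c₃, hc₃⟩ := hm
      obtain ⟨ξ, hξ⟩ := hX F L A A' X κ lam c₃ hD.A1 hA' hmul hκ hl0 hl1 hc₃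
      exact absurd (hS F L c h₁ v v₂ ψ χ A D X hD κ ξ hmul hDκ hξ) hnl₁
    · push Not at hm
      exact ⟨v, ψ, _, hv, hψ0, hD.psi_v, hm,
        hC2 F L c hF h₁ v v₂ ψ χ A D X hD A' κ lam hA' hmul hκ hDκ hl0⟩

end Cfsg.Agent.Lib.Helper8.GFZ1BAsm
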