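import Mathlib
import Cfsg.Agent.Lib.Helper40.GFStmt
import Cfsg.Agent.Lib.Helper8.GFZ1BStmt
import Cfsg.Agent.Lib.Helper8.GFZ1BAsm
import Cfsg.Agent.Lib.Helper60.GFZ1BNORM1
import Cfsg.Agent.Lib.Helper99.GFZ1BNORM2
import Cfsg.Agent.Lib.Helper60.GFZ1BCONJ1
import Cfsg.Agent.Lib.Helper24.GFZ1BALGA
import Cfsg.Agent.Lib.Helper75.GFZ1BCONJ2
import Cfsg.Agent.Lib.Helper77.GFZ1BALGX
import Cfsg.Agent.Lib.Helper89.GFZ1BSEMI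

/-!
# S5886 / Z1B (from `GLTrans`), assembled from the seven sub-pieces
-/

set_option autoImplicit false

namespace Cfsg.Agent.Lib.Helper8.GFZ1B

open Cfsg.Agent.Lib.Helper40.GFStmt Cfsg.Agent.Lib.Helper8.GFZ1BStmt

universe u

theorem main (hT : GLTrans.{u}) : Z1B.{u} :=
  Cfsg.Agent.Lib.Helper8.GFZ1BAsm.asm
    (Cfsg.Agent.Lib.Helper60.GFZ1BNORM1.main hT)
    Cfsg.Agent.Lib.Helper99.GFZ1BNORM2.main
    Cfsg.Agent.Lib.Helper60.GFZ1BCONJ1.main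
    Cfsg.Agent.Lib.Helper24.GFZ1BALGA.main
    Cfsg.Agent.Lib.Helper75.GFZ1BCONJ2.main
    Cfsg.Agent.Lib.Helper77.GFZ1BALGX.main
    Cfsg.Agent.Lib.Helper89.GFZ1BSEMI.main

end Cfsg.Agent.Lib.Helper8.GFZ1B
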