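import Mathlib
import Cfsg.Agent.Lib.Helper96.HallAltStmt

/-!
# S2538 piece KCNT: a fibre-preserving group whose fibrewise closure is even
-/

set_option autoImplicit false

namespace Cfsg.Agent.Lib.Helper8.HAKCNT

open Equiv Cfsg.Agent.Lib.Helper96.HallSymStmt Cfsg.Agent.Lib.Helper96.HallAltStmt

theorem main : Cfsg.Agent.Lib.Helper96.HallAltStmt.KCNT := by
  intro Ω _ _ ι _ f K hK h2 hcl
  classical
  have hiff : ∀ (g : Perm Ω), g ∈ K → ∀ (i : ι) (x : Ω), f (g x) = i ↔ f x = i := by
    intro g hg i x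
    rw [(mem_FP f g).1 (hK hg) x]
  let res : ∀ (g : ↥K) (i : ι), Perm {x : Ω // f x = i} := fun g i =>
    (g : Perm Ω).subtypePerm (hiff g.1 g.2 i)
  have heven : ∀ (g : ↥K) (i : ι), res g i ∈ alternatingGroup {x : Ω // f x = i} := by
    intro g i
    rw [Equiv.Perm.mem_alternatingGroup, ← Equiv.Perm.sign_ofSubtype,
      ← Equiv.Perm.mem_alternatingGroup]
    apply hcl
    intro j
    by_cases hji : j = i
    · subst hji
      refine ⟨g.1, g.2, ?_⟩
      intro x hx
      rw [Equiv.Perm.ofSubtype_apply_of_mem (p := fun y => f y = j) (res g j) hx]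
      rfl
    · refine ⟨1, K.one_mem, ?_⟩
      intro x hx
      rw [Equiv.Perm.ofSubtype_apply_of_not_mem (p := fun y => f y = i) (res g i) (a := x)
        (by rw [hx]; exact hji)]
      rfl
  let ψ : ↥K →* ∀ i : ι, ↥(alternatingGroup {x : Ω // f x = i}) :=
    MonoidHom.mk' (fun g i => ⟨res g i, heven g i⟩) (by
      intro a b
      funext i
      apply Subtype.ext
      apply Equiv.ext
      intro x
      apply Subtype.ext
      rfl)
  have hinj : Function.Injective ψ := by
    intro a b hab
    apply Subtype.ext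
    apply Equiv.ext
    intro x
    have h1 := congrFun hab (f x)
    have h2 : res a (f x) = res b (f x) := congrArg Subtype.val h1
    have h3 := congrArg
      (fun σ : Perm {y : Ω // f y = f x} => ((σ ⟨x, rfl⟩ : {y : Ω // f y = f x}) : Ω)) h2
    exact h3
  have hdvd := Subgroup.card_dvd_of_injective ψ hinj
  rw [Nat.card_pi] at hdvd
  have hfac : ∀ i : ι, 2 * Nat.card ↥(alternatingGroup {x : Ω // f x = i})
      = ((f ⁻¹' {i}).ncard).factorial := by
    intro i
    have hc : Nat.card {x : Ω // f x = i} = (f ⁻¹' {i}).ncard :=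
      Nat.card_coe_set_eq (f ⁻¹' {i})
    haveI : Nontrivial {x : Ω // f x = i} := by
      rw [← Fintype.one_lt_card_iff_nontrivial, ← Nat.card_eq_fintype_card, hc]
      exact h2 i
    rw [two_mul_nat_card_alternatingGroup, Nat.card_perm, hc]
  calc 2 ^ Fintype.card ι * Nat.card ↥K
      ∣ 2 ^ Fintype.card ι * ∏ i : ι, Nat.card ↥(alternatingGroup {x : Ω // f x = i}) :=
        Nat.mul_dvd_mul_left _ hdvd
    _ = ∏ i : ι, (2 * Nat.card ↥(alternatingGroup {x : Ω // f x = i})) := by
        rw [Finset.prod_mul_distrib, Finset.prod_const, Finset.card_univ]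
    _ = ∏ i : ι, ((f ⁻¹' {i}).ncard).factorial := Finset.prod_congr rfl (fun i _ => hfac i)

end Cfsg.Agent.Lib.Helper8.HAKCNT
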