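import Cfsg.Agent.Lib.Helper8.HSTab3

/-!
Explicit elements of the model group `G0` for the local analysis at the prime 2: an abelian
subgroup `⟨x0, x1, x2⟩` of type `4^3`, an element `g7` of order 7 and an element `h3` of order 3
normalising it, an involution `s0`, and conjugating elements for the fusion of involutions.
-/

set_option autoImplicit false

namespace Cfsg.Agent.Lib.Helper8.HSTab

def x0T : List Nat := [7, 70, 34, 37, 89, 80, 69, 71, 44, 84, 58, 0, 85, 57, 31, 88, 87, 78, 59, 27, 79, 86, 36, 98, 15, 51, 82, 54, 53, 14, 50, 74, 92, 24, 32, 35, 26, 3, 38, 42, 21, 76, 9, 75, 52, 1, 46, 64, 90, 45, 63, 4, 67, 66, 97, 55, 18, 91, 10, 83, 6, 61, 62, 95, 47, 65, 94, 8, 73, 99, 49, 11, 16, 23, 29, 43, 17, 72, 41, 20, 48, 40, 22, 56, 39, 12, 81, 77, 33, 25, 5, 96, 2, 93, 28, 30, 13, 19, 68, 60]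
def x0 : Equiv.Perm (Fin 100) := mkP x0T (by decide +kernel)
theorem tab_x0 : tab x0 = x0T := tab_mkP _ _
theorem x0_mem : x0 ∈ G0 := mem_G0 x0T _ (by decide +kernel) (by decide +kernel)

def g7T : List Nat := [62, 89, 25, 3, 13, 57, 86, 38, 51, 4, 37, 55, 10, 36, 40, 96, 81, 26, 21, 22, 58, 91, 82, 61, 92, 15, 90, 16, 63, 29, 23, 45, 41, 24, 52, 7, 72, 20, 43, 17, 32, 48, 6, 53, 67, 69, 71, 66, 88, 78, 98, 2, 76, 95, 5, 75, 14, 87, 79, 1, 31, 0, 47, 68, 28, 64, 30, 60, 46, 70, 44, 65, 74, 35, 97, 94, 39, 54, 77, 85, 59, 33, 42, 19, 8, 12, 83, 49, 56, 18, 34, 80, 99, 11, 50, 73, 84, 9, 93, 27]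
def g7 : Equiv.Perm (Fin 100) := mkP g7T (by decide +kernel)
theorem tab_g7 : tab g7 = g7T := tab_mkP _ _
theorem g7_mem : g7 ∈ G0 := mem_G0 g7T _ (by decide +kernel) (by decide +kernel)

def h3T : List Nat := [30, 1, 22, 3, 84, 78, 74, 95, 6, 15, 12, 50, 79, 51, 52, 86, 48, 92, 91, 72, 58, 59, 97, 0, 41, 42, 27, 32, 28, 29, 23, 31, 26, 40, 24, 43, 25, 37, 35, 33, 39, 34, 36, 38, 45, 69, 64, 62, 76, 49, 98, 83, 99, 53, 87, 93, 90, 54, 85, 80, 67, 47, 61, 68, 65, 46, 66, 70, 71, 44, 60, 63, 96, 7, 8, 55, 16, 5, 77, 10, 21, 56, 4, 13, 82, 20, 9, 57, 17, 18, 81, 89, 88, 75, 94, 73, 19, 2, 11, 14]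
def h3 : Equiv.Perm (Fin 100) := mkP h3T (by decide +kernel)
theorem tab_h3 : tab h3 = h3T := tab_mkP _ _
theorem h3_mem : h3 ∈ G0 := mem_G0 h3T _ (by decide +kernel) (by decide +kernel)

def s0T : List Nat := [0, 1, 15, 3, 4, 16, 8, 11, 6, 22, 12, 7, 10, 18, 14, 2, 5, 17, 13, 21, 20, 19, 9, 30, 34, 25, 39, 40, 28, 31, 23, 29, 33, 32, 24, 38, 42, 37, 35, 26, 27, 41, 36, 43, 60, 70, 65, 47, 77, 49, 73, 89, 99, 94, 81, 93, 57, 56, 85, 96, 44, 62, 61, 68, 64, 46, 66, 69, 63, 67, 45, 71, 80, 50, 74, 75, 78, 48, 76, 79, 72, 54, 84, 91, 82, 58, 97, 90, 92, 51, 87, 83, 88, 55, 53, 98, 59, 86, 95, 52]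
def s0 : Equiv.Perm (Fin 100) := mkP s0T (by decide +kernel)
theorem tab_s0 : tab s0 = s0T := tab_mkP _ _
theorem s0_mem : s0 ∈ G0 := mem_G0 s0T _ (by decide +kernel) (by decide +kernel)

def csT : List Nat := [51, 8, 68, 43, 33, 5, 11, 61, 99, 30, 20, 62, 41, 2, 94, 88, 70, 77, 31, 34, 17, 80, 87, 78, 57, 32, 90, 39, 69, 81, 60, 54, 63, 92, 93, 0, 84, 37, 75, 23, 91, 48, 38, 66, 85, 10, 14, 49, 16, 6, 98, 36, 52, 73, 24, 79, 40, 18, 3, 27, 21, 1, 47, 44, 74, 64, 67, 58, 76, 19, 12, 89, 86, 65, 53, 71, 96, 45, 59, 4, 9, 72, 82, 29, 35, 25, 83, 97, 56, 42, 22, 15, 55, 28, 50, 95, 13, 26, 46, 7]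
def cs : Equiv.Perm (Fin 100) := mkP csT (by decide +kernel)
theorem tab_cs : tab cs = csT := tab_mkP _ _
theorem cs_mem : cs ∈ G0 := mem_G0 csT _ (by decide +kernel) (by decide +kernel)

def crT : List Nat := [11, 24, 82, 0, 45, 40, 92, 79, 96, 90, 71, 37, 85, 60, 56, 97, 72, 51, 42, 76, 58, 29, 67, 12, 95, 69, 70, 93, 2, 1, 13, 4, 84, 89, 81, 83, 68, 64, 66, 87, 65, 86, 99, 91, 19, 6, 5, 16, 78, 34, 39, 62, 59, 48, 27, 28, 49, 23, 47, 41, 14, 22, 3, 15, 9, 20, 18, 8, 10, 17, 21, 7, 74, 75, 88, 33, 73, 36, 35, 94, 38, 44, 46, 80, 54, 53, 63, 25, 55, 30, 50, 31, 52, 32, 26, 77, 61, 98, 43, 57]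
def cr : Equiv.Perm (Fin 100) := mkP crT (by decide +kernel)
theorem tab_cr : tab cr = crT := tab_mkP _ _
theorem cr_mem : cr ∈ G0 := mem_G0 crT _ (by decide +kernel) (by decide +kernel)

def c2T : List Nat := [36, 48, 93, 54, 17, 68, 47, 7, 60, 66, 92, 9, 50, 99, 97, 45, 77, 5, 62, 12, 76, 1, 56, 8, 67, 14, 82, 31, 65, 40, 2, 71, 98, 42, 89, 18, 85, 87, 4, 35, 94, 21, 64, 30, 79, 61, 29, 22, 26, 74, 46, 52, 24, 10, 15, 20, 33, 88, 58, 44, 95, 96, 28, 16, 6, 73, 43, 72, 13, 86, 34, 70, 49, 39, 51, 83, 91, 75, 59, 0, 69, 3, 90, 32, 27, 78, 57, 80, 37, 84, 41, 53, 55, 11, 19, 25, 81, 23, 63, 38]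
def c2 : Equiv.Perm (Fin 100) := mkP c2T (by decide +kernel)
theorem tab_c2 : tab c2 = c2T := tab_mkP _ _
theorem c2_mem : c2 ∈ G0 := mem_G0 c2T _ (by decide +kernel) (by decide +kernel)

def c3T : List Nat := [78, 43, 83, 7, 82, 46, 45, 4, 30, 65, 9, 13, 20, 42, 56, 29, 99, 25, 68, 96, 8, 26, 53, 58, 47, 21, 14, 60, 69, 85, 89, 44, 12, 19, 49, 81, 76, 74, 51, 1, 54, 10, 67, 64, 34, 31, 71, 57, 6, 5, 23, 92, 17, 40, 22, 38, 94, 50, 24, 61, 59, 27, 70, 86, 37, 87, 84, 88, 36, 79, 80, 0, 41, 93, 16, 95, 39, 11, 48, 62, 28, 3, 35, 2, 72, 77, 32, 33, 73, 75, 97, 15, 52, 91, 55, 90, 98, 63, 66, 18]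
def c3 : Equiv.Perm (Fin 100) := mkP c3T (by decide +kernel)
theorem tab_c3 : tab c3 = c3T := tab_mkP _ _
theorem c3_mem : c3 ∈ G0 := mem_G0 c3T _ (by decide +kernel) (by decide +kernel)

def x1 : Equiv.Perm (Fin 100) := g7 * x0 * g7⁻¹
def x1T : List Nat := [0, 19, 13, 20, 8, 9, 4, 7, 17, 22, 12, 11, 10, 18, 21, 2, 5, 6, 15, 14, 3, 1, 16, 98, 92, 52, 77, 31, 66, 40, 50, 86, 91, 32, 57, 61, 87, 79, 65, 26, 45, 99, 82, 43, 78, 97, 35, 47, 39, 54, 63, 67, 41, 94, 74, 62, 24, 59, 85, 88, 51, 93, 38, 95, 64, 55, 28, 76, 73, 89, 27, 71, 90, 23, 81, 75, 60, 48, 69, 37, 84, 49, 72, 33, 36, 58, 70, 80, 34, 44, 42, 83, 96, 46, 53, 30, 56, 29, 68, 25]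
theorem tab_x1 : tab x1 = x1T := by
  unfold x1
  simp only [tab_mul, tab_inv, tab_g7, tab_x0]
  decide +kernel

def x2 : Equiv.Perm (Fin 100) := g7 * x1 * g7⁻¹
def x2T : List Nat := [11, 56, 60, 58, 82, 97, 42, 0, 72, 29, 37, 71, 79, 51, 92, 76, 45, 90, 67, 24, 85, 96, 40, 98, 41, 36, 86, 15, 28, 32, 63, 2, 69, 78, 6, 61, 21, 10, 38, 31, 91, 80, 74, 64, 16, 83, 35, 43, 27, 59, 95, 26, 87, 53, 88, 55, 52, 4, 3, 8, 39, 93, 62, 30, 75, 65, 66, 77, 73, 9, 18, 7, 49, 23, 34, 47, 48, 70, 5, 12, 19, 57, 81, 44, 14, 20, 13, 1, 17, 22, 54, 89, 99, 46, 94, 50, 25, 33, 68, 84]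
theorem tab_x2 : tab x2 = x2T := by
  unfold x2
  simp only [tab_mul, tab_inv, tab_g7, tab_x1]
  decide +kernel

def s2 : Equiv.Perm (Fin 100) := g7 * s0 * g7⁻¹
def s2T : List Nat := [47, 84, 18, 3, 82, 33, 72, 43, 42, 83, 37, 75, 79, 13, 87, 15, 32, 90, 2, 80, 20, 36, 91, 61, 41, 96, 26, 76, 28, 45, 30, 67, 16, 5, 49, 98, 21, 10, 55, 77, 40, 24, 8, 7, 69, 29, 68, 0, 48, 34, 95, 86, 92, 53, 88, 38, 99, 81, 58, 74, 70, 23, 62, 63, 71, 65, 66, 31, 46, 44, 60, 64, 6, 93, 59, 11, 27, 39, 78, 12, 19, 57, 4, 9, 1, 85, 51, 14, 54, 89, 17, 22, 52, 73, 94, 50, 25, 97, 35, 56]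
theorem tab_s2 : tab s2 = s2T := by
  unfold s2
  simp only [tab_mul, tab_inv, tab_g7, tab_s0]
  decide +kernel

def e0 : Equiv.Perm (Fin 100) := x0 * x0 * x0 * (x1 * x1)
def e0T : List Nat := [11, 29, 56, 37, 76, 82, 67, 0, 60, 72, 58, 71, 85, 24, 45, 96, 42, 51, 92, 40, 79, 97, 90, 98, 91, 78, 80, 21, 94, 49, 50, 1, 59, 57, 18, 93, 5, 3, 55, 87, 54, 89, 77, 75, 6, 74, 61, 64, 36, 31, 63, 41, 69, 28, 86, 38, 32, 15, 10, 2, 52, 46, 65, 95, 47, 62, 53, 99, 73, 8, 14, 7, 39, 23, 70, 43, 25, 84, 4, 20, 22, 27, 48, 34, 16, 12, 19, 9, 13, 17, 26, 88, 83, 35, 66, 30, 33, 81, 68, 44]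
theorem tab_e0 : tab e0 = e0T := by
  unfold e0
  simp only [tab_mul, tab_inv, tab_x0, tab_x1]
  decide +kernel

def w0 : Equiv.Perm (Fin 100) := e0 * s0
def w0T : List Nat := [11, 29, 96, 37, 76, 42, 60, 71, 67, 90, 85, 0, 58, 92, 45, 56, 82, 51, 24, 97, 79, 40, 72, 50, 18, 78, 87, 54, 94, 1, 98, 49, 57, 59, 91, 55, 77, 3, 93, 80, 21, 89, 5, 75, 52, 14, 62, 64, 84, 31, 23, 17, 44, 66, 27, 35, 15, 32, 12, 33, 6, 65, 46, 73, 47, 61, 53, 8, 95, 99, 74, 7, 22, 63, 70, 43, 4, 36, 25, 20, 39, 86, 16, 88, 48, 10, 81, 26, 83, 41, 9, 34, 13, 38, 28, 68, 2, 19, 30, 69]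
theorem tab_w0 : tab w0 = w0T := by
  unfold w0
  simp only [tab_mul, tab_inv, tab_e0, tab_s0]
  decide +kernel

def w2 : Equiv.Perm (Fin 100) := c2 * w0 * c2⁻¹
def w2T : List Nat := [76, 94, 63, 57, 11, 52, 22, 70, 46, 36, 43, 4, 23, 25, 59, 31, 39, 91, 20, 65, 18, 84, 6, 12, 79, 13, 27, 26, 29, 28, 83, 15, 37, 45, 51, 69, 9, 32, 86, 16, 48, 66, 44, 10, 42, 33, 8, 95, 40, 56, 58, 34, 5, 89, 87, 99, 49, 3, 50, 14, 72, 97, 67, 2, 68, 19, 41, 62, 64, 35, 7, 74, 60, 96, 71, 85, 0, 90, 92, 24, 82, 93, 80, 30, 21, 75, 38, 54, 98, 53, 77, 17, 78, 81, 1, 47, 73, 61, 88, 55]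
theorem tab_w2 : tab w2 = w2T := by
  unfold w2
  simp only [tab_mul, tab_inv, tab_c2, tab_w0]
  decide +kernel

end Cfsg.Agent.Lib.Helper8.HSTab
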