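import Cfsg.Agent.Lib.Helper8.HSTab3

/-!
Explicit elements of the model group `G0` for the local analysis at the primes 3 and 5:
`a3, b3` commuting of order 3 with the involution `t3` inverting `a3` and centralising `b3`;
`a5, b5` generating an extraspecial group of order 125 with the involution `t5` inverting both.
-/

set_option autoImplicit false

namespace Cfsg.Agent.Lib.Helper8.HSTab

def a3T : List Nat := [0, 7, 14, 11, 4, 5, 10, 9, 6, 1, 8, 22, 12, 16, 19, 20, 18, 17, 13, 2, 21, 15, 3, 37, 80, 86, 59, 70, 79, 85, 71, 58, 44, 34, 78, 84, 36, 87, 88, 89, 27, 31, 69, 57, 72, 45, 96, 97, 77, 28, 48, 83, 25, 63, 68, 43, 93, 55, 41, 91, 76, 24, 60, 82, 29, 51, 56, 42, 92, 67, 40, 90, 32, 73, 74, 75, 62, 50, 33, 49, 61, 35, 53, 65, 81, 64, 52, 23, 94, 95, 30, 26, 54, 66, 38, 39, 98, 99, 46, 47]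
def a3 : Equiv.Perm (Fin 100) := mkP a3T (by decide +kernel)
theorem tab_a3 : tab a3 = a3T := tab_mkP _ _
theorem a3_mem : a3 ∈ G0 := mem_G0 a3T _ (by decide +kernel) (by decide +kernel)

def b3T : List Nat := [36, 99, 76, 77, 5, 45, 7, 47, 1, 97, 9, 50, 12, 56, 62, 54, 93, 17, 66, 60, 68, 92, 48, 23, 63, 22, 59, 18, 51, 19, 71, 15, 35, 44, 72, 78, 75, 37, 24, 28, 16, 21, 67, 55, 84, 4, 46, 6, 25, 65, 52, 39, 11, 94, 31, 57, 70, 43, 20, 91, 29, 53, 64, 38, 14, 95, 27, 69, 58, 42, 13, 90, 81, 73, 74, 0, 85, 86, 32, 83, 82, 34, 88, 89, 33, 2, 3, 87, 80, 79, 30, 26, 41, 40, 61, 49, 96, 10, 98, 8]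
def b3 : Equiv.Perm (Fin 100) := mkP b3T (by decide +kernel)
theorem tab_b3 : tab b3 = b3T := tab_mkP _ _
theorem b3_mem : b3 ∈ G0 := mem_G0 b3T _ (by decide +kernel) (by decide +kernel)

def t3T : List Nat := [0, 1, 14, 11, 4, 5, 10, 9, 8, 7, 6, 3, 17, 20, 2, 16, 15, 12, 21, 19, 13, 18, 22, 37, 28, 25, 43, 41, 24, 29, 42, 40, 32, 34, 33, 35, 36, 23, 39, 38, 31, 27, 30, 26, 72, 45, 96, 97, 48, 80, 77, 63, 86, 83, 93, 59, 68, 91, 70, 55, 60, 79, 76, 51, 85, 82, 92, 71, 56, 90, 58, 67, 44, 74, 73, 75, 62, 50, 78, 61, 49, 84, 65, 53, 81, 64, 52, 87, 95, 94, 69, 57, 66, 54, 89, 88, 46, 47, 98, 99]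
def t3 : Equiv.Perm (Fin 100) := mkP t3T (by decide +kernel)
theorem tab_t3 : tab t3 = t3T := tab_mkP _ _
theorem t3_mem : t3 ∈ G0 := mem_G0 t3T _ (by decide +kernel) (by decide +kernel)

def a5T : List Nat := [0, 9, 16, 3, 7, 13, 19, 1, 20, 22, 5, 11, 18, 2, 15, 12, 10, 14, 17, 8, 21, 6, 4, 64, 58, 94, 91, 33, 70, 67, 61, 23, 78, 87, 36, 52, 41, 40, 95, 55, 90, 49, 72, 81, 31, 60, 68, 46, 89, 80, 84, 97, 54, 74, 50, 99, 82, 38, 42, 25, 71, 69, 44, 47, 62, 63, 66, 45, 65, 28, 30, 29, 85, 88, 59, 86, 79, 57, 27, 37, 34, 98, 92, 77, 35, 24, 39, 32, 26, 43, 76, 93, 51, 73, 53, 83, 96, 56, 48, 75]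
def a5 : Equiv.Perm (Fin 100) := mkP a5T (by decide +kernel)
theorem tab_a5 : tab a5 = a5T := tab_mkP _ _
theorem a5_mem : a5 ∈ G0 := mem_G0 a5T _ (by decide +kernel) (by decide +kernel)

def b5T : List Nat := [39, 1, 87, 86, 50, 61, 45, 82, 64, 68, 13, 55, 21, 80, 15, 71, 76, 72, 44, 8, 58, 17, 53, 24, 29, 25, 38, 28, 30, 42, 33, 23, 37, 36, 41, 35, 27, 34, 43, 26, 32, 40, 31, 0, 19, 60, 46, 7, 96, 10, 63, 9, 51, 97, 22, 73, 74, 48, 6, 47, 20, 90, 67, 56, 18, 54, 75, 14, 94, 5, 49, 62, 85, 83, 4, 88, 2, 81, 16, 69, 70, 3, 84, 89, 59, 12, 93, 78, 95, 11, 79, 57, 92, 77, 52, 98, 99, 65, 66, 91]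
def b5 : Equiv.Perm (Fin 100) := mkP b5T (by decide +kernel)
theorem tab_b5 : tab b5 = b5T := tab_mkP _ _
theorem b5_mem : b5 ∈ G0 := mem_G0 b5T _ (by decide +kernel) (by decide +kernel)

def t5T : List Nat := [0, 1, 16, 3, 22, 5, 20, 9, 19, 7, 13, 11, 17, 10, 15, 14, 2, 12, 18, 8, 6, 21, 4, 31, 42, 25, 38, 33, 30, 29, 28, 23, 32, 27, 41, 35, 36, 40, 26, 43, 37, 34, 24, 39, 64, 60, 46, 68, 99, 80, 54, 82, 84, 74, 50, 89, 97, 91, 58, 94, 45, 69, 62, 65, 44, 63, 66, 71, 47, 61, 70, 67, 85, 83, 53, 98, 76, 93, 87, 90, 49, 86, 51, 73, 52, 72, 81, 78, 95, 55, 79, 57, 92, 77, 59, 88, 96, 56, 75, 48]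
def t5 : Equiv.Perm (Fin 100) := mkP t5T (by decide +kernel)
theorem tab_t5 : tab t5 = t5T := tab_mkP _ _
theorem t5_mem : t5 ∈ G0 := mem_G0 t5T _ (by decide +kernel) (by decide +kernel)

end Cfsg.Agent.Lib.Helper8.HSTab
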