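import Cfsg.Agent.Lib.Helper8.OrbTools

/-!
A subgroup of order `887040` of `M24` preserves a pair of points.
-/

set_option autoImplicit false

namespace Cfsg.Agent.Lib.Helper8.Idx276

open Cfsg Cfsg.Agent.Lib.Helper35.M24Fix Cfsg.Agent.Lib.Helper35.PermAut
  Cfsg.Agent.Lib.Helper35.M24Aut Cfsg.Agent.Lib.Helper8.M24Sub Cfsg.Agent.Lib.Helper8.M24Sub2
  Cfsg.Agent.Lib.Helper8.M24Sub3 Cfsg.Agent.Lib.Helper8.OrbTools
open scoped Pointwise

theorem numA : ∀ d : ℕ, d ≤ 24 → d ∣ 887040 → d % 11 = 2 → d = 2 ∨ d = 24 := by decide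

theorem numB : ∀ d : ℕ, d ≤ 24 → d ∣ 887040 → d % 11 = 1 → d = 1 ∨ d = 12 := by decide

theorem numC : ∀ d : ℕ, d ≤ 24 → d ∣ 36960 → d % 11 = 1 → d = 1 ∨ d = 12 := by decide

/-- A subgroup of order `36960` of `M24` fixing a point does not exist. -/
theorem no_36960 {Ka : Subgroup (Equiv.Perm GolayPt)} (hKaM : Ka ≤ M24) {a : GolayPt}
    (hKafix : ∀ k ∈ Ka, k a = a) (hKac : Nat.card Ka = 36960) : False := by
  have : Fact (Nat.Prime 11) := ⟨by norm_num⟩
  have : Fact (Nat.Prime 7) := ⟨by norm_num⟩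
  obtain ⟨h11, hh11K, hh11⟩ := exists_order Ka 11 (by rw [hKac]; decide)
  obtain ⟨h7, hh7K, hh7⟩ := exists_order Ka 7 (by rw [hKac]; decide)
  obtain ⟨b, hab, hh11b, hfix11⟩ := fix11 (hKaM hh11K) hh11 (hKafix h11 hh11K)
  obtain ⟨c, e, hac, hae, hce, hh7c, hh7e, hfix7⟩ := fix7 (hKaM hh7K) hh7 (hKafix h7 hh7K)
  have hnot : ∀ z, z ≠ a → a ∉ orb Ka z := fun z hz => notMem_orb_of_fixed hKafix (Ne.symm hz)
  have hdvd : ∀ z, (orb Ka z).card ∣ 36960 := fun z => hKac ▸ orb_card_dvd Ka z
  -- the orbit of `b`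
  have hm11 : (orb Ka b).card % 11 = 1 := orb_card_mod_one hh11K hh11 hh11b (fun y hy hgy => by
    rcases hfix11 y hgy with h | h
    · exact absurd (h ▸ hy) (hnot b (Ne.symm hab))
    · exact h)
  obtain ⟨r, hr, hm7⟩ := mod_fix_le hh7 (orb Ka b) (inv_orb Ka b h7 hh7K) {c, e} (fun y hy hgy => by
    rcases hfix7 y hgy with h | h | h
    · exact absurd (h ▸ hy) (hnot b (Ne.symm hab))
    · rw [h]; simp
    · rw [h]; simp)
  rw [Finset.card_pair hce] at hr
  have h1 : (orb Ka b).card = 1 := by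
    rcases numC _ (orb_card_le Ka b) (hdvd b) hm11 with h | h
    · exact h
    · omega
  have hKab := fix_of_orb_card_one h1
  -- a fixed point of `h7` other than `a`, `b`
  obtain ⟨z, hzS, hh7z⟩ := fixed_exists h7 {a, b} (by
    rw [card_fixedPts_7 (hKaM hh7K) hh7, Finset.card_pair hab]; norm_num)
  have hza : z ≠ a := fun h => hzS (by rw [h]; simp)
  have hzb : z ≠ b := fun h => hzS (by rw [h]; simp)
  have hS3 : ({z, a, b} : Finset GolayPt).card = 3 := by
    rw [Finset.card_insert_of_notMem hzS, Finset.card_pair hab]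
  have hfix7' : ∀ y, h7 y = y → y ∈ ({z, a, b} : Finset GolayPt) :=
    fixed_subset h7 {z, a, b} (by
      intro y hy
      simp only [Finset.mem_insert, Finset.mem_singleton] at hy
      rcases hy with hy | hy | hy
      · rw [hy]; exact hh7z
      · rw [hy]; exact hKafix h7 hh7K
      · rw [hy]; exact hKab h7 hh7K) (by rw [card_fixedPts_7 (hKaM hh7K) hh7, hS3])
  have hnotb : b ∉ orb Ka z := notMem_orb_of_fixed hKab (Ne.symm hzb)
  have hm7z : (orb Ka z).card % 7 = 1 := orb_card_mod_one hh7K hh7 hh7z (fun y hy hgy => by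
    have := hfix7' y hgy
    simp only [Finset.mem_insert, Finset.mem_singleton] at this
    rcases this with h | h | h
    · exact h
    · exact absurd (h ▸ hy) (hnot z hza)
    · exact absurd (h ▸ hy) hnotb)
  have hm11z : (orb Ka z).card % 11 = 0 := orb_card_mod_zero hh11K hh11 (fun y hy hgy => by
    rcases hfix11 y hgy with h | h
    · exact hnot z hza (h ▸ hy)
    · exact hnotb (h ▸ hy))
  have h22 : (orb Ka z).card = 22 := by
    have := orb_card_le Ka z
    have := orb_card_pos Ka z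
    omega
  have hK3 := card_stb Ka z
  rw [hKac, h22] at hK3
  have hK3c : Nat.card (stb Ka z) = 1680 := by omega
  exact chain3 (K3 := stb Ka z) ((stb_le Ka z).trans hKaM) hab (Ne.symm hza) (Ne.symm hzb)
    (fun k hk => hKafix k (stb_le Ka z hk)) (fun k hk => hKab k (stb_le Ka z hk))
    (stb_fix Ka z) (by rw [hK3c]; decide) (by rw [hK3c]; decide)

/-- A subgroup of order `887040` of `M24` preserves a pair of points. -/
theorem idx276 {K : Subgroup (Equiv.Perm GolayPt)} (hK : K ≤ M24) (hcard : Nat.card K = 887040) :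
    ∃ s : Finset GolayPt, s.card = 2 ∧ ∀ k ∈ K, ∀ y ∈ s, k y ∈ s := by
  have : Fact (Nat.Prime 11) := ⟨by norm_num⟩
  have : Fact (Nat.Prime 7) := ⟨by norm_num⟩
  obtain ⟨g, hgK, hg11⟩ := exists_order K 11 (by rw [hcard]; decide)
  obtain ⟨g7, hg7K, hg7⟩ := exists_order K 7 (by rw [hcard]; decide)
  obtain ⟨a, hga⟩ := exists_fix (hK hgK) (Or.inr (Or.inr rfl)) hg11
  obtain ⟨b, hab, hgb, hfix⟩ := fix11 (hK hgK) hg11 hga
  have hdvd : (orb K a).card ∣ 887040 := hcard ▸ orb_card_dvd K a
  have hle := orb_card_le K a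
  obtain ⟨r7, hr7, hm7⟩ := mod_fix_le hg7 (orb K a) (inv_orb K a g7 hg7K) (fixedPts g7)
    (fun y _ hy => mem_fixedPts.mpr hy)
  rw [card_fixedPts_7 (hK hg7K) hg7] at hr7
  by_cases hb : b ∈ orb K a
  · have hm : (orb K a).card % 11 = 2 := by
      have := mod_fix_eq hg11 (orb K a) (inv_orb K a g hgK) {a, b} (by
        intro y
        simp only [Finset.mem_insert, Finset.mem_singleton]
        constructor
        · rintro (hy | hy)
          · rw [hy]; exact ⟨self_mem_orb K a, hga⟩
          · rw [hy]; exact ⟨hb, hgb⟩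
        · rintro ⟨_, hy⟩
          exact hfix y hy)
      rw [Finset.card_pair hab] at this
      exact this
    rcases numA _ hle hdvd hm with h2 | h2
    · exact ⟨orb K a, h2, orb_inv K a⟩
    · exfalso
      have hKa := card_stb K a
      rw [hcard, h2] at hKa
      exact no_36960 ((stb_le K a).trans hK) (stb_fix K a) (by omega)
  · exfalso
    have hm : (orb K a).card % 11 = 1 := orb_card_mod_one hgK hg11 hga (fun y hy hgy => by
      rcases hfix y hgy with h | h
      · exact h
      · exact absurd (h ▸ hy) hb)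
    rcases numB _ hle hdvd hm with h1 | h1
    · have := inv_bnd hK _ (inv_orb K a) (by omega) (by omega)
      rw [h1, hcard] at this
      revert this
      decide
    · omega

end Cfsg.Agent.Lib.Helper8.Idx276
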