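import Cfsg.Agent.Lib.Helper8.M24Sub2

/-!
Subgroups of `M24` fixing two points: no involution normalises a subgroup of order eleven,
an element of order three cannot preserve two disjoint sets of five points away from four
fixed points, and there is no such subgroup of order `2112`.
-/

set_option autoImplicit false

namespace Cfsg.Agent.Lib.Helper8.M22Sub

open Cfsg Cfsg.Agent.Lib.Helper35.M24Fix Cfsg.Agent.Lib.Helper35.PermAut
  Cfsg.Agent.Lib.Helper35.M24Aut Cfsg.Agent.Lib.Helper8.M24Sub Cfsg.Agent.Lib.Helper8.M24Sub2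
open scoped Pointwise

/-- An element of order 11 or 23 of `M24` fixing `x` cannot preserve a set of at least two and
fewer than eleven points other than `x`. -/
theorem no_big_prime {g : Equiv.Perm GolayPt} (hg : g ∈ M24) {p : ℕ} (hp : p = 11 ∨ p = 23)
    (hgp : orderOf g = p) {x : GolayPt} (hx : g x = x) (Y : Finset GolayPt)
    (hY : ∀ y ∈ Y, g y ∈ Y) (hxY : x ∉ Y) (h2 : 2 ≤ Y.card) (h11 : Y.card < 11) : False := by
  have hp' : p.Prime := by rcases hp with rfl | rfl <;> norm_num
  have : Fact p.Prime := ⟨hp'⟩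
  have h1 := card_fixed_modEq g (p := p) (n := 1) (by rw [pow_one, ← hgp, pow_orderOf_eq_one])
    Y hY
  have hle : (Y.filter (fun y => g y = y)).card ≤ Y.card := Finset.card_filter_le _ _
  have heq : (Y.filter (fun y => g y = y)).card = Y.card := by
    have h3 : Y.card % p = (Y.filter (fun y => g y = y)).card % p := h1
    rcases hp with rfl | rfl <;> omega
  have hsub : insert x (Y.filter (fun y => g y = y)) ⊆ fixedPts g := by
    intro z hz
    rcases Finset.mem_insert.mp hz with rfl | hz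
    · exact mem_fixedPts.mpr hx
    · exact mem_fixedPts.mpr (Finset.mem_filter.mp hz).2
  have hc := Finset.card_le_card hsub
  rw [Finset.card_insert_of_notMem (fun h => hxY (Finset.mem_filter.mp h).1), heq] at hc
  rcases hp with rfl | rfl
  · have := card_fixedPts_11 hg hgp
    omega
  · have := card_fixedPts_23 hg hgp
    omega

/-- A subgroup of `M24` of order divisible by three fixing a set `S` of four points pointwise
cannot preserve two disjoint sets of five points disjoint from `S`. -/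
theorem three_trick {A : Subgroup (Equiv.Perm GolayPt)} (hA : A ≤ M24) (h3 : 3 ∣ Nat.card A)
    (S : Finset GolayPt) (hS : ∀ k ∈ A, ∀ z ∈ S, k z = z) (hS4 : S.card = 4)
    (X1 X2 : Finset GolayPt) (hX1 : ∀ k ∈ A, ∀ z ∈ X1, k z ∈ X1)
    (hX2 : ∀ k ∈ A, ∀ z ∈ X2, k z ∈ X2) (h1 : X1.card = 5) (h2 : X2.card = 5)
    (hd : Disjoint X1 X2) (hd1 : Disjoint S X1) (hd2 : Disjoint S X2) : False := by
  have : Fact (Nat.Prime 3) := ⟨by norm_num⟩
  obtain ⟨a, ha, ha3⟩ := exists_order A 3 h3
  have hc6 : (fixedPts a).card = 6 := by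
    rcases Cfsg.Agent.Lib.Helper86.Ord3.ord3_fix (hA ha) ha3 with h | h
    · exact h
    · exfalso
      have hne : S.Nonempty := by
        rw [← Finset.card_pos, hS4]
        norm_num
      obtain ⟨z, hz⟩ := hne
      have h' : fixedPts a = ∅ := h
      have hz' : z ∈ fixedPts a := mem_fixedPts.mpr (hS a ha z hz)
      rw [h'] at hz'
      exact absurd hz' (Finset.notMem_empty z)
  have hm1 := inv_card_modEq ha ha3 X1 hX1
  have hm2 := inv_card_modEq ha ha3 X2 hX2
  rw [h1] at hm1
  rw [h2] at hm2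
  have hf1 : 2 ≤ (X1.filter (fun y => a y = y)).card := by
    have h : 5 % 3 = (X1.filter (fun y => a y = y)).card % 3 := hm1
    omega
  have hf2 : 2 ≤ (X2.filter (fun y => a y = y)).card := by
    have h : 5 % 3 = (X2.filter (fun y => a y = y)).card % 3 := hm2
    omega
  have hsub : (S ∪ X1.filter (fun y => a y = y)) ∪ X2.filter (fun y => a y = y) ⊆ fixedPts a := by
    intro z hz
    rw [Finset.mem_union, Finset.mem_union] at hz
    rcases hz with (hz | hz) | hz
    · exact mem_fixedPts.mpr (hS a ha z hz)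
    · exact mem_fixedPts.mpr (Finset.mem_filter.mp hz).2
    · exact mem_fixedPts.mpr (Finset.mem_filter.mp hz).2
  have hc := Finset.card_le_card hsub
  rw [Finset.card_union_of_disjoint, Finset.card_union_of_disjoint, hS4, hc6] at hc
  · omega
  · exact Finset.disjoint_of_subset_right (Finset.filter_subset _ _) hd1
  · rw [Finset.disjoint_union_left]
    exact ⟨Finset.disjoint_of_subset_right (Finset.filter_subset _ _) hd2,
      Finset.disjoint_of_subset_left (Finset.filter_subset _ _)
        (Finset.disjoint_of_subset_right (Finset.filter_subset _ _) hd)⟩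

/-- No involution of `M24` fixing two points normalises a subgroup of order eleven fixing
them. -/
theorem no_inv_normalizing {P : Subgroup (Equiv.Perm GolayPt)} (hP : P ≤ M24)
    (hc : Nat.card P = 11) {p q : GolayPt} (hpq : p ≠ q) (hPp : ∀ h ∈ P, h p = p)
    (hPq : ∀ h ∈ P, h q = q) {t : Equiv.Perm GolayPt} (ht : t ∈ M24) (ht2 : orderOf t = 2)
    (htp : t p = p) (htq : t q = q) (hN : ∀ h ∈ P, t * h * t⁻¹ ∈ P) : False := by
  have hord : ∀ h ∈ P, h ≠ 1 → orderOf h = 11 := by
    intro h hh h1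
    have hd := P.orderOf_dvd_natCard hh
    rw [hc] at hd
    rcases (Nat.dvd_prime (by norm_num)).mp hd with h' | h'
    · exact absurd (orderOf_eq_one_iff.mp h') h1
    · exact h'
  have hfree : ∀ h ∈ P, ∀ c, c ≠ p → c ≠ q → h c = c → h = 1 := by
    intro h hh c hcp hcq hhc
    by_contra h1
    have h2 := card_fixedPts_11 (hP hh) (hord h hh h1)
    have h3 := fixed_subset h {p, q} (by
      intro z hz
      rw [Finset.mem_insert, Finset.mem_singleton] at hz
      rcases hz with rfl | rfl
      · exact hPp h hh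
      · exact hPq h hh) (by rw [h2, Finset.card_pair hpq]) c hhc
    rw [Finset.mem_insert, Finset.mem_singleton] at h3
    rcases h3 with h3 | h3
    · exact hcp h3
    · exact hcq h3
  have horb : ∀ c, c ≠ p → c ≠ q → (orb P c).card = 11 := by
    intro c hcp hcq
    have h1 := card_eq_mul_orb P c
    have h2 : P ⊓ MulAction.stabilizer (Equiv.Perm GolayPt) c = ⊥ := by
      rw [Subgroup.eq_bot_iff_forall]
      intro h hh
      exact hfree h hh.1 c hcp hcq (MulAction.mem_stabilizer_iff.mp hh.2)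
    rw [h2, Subgroup.card_bot, hc, one_mul] at h1
    exact h1.symm
  obtain ⟨ho, h8⟩ := inv_fix_octad ht ht2 htp
  have hsep : ∀ c c', c ≠ p → c ≠ q → t c = c → t c' = c' → c ≠ c' → c' ∉ orb P c := by
    intro c c' hcp hcq htc htc' hcc' hmem
    obtain ⟨h, hh, hhc⟩ := mem_orb.mp hmem
    have hne : h ≠ 1 := by
      intro h1
      rw [h1] at hhc
      exact hcc' hhc
    have htinv : t⁻¹ c = c := by
      rw [Equiv.Perm.inv_eq_iff_eq, htc]
    have h1 : (h⁻¹ * (t * h * t⁻¹)) c = c := by
      show h⁻¹ (t (h (t⁻¹ c))) = c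
      rw [htinv, hhc, htc', Equiv.Perm.inv_eq_iff_eq, hhc]
    have h2 := hfree _ (P.mul_mem (P.inv_mem hh) (hN h hh)) c hcp hcq h1
    have hcomm : t * h = h * t := by
      have h3 : t * h * t⁻¹ = h := by
        have := congrArg (fun z => h * z) h2
        simpa [mul_assoc] using this
      calc t * h = t * h * t⁻¹ * t := by group
        _ = h * t := by rw [h3]
    refine no_big_prime (hP hh) (Or.inl rfl) (hord h hh hne) (hPp h hh) ((fixedPts t).erase p)
      ?_ (Finset.notMem_erase p _) ?_ ?_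
    · intro z hz
      rw [Finset.mem_erase, mem_fixedPts] at hz ⊢
      refine ⟨fun hzp => hz.1 (h.injective (hzp.trans (hPp h hh).symm)), ?_⟩
      have := congrArg (fun σ : Equiv.Perm GolayPt => σ z) hcomm
      simp only [Equiv.Perm.mul_apply] at this
      rw [this, hz.2]
    · rw [Finset.card_erase_of_mem (mem_fixedPts.mpr htp), h8]
      norm_num
    · rw [Finset.card_erase_of_mem (mem_fixedPts.mpr htp), h8]
      norm_num
  have h6 : (((fixedPts t).erase p).erase q).card = 6 := by
    rw [Finset.card_erase_of_mem, Finset.card_erase_of_mem (mem_fixedPts.mpr htp), h8]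
    exact Finset.mem_erase.mpr ⟨Ne.symm hpq, mem_fixedPts.mpr htq⟩
  obtain ⟨c, c', c'', hc1, hc2, hc3, h12, h13, h23⟩ :=
    Finset.two_lt_card_iff.mp (by omega : 2 < (((fixedPts t).erase p).erase q).card)
  rw [Finset.mem_erase, Finset.mem_erase, mem_fixedPts] at hc1 hc2 hc3
  have hd1 := orb_disjoint (hsep c c' hc1.2.1 hc1.1 hc1.2.2 hc2.2.2 h12)
  have hd2 := orb_disjoint (hsep c c'' hc1.2.1 hc1.1 hc1.2.2 hc3.2.2 h13)
  have hd3 := orb_disjoint (hsep c' c'' hc2.2.1 hc2.1 hc2.2.2 hc3.2.2 h23)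
  have hle := Finset.card_le_univ ((orb P c'' ∪ orb P c') ∪ orb P c)
  rw [Finset.card_union_of_disjoint, Finset.card_union_of_disjoint hd3,
    horb c hc1.2.1 hc1.1, horb c' hc2.2.1 hc2.1, horb c'' hc3.2.1 hc3.1, card_golayPt] at hle
  · omega
  · rw [Finset.disjoint_union_left]
    exact ⟨hd2, hd1⟩

theorem num192 : ∀ n : ℕ, n ≤ 192 → n ∣ 192 → n % 11 = 1 → n = 1 ∨ n = 12 := by
  decide +kernel

/-- In a group of order `2112` some involution normalises a subgroup of order eleven. -/
theorem exists_sylow11_inv {K : Subgroup (Equiv.Perm GolayPt)} (hcard : Nat.card K = 2112) :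
    ∃ P : Subgroup (Equiv.Perm GolayPt), P ≤ K ∧ Nat.card P = 11 ∧
      ∃ t ∈ K, orderOf t = 2 ∧ ∀ h ∈ P, t * h * t⁻¹ ∈ P := by
  have : Fact (Nat.Prime 11) := ⟨by norm_num⟩
  have : Fact (Nat.Prime 2) := ⟨by norm_num⟩
  have : Finite K := Nat.finite_of_card_ne_zero (by rw [hcard]; norm_num)
  obtain ⟨P⟩ : Nonempty (Sylow 11 K) := inferInstance
  obtain ⟨n, hn⟩ := IsPGroup.iff_card.mp P.isPGroup'
  have hidx := (P : Subgroup K).card_mul_index
  have hnd := P.not_dvd_index
  rw [hcard] at hidx
  have hPc : Nat.card (P : Subgroup K) = 11 := by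
    rw [hn] at hidx ⊢
    rcases n with _ | _ | n
    · rw [pow_zero, one_mul] at hidx
      rw [hidx] at hnd
      exact absurd (by norm_num) hnd
    · norm_num
    · exfalso
      have h121 : 121 ∣ 2112 := ⟨11 ^ n * (P : Subgroup K).index, by rw [← hidx]; ring⟩
      revert h121
      decide
  rw [hPc] at hidx
  have hidx' : (P : Subgroup K).index = 192 := by omega
  have h1 := card_sylow_modEq_one 11 K
  have h2 := P.card_dvd_index
  have h3 := P.card_eq_index_normalizer
  rw [hidx'] at h2
  have h4 := (Subgroup.normalizer (P : Set K)).card_mul_index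
  rw [← h3, hcard] at h4
  have h5 : Nat.card (Sylow 11 K) % 11 = 1 := h1
  have heven : 2 ∣ Nat.card (Subgroup.normalizer (P : Set K)) := by
    rcases num192 _ (Nat.le_of_dvd (by norm_num) h2) h2 h5 with h | h
    · rw [h, mul_one] at h4
      rw [h4]
      norm_num
    · rw [h] at h4
      have : Nat.card (Subgroup.normalizer (P : Set K)) = 176 := by omega
      rw [this]
      norm_num
  obtain ⟨t, ht⟩ := exists_prime_orderOf_dvd_card'
    (G := ↥(Subgroup.normalizer (P : Set K))) 2 heven
  refine ⟨(P : Subgroup K).map K.subtype, Subgroup.map_subtype_le _, ?_, ((t : K) : Equiv.Perm GolayPt),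
    (t : K).2, ?_, ?_⟩
  · rw [Subgroup.card_map_of_injective (Subgroup.subtype_injective _), hPc]
  · rw [Subgroup.orderOf_coe, Subgroup.orderOf_coe, ht]
  · rintro _ ⟨h, hh, rfl⟩
    have := (Subgroup.mem_set_normalizer_iff.mp t.2 h).mp hh
    exact ⟨_, this, rfl⟩

/-- No subgroup of order `2112` of `M24` fixes two points. -/
theorem no_2112 {K : Subgroup (Equiv.Perm GolayPt)} (hK : K ≤ M24) {p q : GolayPt} (hpq : p ≠ q)
    (hp : ∀ k ∈ K, k p = p) (hq : ∀ k ∈ K, k q = q) (hcard : Nat.card K = 2112) : False := by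
  obtain ⟨P, hPK, hPc, t, htK, ht2, hN⟩ := exists_sylow11_inv hcard
  exact no_inv_normalizing (hPK.trans hK) hPc hpq (fun h hh => hp h (hPK hh))
    (fun h hh => hq h (hPK hh)) (hK htK) ht2 (hp t htK) (hq t htK) hN

/-- The setwise stabiliser in `K` of a finset. -/
def setStab (K : Subgroup (Equiv.Perm GolayPt)) (B : Finset GolayPt) :
    Subgroup (Equiv.Perm GolayPt) where
  carrier := {k | k ∈ K ∧ ∀ z, k z ∈ B ↔ z ∈ B}
  one_mem' := ⟨K.one_mem, fun _ => Iff.rfl⟩
  mul_mem' := by
    rintro a b ⟨ha, ha'⟩ ⟨hb, hb'⟩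
    exact ⟨K.mul_mem ha hb, fun z => (ha' (b z)).trans (hb' z)⟩
  inv_mem' := by
    rintro a ⟨ha, ha'⟩
    refine ⟨K.inv_mem ha, fun z => ?_⟩
    have h := ha' (a⁻¹ z)
    have h2 : a (a⁻¹ z) = z := a.apply_symm_apply z
    rw [h2] at h
    exact h.symm

theorem setStab_le (K : Subgroup (Equiv.Perm GolayPt)) (B : Finset GolayPt) : setStab K B ≤ K :=
  fun _ hk => hk.1

theorem le_setStab {K K' : Subgroup (Equiv.Perm GolayPt)} {B : Finset GolayPt} (hK' : K' ≤ K)
    (hB : ∀ k ∈ K', ∀ z ∈ B, k z ∈ B) : K' ≤ setStab K B :=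
  fun _ hk => ⟨hK' hk, fun z => apply_mem_iff K' B hB hk z⟩

theorem apply_mem_of_setStab {K : Subgroup (Equiv.Perm GolayPt)} {B : Finset GolayPt}
    {k : Equiv.Perm GolayPt} (hk : k ∈ setStab K B) {z : GolayPt} (hz : z ∈ B) : k z ∈ B :=
  (hk.2 z).mpr hz

theorem num720 : ∀ d : ℕ, d ≤ 11 → d ∣ 720 → d % 5 = 1 → d = 1 ∨ d = 6 := by
  decide

theorem num360 : ∀ d : ℕ, d ≤ 24 → d ∣ 360 → d % 5 = 1 → d = 1 ∨ d = 6 := by
  decide

section order7920

variable {K : Subgroup (Equiv.Perm GolayPt)} {p q : GolayPt}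

/-- The stabiliser in `K` of one of the two further fixed points of an element of order five
moves the other one in an orbit of six points. -/
theorem stab_orbit (hK : K ≤ M24) (hpq : p ≠ q) (hp : ∀ k ∈ K, k p = p) (hq : ∀ k ∈ K, k q = q)
    (hcard : Nat.card K = 7920) {y : Equiv.Perm GolayPt} (hyK : y ∈ K) (hy5 : orderOf y = 5)
    {c c' : GolayPt} (hcc' : c ≠ c') (hcp : c ≠ p) (hcq : c ≠ q) (hc'p : c' ≠ p) (hc'q : c' ≠ q)
    (hyc : y c = c) (hyc' : y c' = c')
    (hyfix : ∀ z, z ≠ p → z ≠ q → y z = z → z = c ∨ z = c')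
    (h : (orb K c).card = 22 ∨ ((orb K c).card = 11 ∧ (orb K c').card ≤ 11)) :
    (orb (K ⊓ MulAction.stabilizer (Equiv.Perm GolayPt) c) c').card = 6 := by
  have : Fact (Nat.Prime 5) := ⟨by norm_num⟩
  have hK1 : K ⊓ MulAction.stabilizer (Equiv.Perm GolayPt) c ≤ K := inf_le_left
  have hK1c : ∀ k ∈ K ⊓ MulAction.stabilizer (Equiv.Perm GolayPt) c, k c = c :=
    fun k hk => MulAction.mem_stabilizer_iff.mp hk.2
  have hyK1 : y ∈ K ⊓ MulAction.stabilizer (Equiv.Perm GolayPt) c :=
    ⟨hyK, MulAction.mem_stabilizer_iff.mpr hyc⟩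
  have hmul := card_eq_mul_orb K c
  rw [hcard] at hmul
  have hdvd := orb_card_dvd (K ⊓ MulAction.stabilizer (Equiv.Perm GolayPt) c) c'
  have hmod := orb_card_mod_one hyK1 hy5 hyc' (fun z hz hyz => by
    have hzp : z ≠ p := fun hh =>
      notMem_orb_of_fixed (fun k hk => hp k (hK1 hk)) (Ne.symm hc'p) (hh ▸ hz)
    have hzq : z ≠ q := fun hh =>
      notMem_orb_of_fixed (fun k hk => hq k (hK1 hk)) (Ne.symm hc'q) (hh ▸ hz)
    rcases hyfix z hzp hzq hyz with h' | h'
    · exact absurd (h' ▸ hz) (notMem_orb_of_fixed hK1c hcc')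
    · exact h')
  have hsub : orb (K ⊓ MulAction.stabilizer (Equiv.Perm GolayPt) c) c' ⊆ orb K c' := by
    intro z hz
    obtain ⟨k, hk, hkz⟩ := mem_orb.mp hz
    exact mem_orb.mpr ⟨k, hK1 hk, hkz⟩
  have hle := Finset.card_le_card hsub
  have h24 := orb_card_le (K ⊓ MulAction.stabilizer (Equiv.Perm GolayPt) c) c'
  have hone : (orb (K ⊓ MulAction.stabilizer (Equiv.Perm GolayPt) c) c').card ≠ 1 := by
    intro h1
    have hfix := fix_of_orb_card_one h1
    have h4 := card_dvd_of_fix4 (hK1.trans hK) (x := p) (u := q) (v := c) (w := c')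
      (by simp [hpq, Ne.symm hcp, Ne.symm hc'p, Ne.symm hcq, Ne.symm hc'q, hcc'])
      (fun k hk => hp k (hK1 hk)) (fun k hk => hq k (hK1 hk)) hK1c hfix
    rcases h with h | h
    · rw [h] at hmul
      have h5 : Nat.card ↥(K ⊓ MulAction.stabilizer (Equiv.Perm GolayPt) c) = 360 := by omega
      rw [h5] at h4
      revert h4
      decide
    · rw [h.1] at hmul
      have h5 : Nat.card ↥(K ⊓ MulAction.stabilizer (Equiv.Perm GolayPt) c) = 720 := by omega
      rw [h5] at h4
      revert h4
      decide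
  rcases h with h | h
  · rw [h] at hmul
    have h5 : Nat.card ↥(K ⊓ MulAction.stabilizer (Equiv.Perm GolayPt) c) = 360 := by omega
    rw [h5] at hdvd
    rcases num360 _ h24 hdvd hmod with h6 | h6
    · exact absurd h6 hone
    · exact h6
  · rw [h.1] at hmul
    have h5 : Nat.card ↥(K ⊓ MulAction.stabilizer (Equiv.Perm GolayPt) c) = 720 := by omega
    rw [h5] at hdvd
    rcases num720 _ (hle.trans h.2) hdvd hmod with h6 | h6
    · exact absurd h6 hone
    · exact h6

/-- No subgroup of order `7920` of `M24` fixes two points. -/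
theorem no_7920 (hK : K ≤ M24) (hpq : p ≠ q) (hp : ∀ k ∈ K, k p = p) (hq : ∀ k ∈ K, k q = q)
    (hcard : Nat.card K = 7920) : False := by
  have : Fact (Nat.Prime 11) := ⟨by norm_num⟩
  have : Fact (Nat.Prime 5) := ⟨by norm_num⟩
  obtain ⟨g, hgK, hg11⟩ := exists_order K 11 (by rw [hcard]; decide)
  obtain ⟨y, hyK, hy5⟩ := exists_order K 5 (by rw [hcard]; decide)
  have hfg := card_fixedPts_11 (hK hgK) hg11
  have hfy := card_fixedPts_5 (hK hyK) hy5
  have hgfix : ∀ z, g z = z → z = p ∨ z = q := by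
    intro z hz
    have h3 := fixed_subset g {p, q} (by
      intro z hz
      rw [Finset.mem_insert, Finset.mem_singleton] at hz
      rcases hz with hz | hz
      · rw [hz]; exact hp g hgK
      · rw [hz]; exact hq g hgK) (by rw [hfg, Finset.card_pair hpq]) z hz
    rwa [Finset.mem_insert, Finset.mem_singleton] at h3
  have he : (((fixedPts y).erase p).erase q).card = 2 := by
    rw [Finset.card_erase_of_mem, Finset.card_erase_of_mem (mem_fixedPts.mpr (hp y hyK)), hfy]
    exact Finset.mem_erase.mpr ⟨Ne.symm hpq, mem_fixedPts.mpr (hq y hyK)⟩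
  obtain ⟨c1, c2, hc12, he2⟩ := Finset.card_eq_two.mp he
  have hc1 : c1 ∈ ((fixedPts y).erase p).erase q := by rw [he2]; simp
  have hc2 : c2 ∈ ((fixedPts y).erase p).erase q := by rw [he2]; simp
  rw [Finset.mem_erase, Finset.mem_erase, mem_fixedPts] at hc1 hc2
  obtain ⟨hc1q, hc1p, hyc1⟩ := hc1
  obtain ⟨hc2q, hc2p, hyc2⟩ := hc2
  have hyfix : ∀ z, z ≠ p → z ≠ q → y z = z → z = c1 ∨ z = c2 := by
    intro z hzp hzq hz
    have : z ∈ ((fixedPts y).erase p).erase q :=
      Finset.mem_erase.mpr ⟨hzq, Finset.mem_erase.mpr ⟨hzp, mem_fixedPts.mpr hz⟩⟩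
    rw [he2] at this
    simpa using this
  have hporb : ∀ c, c ≠ p → p ∉ orb K c := fun c hc => notMem_orb_of_fixed hp (Ne.symm hc)
  have hqorb : ∀ c, c ≠ q → q ∉ orb K c := fun c hc => notMem_orb_of_fixed hq (Ne.symm hc)
  have hin : ∀ c, c ≠ p → c ≠ q → orb K c ⊆ (Finset.univ.erase p).erase q := fun c hcp hcq z hz =>
    Finset.mem_erase.mpr ⟨fun h => hqorb c hcq (h ▸ hz),
      Finset.mem_erase.mpr ⟨fun h => hporb c hcp (h ▸ hz), Finset.mem_univ _⟩⟩
  have h22 : ((Finset.univ.erase p).erase q).card = 22 := by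
    rw [Finset.card_erase_of_mem (Finset.mem_erase.mpr ⟨Ne.symm hpq, Finset.mem_univ _⟩),
      Finset.card_erase_of_mem (Finset.mem_univ _), Finset.card_univ, card_golayPt]
  have hK11 : ∀ c, c ≠ p → c ≠ q → (orb K c).card = 11 ∨ (orb K c).card = 22 := by
    intro c hcp hcq
    have h0 := orb_card_mod_zero hgK hg11 (x := c) (fun z hz hgz => by
      rcases hgfix z hgz with h | h
      · exact hporb c hcp (h ▸ hz)
      · exact hqorb c hcq (h ▸ hz))
    have h2 := Finset.card_le_card (hin c hcp hcq)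
    rw [h22] at h2
    have h3 := orb_card_pos K c
    omega
  have hsum : ∀ c c', c ≠ p → c ≠ q → c' ≠ p → c' ≠ q → c' ∉ orb K c →
      (orb K c').card + (orb K c).card ≤ 22 := by
    intro c c' hcp hcq hc'p hc'q hn
    have hd := orb_disjoint hn
    have := Finset.card_le_card (Finset.union_subset (hin c' hc'p hc'q) (hin c hcp hcq))
    rw [Finset.card_union_of_disjoint hd, h22] at this
    exact this
  have hsep : ∀ c c', c ≠ p → c ≠ q → y c = c → y c' = c' → c ≠ c' → (orb K c).card = 11 →
      c' ∉ orb K c := by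
    intro c c' hcp hcq hyc hyc' hcc' h11 hmem
    have h1 := inv_card_modEq hyK hy5 (orb K c) (orb_inv K c)
    have h2 : ({c, c'} : Finset GolayPt) ⊆ (orb K c).filter (fun z => y z = z) := by
      intro z hz
      rw [Finset.mem_insert, Finset.mem_singleton] at hz
      rcases hz with hz | hz
      · rw [hz]; exact Finset.mem_filter.mpr ⟨self_mem_orb K _, hyc⟩
      · rw [hz]; exact Finset.mem_filter.mpr ⟨hmem, hyc'⟩
    have h3 : (orb K c).filter (fun z => y z = z) ⊆ (((fixedPts y).erase p).erase q) := by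
      intro z hz
      rw [Finset.mem_filter] at hz
      exact Finset.mem_erase.mpr ⟨fun h => hqorb c hcq (h ▸ hz.1),
        Finset.mem_erase.mpr ⟨fun h => hporb c hcp (h ▸ hz.1), mem_fixedPts.mpr hz.2⟩⟩
    have h4 := Finset.card_le_card h2
    have h5 := Finset.card_le_card h3
    rw [Finset.card_pair hcc'] at h4
    rw [he] at h5
    rw [h11] at h1
    have h6 : 11 % 5 = ((orb K c).filter (fun z => y z = z)).card % 5 := h1
    omega
  have hS4 : ({p, q, c1, c2} : Finset GolayPt).card = 4 := by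
    rw [Finset.card_insert_of_notMem, Finset.card_insert_of_notMem, Finset.card_pair hc12]
    · simp [Ne.symm hc1q, Ne.symm hc2q]
    · simp [hpq, Ne.symm hc1p, Ne.symm hc2p]
  have hyS : ∀ z, y z = z → z ∈ ({p, q, c1, c2} : Finset GolayPt) := by
    intro z hyz
    by_cases hzp : z = p
    · simp [hzp]
    · by_cases hzq : z = q
      · simp [hzq]
      · rcases hyfix z hzp hzq hyz with h | h <;> simp [h]
  -- the stabilisers
  obtain ⟨K1, hK1def⟩ : ∃ K1, K1 = K ⊓ MulAction.stabilizer (Equiv.Perm GolayPt) c1 := ⟨_, rfl⟩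
  obtain ⟨K2, hK2def⟩ : ∃ K2, K2 = K ⊓ MulAction.stabilizer (Equiv.Perm GolayPt) c2 := ⟨_, rfl⟩
  obtain ⟨A, hAdef⟩ : ∃ A, A = K1 ⊓ MulAction.stabilizer (Equiv.Perm GolayPt) c2 := ⟨_, rfl⟩
  have hK1 : K1 ≤ K := by rw [hK1def]; exact inf_le_left
  have hK2 : K2 ≤ K := by rw [hK2def]; exact inf_le_left
  have hK1c : ∀ k ∈ K1, k c1 = c1 := by
    rw [hK1def]; exact fun k hk => MulAction.mem_stabilizer_iff.mp hk.2
  have hK2c : ∀ k ∈ K2, k c2 = c2 := by
    rw [hK2def]; exact fun k hk => MulAction.mem_stabilizer_iff.mp hk.2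
  have hAK1 : A ≤ K1 := by rw [hAdef]; exact inf_le_left
  have hAc : ∀ k ∈ A, k c2 = c2 := by
    rw [hAdef]; exact fun k hk => MulAction.mem_stabilizer_iff.mp hk.2
  have hAK2 : A ≤ K2 := by
    intro k hk
    rw [hK2def]
    exact ⟨hK1 (hAK1 hk), MulAction.mem_stabilizer_iff.mpr (hAc k hk)⟩
  have hyA : y ∈ A := by
    rw [hAdef, hK1def]
    exact ⟨⟨hyK, MulAction.mem_stabilizer_iff.mpr hyc1⟩, MulAction.mem_stabilizer_iff.mpr hyc2⟩
  have hAS : ∀ k ∈ A, ∀ z ∈ ({p, q, c1, c2} : Finset GolayPt), k z = z := by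
    intro k hk z hz
    simp only [Finset.mem_insert, Finset.mem_singleton] at hz
    rcases hz with hz | hz | hz | hz
    · rw [hz]; exact hp k (hK1 (hAK1 hk))
    · rw [hz]; exact hq k (hK1 (hAK1 hk))
    · rw [hz]; exact hK1c k (hAK1 hk)
    · rw [hz]; exact hAc k hk
  have hmul1 := card_eq_mul_orb K c1
  have hmul2 := card_eq_mul_orb K1 c2
  rw [← hK1def, hcard] at hmul1
  rw [← hAdef] at hmul2
  obtain ⟨X, hXdef⟩ : ∃ X, X = (orb K1 c2).erase c2 := ⟨_, rfl⟩
  have hXinv : ∀ k ∈ A, ∀ z ∈ X, k z ∈ X := by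
    intro k hk z hz
    rw [hXdef, Finset.mem_erase] at hz ⊢
    exact ⟨fun h => hz.1 (k.injective (h.trans (hAc k hk).symm)), apply_mem_orb hz.2 (hAK1 hk)⟩
  have hSX : Disjoint ({p, q, c1, c2} : Finset GolayPt) X := by
    rw [Finset.disjoint_left]
    intro z hz hz'
    rw [hXdef, Finset.mem_erase] at hz'
    simp only [Finset.mem_insert, Finset.mem_singleton] at hz
    rcases hz with hz | hz | hz | hz
    · rw [hz] at hz'
      exact notMem_orb_of_fixed (fun k hk => hp k (hK1 hk)) (Ne.symm hc2p) hz'.2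
    · rw [hz] at hz'
      exact notMem_orb_of_fixed (fun k hk => hq k (hK1 hk)) (Ne.symm hc2q) hz'.2
    · rw [hz] at hz'
      exact notMem_orb_of_fixed hK1c hc12 hz'.2
    · exact hz'.1 hz
  rcases hK11 c1 hc1p hc1q with h1 | h1
  · -- two orbits of eleven points
    have hn := hsep c1 c2 hc1p hc1q hyc1 hyc2 hc12 h1
    have hs := hsum c1 c2 hc1p hc1q hc2p hc2q hn
    have h2 : (orb K c2).card = 11 := by
      rcases hK11 c2 hc2p hc2q with h | h <;> omega
    have h6 := stab_orbit hK hpq hp hq hcard hyK hy5 hc12 hc1p hc1q hc2p hc2q hyc1 hyc2 hyfix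
      (Or.inr ⟨h1, by omega⟩)
    rw [← hK1def] at h6
    rw [h1] at hmul1
    rw [h6] at hmul2
    have hA : Nat.card A = 120 := by omega
    have hsubΔ : orb K1 c2 ⊆ orb K c2 := by
      intro z hz
      obtain ⟨k, hk, hkz⟩ := mem_orb.mp hz
      exact mem_orb.mpr ⟨k, hK1 hk, hkz⟩
    refine three_trick ((hAK1.trans hK1).trans hK) (by rw [hA]; norm_num) {p, q, c1, c2} hAS hS4
      X (orb K c2 \ orb K1 c2) hXinv ?_ ?_ ?_ ?_ hSX ?_
    · intro k hk z hz
      rw [Finset.mem_sdiff] at hz ⊢
      refine ⟨apply_mem_orb hz.1 (hK1 (hAK1 hk)), fun h => hz.2 ?_⟩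
      exact (apply_mem_iff _ _ (orb_inv K1 c2) (hAK1 hk) z).mp h
    · rw [hXdef, Finset.card_erase_of_mem (self_mem_orb _ c2), h6]
    · rw [Finset.card_sdiff_of_subset hsubΔ, h2, h6]
    · rw [Finset.disjoint_left]
      intro z hz hz'
      rw [hXdef] at hz
      exact (Finset.mem_sdiff.mp hz').2 (Finset.mem_erase.mp hz).2
    · rw [Finset.disjoint_left]
      intro z hz hz'
      rw [Finset.mem_sdiff] at hz'
      simp only [Finset.mem_insert, Finset.mem_singleton] at hz
      rcases hz with hz | hz | hz | hz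
      · rw [hz] at hz'
        exact hporb c2 hc2p hz'.1
      · rw [hz] at hz'
        exact hqorb c2 hc2q hz'.1
      · rw [hz] at hz'
        exact hn (orb_symm hz'.1)
      · rw [hz] at hz'
        exact hz'.2 (self_mem_orb _ _)
  · rcases hK11 c2 hc2p hc2q with h2 | h2
    · have hn := hsep c2 c1 hc2p hc2q hyc2 hyc1 (Ne.symm hc12) h2
      have hs := hsum c2 c1 hc2p hc2q hc1p hc1q hn
      omega
    · have h6 := stab_orbit hK hpq hp hq hcard hyK hy5 hc12 hc1p hc1q hc2p hc2q hyc1 hyc2 hyfix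
        (Or.inl h1)
      have h6' := stab_orbit hK hpq hp hq hcard hyK hy5 (Ne.symm hc12) hc2p hc2q hc1p hc1q hyc2
        hyc1 (fun z hzp hzq hz => (hyfix z hzp hzq hz).symm) (Or.inl h2)
      rw [← hK1def] at h6
      rw [← hK2def] at h6'
      rw [h1] at hmul1
      rw [h6] at hmul2
      have hA : Nat.card A = 60 := by omega
      obtain ⟨X', hX'def⟩ : ∃ X', X' = (orb K2 c1).erase c1 := ⟨_, rfl⟩
      have hX'inv : ∀ k ∈ A, ∀ z ∈ X', k z ∈ X' := by
        intro k hk z hz
        rw [hX'def, Finset.mem_erase] at hz ⊢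
        exact ⟨fun h => hz.1 (k.injective (h.trans (hK1c k (hAK1 hk)).symm)),
          apply_mem_orb hz.2 (hAK2 hk)⟩
      have hSX' : Disjoint ({p, q, c1, c2} : Finset GolayPt) X' := by
        rw [Finset.disjoint_left]
        intro z hz hz'
        rw [hX'def, Finset.mem_erase] at hz'
        simp only [Finset.mem_insert, Finset.mem_singleton] at hz
        rcases hz with hz | hz | hz | hz
        · rw [hz] at hz'
          exact notMem_orb_of_fixed (fun k hk => hp k (hK2 hk)) (Ne.symm hc1p) hz'.2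
        · rw [hz] at hz'
          exact notMem_orb_of_fixed (fun k hk => hq k (hK2 hk)) (Ne.symm hc1q) hz'.2
        · exact hz'.1 hz
        · rw [hz] at hz'
          exact notMem_orb_of_fixed hK2c (Ne.symm hc12) hz'.2
      have hXc : X.card = 5 := by
        rw [hXdef, Finset.card_erase_of_mem (self_mem_orb _ c2), h6]
      have hX'c : X'.card = 5 := by
        rw [hX'def, Finset.card_erase_of_mem (self_mem_orb _ c1), h6']
      by_cases hd : Disjoint X X'
      · exact three_trick ((hAK1.trans hK1).trans hK) (by rw [hA]; norm_num) {p, q, c1, c2} hAS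
          hS4 X X' hXinv hX'inv hXc hX'c hd hSX hSX'
      · have hinter : ∀ k ∈ A, ∀ z ∈ X ∩ X', k z ∈ X ∩ X' := fun k hk z hz => by
          rw [Finset.mem_inter] at hz ⊢
          exact ⟨hXinv k hk z hz.1, hX'inv k hk z hz.2⟩
        have hm := inv_card_modEq hyA hy5 (X ∩ X') hinter
        have hempty : (X ∩ X').filter (fun z => y z = z) = ∅ := by
          rw [Finset.filter_eq_empty_iff]
          intro z hz hyz
          exact Finset.disjoint_left.mp hSX (hyS z hyz) (Finset.mem_inter.mp hz).1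
        rw [hempty, Finset.card_empty] at hm
        have hm' : (X ∩ X').card % 5 = 0 := hm
        have hpos : 0 < (X ∩ X').card := by
          rw [Finset.card_pos]
          exact Finset.not_disjoint_iff_nonempty_inter.mp hd
        have hle5 : (X ∩ X').card ≤ 5 := hXc ▸ Finset.card_le_card Finset.inter_subset_left
        have h5 : (X ∩ X').card = 5 := by omega
        have e1 : X ∩ X' = X :=
          Finset.eq_of_subset_of_card_le Finset.inter_subset_left (by rw [h5, hXc])
        have e2 : X ∩ X' = X' :=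
          Finset.eq_of_subset_of_card_le Finset.inter_subset_right (by rw [h5, hX'c])
        have hXX' : X = X' := e1.symm.trans e2
        have hΔ : orb K1 c2 = insert c2 X := by
          rw [hXdef]; exact (Finset.insert_erase (self_mem_orb K1 c2)).symm
        have hΔ' : orb K2 c1 = insert c1 X := by
          rw [hXX', hX'def]; exact (Finset.insert_erase (self_mem_orb K2 c1)).symm
        obtain ⟨B, hBdef⟩ : ∃ B, B = insert c1 (insert c2 X) := ⟨_, rfl⟩
        have hB1 : B = insert c1 (orb K1 c2) := by rw [hBdef, hΔ]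
        have hB2 : B = insert c2 (orb K2 c1) := by rw [hBdef, hΔ', Finset.insert_comm]
        have hB7 : B.card = 7 := by
          rw [hB1, Finset.card_insert_of_notMem (notMem_orb_of_fixed hK1c hc12), h6]
        have hK1L : K1 ≤ setStab K B := le_setStab hK1 (by
          rw [hB1]
          intro k hk z hz
          rw [Finset.mem_insert] at hz ⊢
          rcases hz with hz | hz
          · left; rw [hz]; exact hK1c k hk
          · right; exact apply_mem_orb hz hk)
        have hK2L : K2 ≤ setStab K B := le_setStab hK2 (by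
          rw [hB2]
          intro k hk z hz
          rw [Finset.mem_insert] at hz ⊢
          rcases hz with hz | hz
          · left; rw [hz]; exact hK2c k hk
          · right; exact apply_mem_orb hz hk)
        have horbL : orb (setStab K B) c1 = B := by
          apply Finset.Subset.antisymm
          · intro z hz
            obtain ⟨l, hl, hlz⟩ := mem_orb.mp hz
            rw [← hlz]
            exact apply_mem_of_setStab hl (by rw [hBdef]; exact Finset.mem_insert_self _ _)
          · intro z hz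
            rw [hB2, Finset.mem_insert] at hz
            rcases hz with hz | hz
            · obtain ⟨x0, hx0⟩ : X.Nonempty := by
                rw [← Finset.card_pos, hXc]; norm_num
              have hx0Δ : x0 ∈ orb K1 c2 := by rw [hΔ]; exact Finset.mem_insert_of_mem hx0
              have hx0Δ' : x0 ∈ orb K2 c1 := by rw [hΔ']; exact Finset.mem_insert_of_mem hx0
              obtain ⟨k2, hk2, hk2x⟩ := mem_orb.mp hx0Δ'
              obtain ⟨k1, hk1, hk1x⟩ := mem_orb.mp (orb_symm hx0Δ)
              rw [hz]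
              exact mem_orb.mpr ⟨k1 * k2, (setStab K B).mul_mem (hK1L hk1) (hK2L hk2), by
                show k1 (k2 c1) = c2
                rw [hk2x, hk1x]⟩
            · obtain ⟨k2, hk2, hk2x⟩ := mem_orb.mp hz
              exact mem_orb.mpr ⟨k2, hK2L hk2, hk2x⟩
        have h7 := orb_card_dvd (setStab K B) c1
        rw [horbL, hB7] at h7
        have h8 := Subgroup.card_dvd_of_le (setStab_le K B)
        rw [hcard] at h8
        have h9 := h7.trans h8
        revert h9
        decide

end order7920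

end Cfsg.Agent.Lib.Helper8.M22Sub
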