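import Cfsg.Agent.Lib.Helper8.PBAut
import Cfsg.Agent.Lib.Helper8.AutExt22
import Cfsg.Agent.Lib.Helper8.Idx276
import Cfsg.Agent.Lib.Helper8.M22Sub

/-!
The group of adjacency-preserving permutations of a strongly regular graph with parameters
`(100, 22, 0, 6)` has order `88704000`; the stabiliser of a vertex embeds in the group of
permutations of the 24 points fixing two of them, each element lying in `M24` up to the
transposition of the two points; consequently a vertex stabiliser has no subgroup of order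
`36960`, `9856` or `7920`.
-/

set_option autoImplicit false

namespace Cfsg.Agent.Lib.Helper8.HSGraph

open Cfsg Cfsg.Agent.Lib.Helper35.M24Fix Cfsg.Agent.Lib.Helper35.PermAut
  Cfsg.Agent.Lib.Helper35.M24Aut Cfsg.Agent.Lib.Helper8.M24Sub Cfsg.Agent.Lib.Helper8.M24Sub2
  Cfsg.Agent.Lib.Helper8.M22Sub Cfsg.Agent.Lib.Helper8.SRG100
  Cfsg.Agent.Lib.Helper8.DerivedPlane

section golay

/-- In a subgroup whose order is divisible by eleven exactly once and whose possible numbers
of subgroups of order eleven all leave an even normaliser, some involution normalises a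
subgroup of order eleven. -/
theorem sylow11_inv {K : Subgroup (Equiv.Perm GolayPt)} {n : ℕ} (hcard : Nat.card K = n)
    (hn : 0 < n) (h11 : 11 ∣ n) (h121 : ¬ 121 ∣ n)
    (hev : ∀ d : ℕ, d ≤ n / 11 → d ∣ n / 11 → d % 11 = 1 → 2 ∣ n / d) :
    ∃ P : Subgroup (Equiv.Perm GolayPt), P ≤ K ∧ Nat.card P = 11 ∧
      ∃ t ∈ K, orderOf t = 2 ∧ ∀ h ∈ P, t * h * t⁻¹ ∈ P := by
  have : Fact (Nat.Prime 11) := ⟨by norm_num⟩
  have : Fact (Nat.Prime 2) := ⟨by norm_num⟩
  have : Finite K := Nat.finite_of_card_ne_zero (by rw [hcard]; omega)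
  obtain ⟨P⟩ : Nonempty (Sylow 11 K) := inferInstance
  obtain ⟨k, hk⟩ := IsPGroup.iff_card.mp P.isPGroup'
  have hidx := (P : Subgroup K).card_mul_index
  have hnd := P.not_dvd_index
  rw [hcard] at hidx
  have hPc : Nat.card (P : Subgroup K) = 11 := by
    rw [hk] at hidx ⊢
    rcases k with _ | _ | k
    · rw [pow_zero, one_mul] at hidx
      rw [hidx] at hnd
      exact absurd h11 hnd
    · norm_num
    · exfalso
      exact h121 ⟨11 ^ k * (P : Subgroup K).index, by rw [← hidx]; ring⟩
  rw [hPc] at hidx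
  have hidx' : (P : Subgroup K).index = n / 11 := by omega
  have h1 := card_sylow_modEq_one 11 K
  have h2 := P.card_dvd_index
  have h3 := P.card_eq_index_normalizer
  rw [hidx'] at h2
  have h4 := (Subgroup.normalizer (P : Set K)).card_mul_index
  rw [← h3, hcard] at h4
  have h5 : Nat.card (Sylow 11 K) % 11 = 1 := h1
  have hpos : 0 < n / 11 := Nat.div_pos (Nat.le_of_dvd hn h11) (by norm_num)
  have heven : 2 ∣ Nat.card (Subgroup.normalizer (P : Set K)) := by
    have h6 := hev _ (Nat.le_of_dvd hpos h2) h2 h5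
    have hd : 0 < Nat.card (Sylow 11 K) := Nat.card_pos
    have h7 : Nat.card (Subgroup.normalizer (P : Set K)) = n / Nat.card (Sylow 11 K) := by
      rw [← h4, Nat.mul_div_cancel _ hd]
    rw [h7]
    exact h6
  obtain ⟨t, ht⟩ := exists_prime_orderOf_dvd_card'
    (G := ↥(Subgroup.normalizer (P : Set K))) 2 heven
  refine ⟨(P : Subgroup K).map K.subtype, Subgroup.map_subtype_le _, ?_,
    ((t : K) : Equiv.Perm GolayPt), (t : K).2, ?_, ?_⟩
  · rw [Subgroup.card_map_of_injective (Subgroup.subtype_injective _), hPc]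
  · rw [Subgroup.orderOf_coe, Subgroup.orderOf_coe, ht]
  · rintro _ ⟨h, hh, rfl⟩
    have := (Subgroup.mem_set_normalizer_iff.mp t.2 h).mp hh
    exact ⟨_, this, rfl⟩

/-- No subgroup of `M24` fixing two points has an order as in `sylow11_inv`. -/
theorem no_even11 {K : Subgroup (Equiv.Perm GolayPt)} (hK : K ≤ M24) {p q : GolayPt}
    (hpq : p ≠ q) (hp : ∀ k ∈ K, k p = p) (hq : ∀ k ∈ K, k q = q) {n : ℕ}
    (hcard : Nat.card K = n) (hn : 0 < n) (h11 : 11 ∣ n) (h121 : ¬ 121 ∣ n)
    (hev : ∀ d : ℕ, d ≤ n / 11 → d ∣ n / 11 → d % 11 = 1 → 2 ∣ n / d) : False := by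
  obtain ⟨P, hPK, hPc, t, htK, ht2, hN⟩ := sylow11_inv hcard hn h11 h121 hev
  exact no_inv_normalizing (hPK.trans hK) hPc hpq (fun h hh => hp h (hPK hh))
    (fun h hh => hq h (hPK hh)) (hK htK) ht2 (hp t htK) (hq t htK) hN

end golay

/-- A subgroup each of whose elements lies in `M` up to left multiplication by a fixed
element meets `M` in itself or in a subgroup of index two. -/
theorem half_or_all {Γ : Type*} [Group Γ] (K M : Subgroup Γ) [Finite K] (s : Γ)
    (h : ∀ k ∈ K, k ∈ M ∨ s * k ∈ M) :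
    Nat.card ↥(K ⊓ M) = Nat.card K ∨ 2 * Nat.card ↥(K ⊓ M) = Nat.card K := by
  have hc : Nat.card (M.subgroupOf K) = Nat.card ↥(K ⊓ M) := by
    rw [← Subgroup.inf_subgroupOf_left M K]
    exact Nat.card_congr (Subgroup.subgroupOfEquivOfLe inf_le_left).toEquiv
  by_cases hKM : K ≤ M
  · left
    rw [inf_eq_left.mpr hKM]
  · right
    obtain ⟨k₁, hk₁, hk₁M⟩ := Set.not_subset.mp hKM
    have hsk : s * k₁ ∈ M := (h k₁ hk₁).resolve_left hk₁M
    have hidx : (M.subgroupOf K).index = 2 := by
      rw [Subgroup.index_eq_two_iff]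
      refine ⟨⟨k₁, hk₁⟩, fun b => ?_⟩
      rw [Subgroup.mem_subgroupOf, Subgroup.mem_subgroupOf]
      show Xor' ((b : Γ) * k₁ ∈ M) ((b : Γ) ∈ M)
      by_cases hb : (b : Γ) ∈ M
      · refine Or.inr ⟨hb, fun hbk => hk₁M ?_⟩
        have := M.mul_mem (M.inv_mem hb) hbk
        rwa [inv_mul_cancel_left] at this
      · refine Or.inl ⟨?_, hb⟩
        have hb' : (b : Γ)⁻¹ ∉ M := fun h' => hb (by simpa using M.inv_mem h')
        have h1 : s * (b : Γ)⁻¹ ∈ M := (h _ (K.inv_mem b.2)).resolve_left hb'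
        have h2 := M.mul_mem (M.inv_mem h1) hsk
        have h3 : (s * (b : Γ)⁻¹)⁻¹ * (s * k₁) = (b : Γ) * k₁ := by group
        rwa [h3] at h2
    have h1 := (M.subgroupOf K).card_mul_index
    rw [hidx, hc] at h1
    omega

section graph

variable {V : Type*} (G : SimpleGraph V)

/-- The adjacency-preserving permutations of the vertices. -/
def autP : Subgroup (Equiv.Perm V) where
  carrier := {π | ∀ u v, G.Adj (π u) (π v) ↔ G.Adj u v}
  mul_mem' := fun {a b} ha hb u v => (ha (b u) (b v)).trans (hb u v)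
  one_mem' := fun _ _ => Iff.rfl
  inv_mem' := fun {a} ha u v => by
    have := ha (a⁻¹ u) (a⁻¹ v)
    simp only [Equiv.Perm.coe_inv, Equiv.apply_symm_apply] at this
    exact this.symm

theorem mem_autP {π : Equiv.Perm V} : π ∈ autP G ↔ ∀ u v, G.Adj (π u) (π v) ↔ G.Adj u v :=
  Iff.rfl

/-- The adjacency-preserving permutations are the graph automorphisms. -/
def autPEquiv : ↥(autP G) ≃ (G ≃g G) where
  toFun π := ⟨π.1, fun {u v} => π.2 u v⟩
  invFun e := ⟨e.toEquiv, fun _ _ => e.map_rel_iff⟩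
  left_inv _ := rfl
  right_inv _ := rfl

end graph

section srg

variable {V : Type*} [Fintype V] [DecidableEq V] {G : SimpleGraph V} [DecidableRel G.Adj]

theorem card_nbr (h : Loc G) (x : V) : Fintype.card {p : V // G.Adj x p} = 22 := by
  rw [Fintype.card_subtype]
  have h1 := h.deg x
  rwa [SimpleGraph.neighborFinset_eq_filter] at h1

/-- The group of adjacency-preserving permutations has order `88704000`. -/
theorem card_autP (h : Loc G) : Nat.card (autP G) = 88704000 := by
  have hne : Nonempty V := by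
    rw [← Fintype.card_pos_iff, h.card]
    norm_num
  obtain ⟨x⟩ := hne
  have hB := design_steiner h x
  have hα := card_nbr h x
  let e : G ≃g Cfsg.pointBlockGraph (design G x) :=
    ⟨Equiv.ofBijective (toPB G x) ⟨toPB_inj h x, toPB_surj x⟩,
      fun {u u'} => toPB_adj h x hB u u'⟩
  rw [Nat.card_congr (autPEquiv G), ← Cfsg.Agent.Lib.Helper8.PBAut.card_aut hα hB]
  apply Nat.card_congr
  exact
    { toFun := fun f => e.symm.trans (f.trans e)
      invFun := fun g => e.trans (g.trans e.symm)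
      left_inv := fun f => by ext u; simp
      right_inv := fun g => by ext u; simp }

/-- Restriction of a subgroup fixing `x` to the neighbours of `x`. -/
def resN {S : Subgroup (Equiv.Perm V)} (hS : S ≤ autP G) {x : V} (hx : ∀ s ∈ S, s x = x) :
    S →* Equiv.Perm {p : V // G.Adj x p} :=
  MonoidHom.mk' (fun s => (s : Equiv.Perm V).subtypePerm (fun p => by
    have h1 := hS s.2 x p
    rw [hx s s.2] at h1
    exact h1)) (fun a b => by ext p; rfl)

omit [Fintype V] [DecidableEq V] [DecidableRel G.Adj] in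
theorem resN_apply {S : Subgroup (Equiv.Perm V)} (hS : S ≤ autP G) {x : V}
    (hx : ∀ s ∈ S, s x = x) (s : S) (p : {p : V // G.Adj x p}) :
    ((resN hS hx s p : {p : V // G.Adj x p}) : V) = (s : Equiv.Perm V) p := rfl

theorem far_map {S : Subgroup (Equiv.Perm V)} (hS : S ≤ autP G) {x : V}
    (hx : ∀ s ∈ S, s x = x) (s : S) {v : V} (hv : v ∈ far G x) :
    (s : Equiv.Perm V) v ∈ far G x := by
  rw [mem_far] at hv ⊢
  refine ⟨fun h => hv.1 ((s : Equiv.Perm V).injective (h.trans (hx s s.2).symm)),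
    fun h => hv.2 ?_⟩
  have h1 := hS s.2 x v
  rw [hx s s.2] at h1
  exact h1.1 h

theorem blk_image {S : Subgroup (Equiv.Perm V)} (hS : S ≤ autP G) {x : V}
    (hx : ∀ s ∈ S, s x = x) (s : S) (v : V) :
    (blk G x v).image (resN hS hx s) = blk G x ((s : Equiv.Perm V) v) := by
  ext q
  rw [Finset.mem_image, mem_blk]
  constructor
  · rintro ⟨p, hp, rfl⟩
    rw [mem_blk] at hp
    exact (hS s.2 v p).2 hp
  · intro hq
    refine ⟨(resN hS hx s).symm q, ?_, Equiv.apply_symm_apply _ _⟩
    rw [mem_blk]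
    apply (hS s.2 v _).1
    have h1 : (s : Equiv.Perm V) (((resN hS hx s).symm q : {p : V // G.Adj x p}) : V) = q := by
      rw [← resN_apply hS hx, Equiv.apply_symm_apply]
    rw [h1]
    exact hq

theorem resN_mem {S : Subgroup (Equiv.Perm V)} (hS : S ≤ autP G) {x : V}
    (hx : ∀ s ∈ S, s x = x) (s : S) : resN hS hx s ∈ Cfsg.setSystemAut (design G x) := by
  have key : ∀ (t : S), ∀ b ∈ design G x, b.image (resN hS hx t) ∈ design G x := by
    rintro t _ ⟨v, hv, rfl⟩
    exact ⟨(t : Equiv.Perm V) v, far_map hS hx t hv, (blk_image hS hx t v).symm⟩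
  apply Cfsg.Agent.Lib.Helper8.AutExt23.aut_of_iff
  intro T
  constructor
  · intro hT
    have h1 := key s⁻¹ _ hT
    rw [Finset.image_image, map_inv] at h1
    have h2 : (⇑(resN hS hx s)⁻¹ ∘ ⇑(resN hS hx s)) = id := by
      funext p
      simp
    rwa [h2, Finset.image_id] at h1
  · exact key s T

theorem resN_injective (h : Loc G) {S : Subgroup (Equiv.Perm V)} (hS : S ≤ autP G) {x : V}
    (hx : ∀ s ∈ S, s x = x) : Function.Injective (resN hS hx) := by
  rw [injective_iff_map_eq_one]
  intro s hs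
  apply Subtype.ext
  ext v
  show (s : Equiv.Perm V) v = v
  rcases tri G x v with hv | hv | hv
  · rw [hv]
    exact hx s s.2
  · exact congrArg (fun f : Equiv.Perm {p : V // G.Adj x p} =>
      ((f ⟨v, hv⟩ : {p : V // G.Adj x p}) : V)) hs
  · have hv' := far_map hS hx s hv
    apply toPB_inj h x
    rw [toPB_N hv', toPB_N hv]
    refine congrArg (fun b => some (Sum.inr b)) (Subtype.ext ?_)
    show blk G x ((s : Equiv.Perm V) v) = blk G x v
    rw [← blk_image hS hx s v, hs]
    simp

/-- The embedding of a subgroup fixing a vertex into the permutations of the 24 points. -/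
theorem exists_kap (h : Loc G) (x : V) (S : Subgroup (Equiv.Perm V)) (hS : S ≤ autP G)
    (hx : ∀ s ∈ S, s x = x) :
    ∃ κ : S →* Equiv.Perm GolayPt, Function.Injective κ ∧ (∀ s, κ s none = none) ∧
      (∀ s, κ s (some 0) = some 0) ∧
      ∀ s, κ s ∈ M24 ∨ Equiv.swap (none : GolayPt) (some 0) * κ s ∈ M24 := by
  have hpq : (none : GolayPt) ≠ some 0 := by simp
  have hJ : ({none, some 0} : Finset GolayPt).card = 2 := Finset.card_pair hpq
  have h24 : Fintype.card GolayPt = 24 := by rw [Fintype.card_option, ZMod.card]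
  have hB := design_steiner h x
  have hα := card_nbr h x
  have hB₀ : Cfsg.IsSteinerSystem 3 6 (lines ({none, some 0} : Finset GolayPt) Cfsg.octads) :=
    derived (j := 2) hJ Cfsg.Agent.S0363.result
  have hco : Fintype.card (Co ({none, some 0} : Finset GolayPt)) = 22 := by
    rw [card_co, hJ, h24]
  obtain ⟨φ, hφ⟩ := Cfsg.Agent.Lib.Helper8.SteinerUniq.u22 hα hB
  obtain ⟨φ', hφ'⟩ := Cfsg.Agent.Lib.Helper8.SteinerUniq.u22 hco hB₀
  have hiso := Cfsg.Agent.Lib.Helper8.Plane4Model.iso_of_model φ φ' hφ hφ'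
  let κ : S →* Equiv.Perm GolayPt :=
    (Equiv.Perm.ofSubtype).comp (((φ.trans φ'.symm).permCongrHom).toMonoidHom.comp (resN hS hx))
  have hκ : ∀ s, κ s = Equiv.Perm.ofSubtype
      ((φ.trans φ'.symm).symm.trans ((resN hS hx s).trans (φ.trans φ'.symm))) := fun s => rfl
  refine ⟨κ, ?_, ?_, ?_, ?_⟩
  · exact Equiv.Perm.ofSubtype_injective.comp
      (((φ.trans φ'.symm).permCongrHom).injective.comp (resN_injective h hS hx))
  · intro s
    exact Equiv.Perm.ofSubtype_apply_of_not_mem _ (not_not.2 (by simp))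
  · intro s
    exact Equiv.Perm.ofSubtype_apply_of_not_mem _ (not_not.2 (by simp))
  · intro s
    have hmem : (φ.trans φ'.symm).symm.trans ((resN hS hx s).trans (φ.trans φ'.symm))
        ∈ Cfsg.setSystemAut (lines ({none, some 0} : Finset GolayPt) Cfsg.octads) :=
      Cfsg.Agent.Lib.Helper8.AutTransport.conj_mem (φ.trans φ'.symm) hiso (resN_mem hS hx s)
    rw [Cfsg.Agent.S0369.result, hκ]
    exact Cfsg.Agent.Lib.Helper8.AutExt22.lift_or h24 Cfsg.Agent.S0363.result hpq hmem

/-- A vertex stabiliser has no subgroup of order `36960`, `9856` or `7920`. -/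
theorem no_small_sub (h : Loc G) (x : V) (S : Subgroup (Equiv.Perm V)) (hS : S ≤ autP G)
    (hx : ∀ s ∈ S, s x = x)
    (hc : Nat.card S = 36960 ∨ Nat.card S = 9856 ∨ Nat.card S = 7920) : False := by
  obtain ⟨κ, hinj, hp, hq, hM⟩ := exists_kap h x S hS hx
  have hpq : (none : GolayPt) ≠ some 0 := by simp
  have hKc : Nat.card κ.range = Nat.card S :=
    (Nat.card_congr (MonoidHom.ofInjective hinj).toEquiv).symm
  have hKp : ∀ k ∈ κ.range, k none = none := by
    rintro _ ⟨s, rfl⟩
    exact hp s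
  have hKq : ∀ k ∈ κ.range, k (some 0) = some 0 := by
    rintro _ ⟨s, rfl⟩
    exact hq s
  have hKM : ∀ k ∈ κ.range, k ∈ M24 ∨ Equiv.swap (none : GolayPt) (some 0) * k ∈ M24 := by
    rintro _ ⟨s, rfl⟩
    exact hM s
  have hL : (κ.range ⊓ M24) ≤ M24 := inf_le_right
  have hLp : ∀ k ∈ κ.range ⊓ M24, k none = none := fun k hk => hKp k hk.1
  have hLq : ∀ k ∈ κ.range ⊓ M24, k (some 0) = some 0 := fun k hk => hKq k hk.1
  rcases half_or_all κ.range M24 _ hKM with h1 | h1 <;> rw [hKc] at h1
  · rcases hc with hc | hc | hc <;> rw [hc] at h1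
    · exact Cfsg.Agent.Lib.Helper8.Idx276.no_36960 hL hLp h1
    · exact no_even11 hL hpq hLp hLq h1 (by norm_num) (by decide) (by decide)
        (by decide +kernel)
    · exact no_7920 hL hpq hLp hLq h1
  · rcases hc with hc | hc | hc <;> rw [hc] at h1
    · have h2 : Nat.card ↥(κ.range ⊓ M24) = 18480 := by omega
      exact no_even11 hL hpq hLp hLq h2 (by norm_num) (by decide) (by decide)
        (by decide +kernel)
    · have h2 : Nat.card ↥(κ.range ⊓ M24) = 4928 := by omega
      exact no_even11 hL hpq hLp hLq h2 (by norm_num) (by decide) (by decide)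
        (by decide +kernel)
    · have h2 : Nat.card ↥(κ.range ⊓ M24) = 3960 := by omega
      exact no_even11 hL hpq hLp hLq h2 (by norm_num) (by decide) (by decide)
        (by decide +kernel)

end srg

end Cfsg.Agent.Lib.Helper8.HSGraph
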