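import Cfsg.Agent.Lib.Helper8.HSRank3
import Cfsg.Agent.S1583
import Cfsg.Agent.S1584
import Cfsg.Agent.S0405
import Cfsg.Prelude.Def_Spor_Conway

/-!
The Higman-Sims group inside the automorphism group of the lattice acts faithfully as a rank
three group on one hundred lattice vectors; the graph of pairs of vectors with inner product
`8` is strongly regular with parameters `(100, 22, 0, 6)`.  Hence the outer automorphism group
has order two.
-/

set_option autoImplicit false

namespace Cfsg.Agent.Lib.Helper8.HSLeech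

open Cfsg Cfsg.Agent.Lib.Helper8.SRG100 Cfsg.Agent.Lib.Helper8.HSGraph
  Cfsg.Agent.Lib.Helper8.HSRank3 Cfsg.Agent.Lib.Helper8.Rank3Aut
  Cfsg.Agent.Lib.Helper27.CoGlue Cfsg.Agent.Lib.Helper27.Co0Act
open MulAction

section loc

variable {V : Type*} [Fintype V] [DecidableEq V] (Γ : SimpleGraph V) [DecidableRel Γ.Adj]

/-- A triangle-free regular graph of valency `22` on `100` vertices whose vertex stabilisers
are transitive on the non-neighbours has the local counts of a strongly regular graph with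
parameters `(100, 22, 0, 6)`. -/
theorem loc_of_rank3 (hcard : Fintype.card V = 100)
    (hdeg : ∀ v, (Γ.neighborFinset v).card = 22)
    (htri : ∀ x y z, Γ.Adj x y → Γ.Adj x z → ¬ Γ.Adj y z)
    (hfar : ∀ x z z', z ≠ x → z' ≠ x → ¬ Γ.Adj x z → ¬ Γ.Adj x z' →
      ∃ π : Equiv.Perm V, (∀ a b, Γ.Adj (π a) (π b) ↔ Γ.Adj a b) ∧ π x = x ∧ π z = z') :
    Loc Γ := by
  have hadj : ∀ v w, Γ.Adj v w → Γ.neighborFinset v ∩ Γ.neighborFinset w = ∅ := by
    intro v w hvw
    rw [Finset.eq_empty_iff_forall_notMem]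
    intro u hu
    rw [Finset.mem_inter, SimpleGraph.mem_neighborFinset, SimpleGraph.mem_neighborFinset] at hu
    exact htri u v w hu.1.symm hu.2.symm hvw
  refine ⟨hcard, hdeg, hadj, ?_⟩
  intro x z hxz hnadj
  have hfarc : (far Γ x).card = 77 := by
    have h1 : (Finset.univ : Finset V) = insert x (Γ.neighborFinset x ∪ far Γ x) := by
      ext v
      simp only [Finset.mem_univ, Finset.mem_insert, Finset.mem_union,
        SimpleGraph.mem_neighborFinset, mem_far, true_iff]
      tauto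
    have h2 : x ∉ Γ.neighborFinset x ∪ far Γ x := by
      simp [mem_far]
    have h3 : Disjoint (Γ.neighborFinset x) (far Γ x) := by
      rw [Finset.disjoint_left]
      intro v hv hv'
      rw [mem_far] at hv'
      exact hv'.2 ((Γ.mem_neighborFinset x v).1 hv)
    have h4 := congrArg Finset.card h1
    rw [Finset.card_univ, hcard, Finset.card_insert_of_notMem h2,
      Finset.card_union_of_disjoint h3, hdeg] at h4
    omega
  have hmono : ∀ z z', z ≠ x → z' ≠ x → ¬ Γ.Adj x z → ¬ Γ.Adj x z' →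
      (Γ.neighborFinset x ∩ Γ.neighborFinset z).card
        ≤ (Γ.neighborFinset x ∩ Γ.neighborFinset z').card := by
    intro z z' hz hz' hn hn'
    obtain ⟨π, hπ, hπx, hπz⟩ := hfar x z z' hz hz' hn hn'
    rw [← Finset.card_image_of_injective _ π.injective]
    apply Finset.card_le_card
    intro u hu
    obtain ⟨t, ht, rfl⟩ := Finset.mem_image.mp hu
    rw [Finset.mem_inter, SimpleGraph.mem_neighborFinset, SimpleGraph.mem_neighborFinset]
      at ht ⊢
    constructor
    · have h := (hπ x t).2 ht.1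
      rwa [hπx] at h
    · have h := (hπ z t).2 ht.2
      rwa [hπz] at h
  have hconst : ∀ z' ∈ far Γ x, (Γ.neighborFinset x ∩ Γ.neighborFinset z').card
      = (Γ.neighborFinset x ∩ Γ.neighborFinset z).card := by
    intro z' hz'
    rw [mem_far] at hz'
    exact le_antisymm (hmono z' z hz'.1 hxz.symm hz'.2 hnadj)
      (hmono z z' hxz.symm hz'.1 hnadj hz'.2)
  have hsum : ∑ z' ∈ far Γ x, (Γ.neighborFinset x ∩ Γ.neighborFinset z').card = 462 := by
    have hf : ∀ z', (Γ.neighborFinset x ∩ Γ.neighborFinset z').card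
        = ∑ y ∈ Γ.neighborFinset x, (if Γ.Adj z' y then 1 else 0) := by
      intro z'
      rw [← Finset.card_filter]
      congr 1
      ext y
      rw [Finset.mem_inter, Finset.mem_filter, SimpleGraph.mem_neighborFinset,
        SimpleGraph.mem_neighborFinset]
    simp only [hf]
    rw [Finset.sum_comm]
    have h1 : ∀ y ∈ Γ.neighborFinset x,
        ∑ z' ∈ far Γ x, (if Γ.Adj z' y then 1 else 0) = 21 := by
      intro y hy
      rw [SimpleGraph.mem_neighborFinset] at hy
      rw [← Finset.card_filter]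
      have h2 : Γ.neighborFinset y = insert x ((far Γ x).filter (fun w => Γ.Adj w y)) := by
        ext u
        rw [SimpleGraph.mem_neighborFinset, Finset.mem_insert, Finset.mem_filter, mem_far]
        constructor
        · intro hu
          by_cases hux : u = x
          · exact Or.inl hux
          · exact Or.inr ⟨⟨hux, htri y x u hy.symm hu⟩, hu.symm⟩
        · rintro (hux | ⟨-, hu⟩)
          · rw [hux]
            exact hy.symm
          · exact hu.symm
      have h3 : x ∉ (far Γ x).filter (fun w => Γ.Adj w y) := by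
        simp [mem_far]
      have h4 := hdeg y
      rw [h2, Finset.card_insert_of_notMem h3] at h4
      omega
    rw [Finset.sum_congr rfl h1, Finset.sum_const, hdeg]
    rfl
  rw [Finset.sum_congr rfl hconst, Finset.sum_const, hfarc] at hsum
  simp only [smul_eq_mul] at hsum
  omega

end loc

/-- Counting the members of a finset of a subtype through the ambient type. -/
theorem card_eq_ncard {L : Type*} (X : Set L) (s : Finset ↥X) (T : Set L)
    (h : ∀ y : L, y ∈ T ↔ ∃ hy : y ∈ X, (⟨y, hy⟩ : ↥X) ∈ s) : s.card = T.ncard := by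
  have h1 : T = Subtype.val '' (s : Set ↥X) := by
    ext y
    rw [h y]
    constructor
    · rintro ⟨hy, hs⟩
      exact ⟨⟨y, hy⟩, hs, rfl⟩
    · rintro ⟨⟨y', hy'⟩, hs, rfl⟩
      exact ⟨hy', hs⟩
  rw [h1, Set.ncard_image_of_injective _ Subtype.val_injective, Set.ncard_coe_finset]

/-! ### The two vectors -/

/-- The second vector: minus the sum of the two vectors defining the group. -/
def wV : leechLattice := -(Cfsg.Spor.leechV + Cfsg.Spor.leechU')

theorem hv : sqNorm (Cfsg.Spor.leechV : GolayPt → ℤ) = 48 := by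
  show sqNorm Cfsg.Spor.vecV = 48
  decide

theorem hw : sqNorm (wV : GolayPt → ℤ) = 48 := by
  show sqNorm (-(Cfsg.Spor.vecV + Cfsg.Spor.vecU')) = 48
  decide

theorem hvw : dotInt (Cfsg.Spor.leechV : GolayPt → ℤ) (wV : GolayPt → ℤ) = -32 := by
  show dotInt Cfsg.Spor.vecV (-(Cfsg.Spor.vecV + Cfsg.Spor.vecU')) = -32
  decide

/-- The joint stabiliser of the two vectors. -/
abbrev A : Subgroup Co0 := stabilizer Co0 Cfsg.Spor.leechV ⊓ stabilizer Co0 wV

theorem A_v (g : A) : (g : Co0) • Cfsg.Spor.leechV = Cfsg.Spor.leechV :=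
  mem_stabilizer_iff.mp g.2.1

theorem A_w (g : A) : (g : Co0) • wV = wV := mem_stabilizer_iff.mp g.2.2

theorem mem_A {g : Co0} : g ∈ A ↔
    g • Cfsg.Spor.leechV = Cfsg.Spor.leechV ∧ g • wV = wV := by
  rw [Subgroup.mem_inf, mem_stabilizer_iff, mem_stabilizer_iff]

theorem hs_mem {f : Equiv.Perm leechLattice} : f ∈ Cfsg.Spor.HS ↔
    f ∈ Co0 ∧ f Cfsg.Spor.leechV = Cfsg.Spor.leechV ∧ f Cfsg.Spor.leechU' = Cfsg.Spor.leechU' := by
  show f ∈ (Co0 ⊓ stabilizer (Equiv.Perm leechLattice) Cfsg.Spor.leechV) ⊓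
    stabilizer (Equiv.Perm leechLattice) Cfsg.Spor.leechU' ↔ _
  rw [Subgroup.mem_inf, Subgroup.mem_inf, mem_stabilizer_iff, mem_stabilizer_iff]
  exact and_assoc

theorem hs_fix_w {f : Equiv.Perm leechLattice} (hf : f ∈ Cfsg.Spor.HS) : f wV = wV := by
  obtain ⟨h0, h1, h2⟩ := hs_mem.mp hf
  show f (-(Cfsg.Spor.leechV + Cfsg.Spor.leechU')) = -(Cfsg.Spor.leechV + Cfsg.Spor.leechU')
  rw [co0_neg h0, co0_add h0, h1, h2]

/-- The group of the statement is the joint stabiliser. -/
def hsEquiv : ↥Cfsg.Spor.HS ≃* ↥A where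
  toFun a := ⟨⟨a.1, (hs_mem.mp a.2).1⟩, mem_A.mpr ⟨(hs_mem.mp a.2).2.1, hs_fix_w a.2⟩⟩
  invFun b := ⟨b.1.1, hs_mem.mpr ⟨b.1.2, A_v b,
    Cfsg.Agent.Lib.Helper27.CoStd.fix_of_sum b.1 (A_v b) (A_w b)⟩⟩
  left_inv _ := rfl
  right_inv _ := rfl
  map_mul' _ _ := rfl

/-! ### The hundred vectors -/

/-- The hundred vectors. -/
def X : Set leechLattice :=
  {x : leechLattice | sqNorm (x : GolayPt → ℤ) = 32 ∧
    dotInt (Cfsg.Spor.leechV : GolayPt → ℤ) (x : GolayPt → ℤ) = 24 ∧
    dotInt (wV : GolayPt → ℤ) (x : GolayPt → ℤ) = -24}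

theorem ncard_X : X.ncard = 100 := (Cfsg.Agent.S1583.result _ _ hv hw hvw).1

theorem finite_X : X.Finite := Set.finite_of_ncard_ne_zero (by rw [ncard_X]; norm_num)

theorem smul_mem_X (g : Co0) (hgv : g • Cfsg.Spor.leechV = Cfsg.Spor.leechV) (hgw : g • wV = wV)
    {x : leechLattice} (hx : x ∈ X) : g • x ∈ X := by
  obtain ⟨h1, h2, h3⟩ := hx
  refine ⟨?_, ?_, ?_⟩
  · rw [smul_norm]
    exact h1
  · have h := smul_dot g Cfsg.Spor.leechV x
    rw [hgv] at h
    rw [h]
    exact h2
  · have h := smul_dot g wV x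
    rw [hgw] at h
    rw [h]
    exact h3

/-- The action on the hundred vectors. -/
def rho : ↥A →* Equiv.Perm ↥X where
  toFun g :=
    { toFun := fun x => ⟨(g : Co0) • (x : leechLattice), smul_mem_X _ (A_v g) (A_w g) x.2⟩
      invFun := fun x => ⟨((g⁻¹ : A) : Co0) • (x : leechLattice),
        smul_mem_X _ (A_v g⁻¹) (A_w g⁻¹) x.2⟩
      left_inv := fun x => Subtype.ext (by
        show ((g⁻¹ : A) : Co0) • ((g : Co0) • (x : leechLattice)) = x
        rw [Subgroup.coe_inv, inv_smul_smul])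
      right_inv := fun x => Subtype.ext (by
        show (g : Co0) • (((g⁻¹ : A) : Co0) • (x : leechLattice)) = x
        rw [Subgroup.coe_inv, smul_inv_smul]) }
  map_one' := by
    apply Equiv.ext
    intro x
    apply Subtype.ext
    show (((1 : A) : Co0) • (x : leechLattice) : leechLattice) = x
    rw [Subgroup.coe_one, one_smul]
  map_mul' a b := by
    apply Equiv.ext
    intro x
    apply Subtype.ext
    show (((a * b : A) : Co0) • (x : leechLattice) : leechLattice)
      = (a : Co0) • ((b : Co0) • (x : leechLattice))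
    rw [Subgroup.coe_mul, mul_smul]

theorem rho_apply (g : A) (x : ↥X) :
    ((rho g x : ↥X) : leechLattice) = (g : Co0) • (x : leechLattice) := rfl

/-- The graph on the hundred vectors: inner product `8`. -/
def gr : SimpleGraph ↥X where
  Adj x y := dotInt ((x : leechLattice) : GolayPt → ℤ) ((y : leechLattice) : GolayPt → ℤ) = 8
  symm := ⟨fun x y h => by
    show dotInt ((y : leechLattice) : GolayPt → ℤ) ((x : leechLattice) : GolayPt → ℤ) = 8
    rw [dot_comm]
    exact h⟩
  loopless := ⟨fun x h => by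
    have h1 : dotInt ((x : leechLattice) : GolayPt → ℤ) ((x : leechLattice) : GolayPt → ℤ) = 8 := h
    rw [← sqNorm_eq_dot, x.2.1] at h1
    exact absurd h1 (by norm_num)⟩

theorem gr_adj (x y : ↥X) : gr.Adj x y ↔
    dotInt ((x : leechLattice) : GolayPt → ℤ) ((y : leechLattice) : GolayPt → ℤ) = 8 := Iff.rfl

theorem rho_adj (g : A) (x y : ↥X) : gr.Adj (rho g x) (rho g y) ↔ gr.Adj x y := by
  rw [gr_adj, gr_adj, rho_apply, rho_apply, smul_dot]

/-- Expansion of the sum of squares of a combination of five vectors. -/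
theorem sq5 (x y z v w : GolayPt → ℤ) : sqNorm (x + y + z - v + w)
    = sqNorm x + sqNorm y + sqNorm z + sqNorm v + sqNorm w + 2 * dotInt x y + 2 * dotInt x z
      + 2 * dotInt y z - 2 * dotInt v x - 2 * dotInt v y - 2 * dotInt v z + 2 * dotInt w x
      + 2 * dotInt w y + 2 * dotInt w z - 2 * dotInt v w := by
  unfold sqNorm dotInt
  simp only [Finset.mul_sum, ← Finset.sum_add_distrib, ← Finset.sum_sub_distrib]
  apply Finset.sum_congr rfl
  intro i _
  simp only [Pi.add_apply, Pi.sub_apply]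
  ring

/-- The graph has no triangles. -/
theorem gr_tri (x y z : ↥X) (hxy : gr.Adj x y) (hxz : gr.Adj x z) : ¬ gr.Adj y z := by
  intro hyz
  rw [gr_adj] at hxy hxz hyz
  have hmem : ((x : leechLattice) : GolayPt → ℤ) + ((y : leechLattice) : GolayPt → ℤ)
      + ((z : leechLattice) : GolayPt → ℤ) - (Cfsg.Spor.leechV : GolayPt → ℤ)
      + (wV : GolayPt → ℤ) ∈ leechLattice :=
    leechLattice.add_mem (leechLattice.sub_mem (leechLattice.add_mem
      (leechLattice.add_mem (x : leechLattice).2 (y : leechLattice).2) (z : leechLattice).2)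
      Cfsg.Spor.leechV.2) wV.2
  have h16 : sqNorm (((x : leechLattice) : GolayPt → ℤ) + ((y : leechLattice) : GolayPt → ℤ)
      + ((z : leechLattice) : GolayPt → ℤ) - (Cfsg.Spor.leechV : GolayPt → ℤ)
      + (wV : GolayPt → ℤ)) = 16 := by
    rw [sq5, x.2.1, y.2.1, z.2.1, hv, hw, hxy, hxz, hyz, x.2.2.1, y.2.2.1, z.2.2.1, x.2.2.2,
      y.2.2.2, z.2.2.2, hvw]
    norm_num
  have hne : ((x : leechLattice) : GolayPt → ℤ) + ((y : leechLattice) : GolayPt → ℤ)
      + ((z : leechLattice) : GolayPt → ℤ) - (Cfsg.Spor.leechV : GolayPt → ℤ)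
      + (wV : GolayPt → ℤ) ≠ 0 := by
    intro h0
    rw [h0] at h16
    have : sqNorm (0 : GolayPt → ℤ) = 0 := by
      unfold sqNorm
      simp
    rw [this] at h16
    exact absurd h16 (by norm_num)
  have h32 := Cfsg.Agent.Lib.Helper92.LeechCore.min_norm hmem hne
  rw [h16] at h32
  exact absurd h32 (by norm_num)

/-! ### The rank three action -/

theorem card_X [Fintype ↥X] : Fintype.card ↥X = 100 := by
  rw [← Nat.card_eq_fintype_card, Nat.card_coe_set_eq, ncard_X]

theorem gr_deg [Fintype ↥X] [DecidableRel gr.Adj] (x : ↥X) :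
    (gr.neighborFinset x).card = 22 := by
  rw [card_eq_ncard X (gr.neighborFinset x) {y : leechLattice | y ∈ X ∧
    dotInt ((x : leechLattice) : GolayPt → ℤ) (y : GolayPt → ℤ) = 8} ?_]
  · exact (Cfsg.Agent.S1584.result _ _ x.1 hv hw hvw x.2).1
  · intro y
    constructor
    · rintro ⟨hy, hd⟩
      exact ⟨hy, (gr.mem_neighborFinset x ⟨y, hy⟩).2 hd⟩
    · rintro ⟨hy, hs⟩
      exact ⟨hy, (gr.mem_neighborFinset x ⟨y, hy⟩).1 hs⟩

theorem rho_trans (x y : ↥X) : ∃ π ∈ rho.range, π x = y := by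
  obtain ⟨g, hgv, hgw, hgx⟩ := (Cfsg.Agent.S1583.result _ _ hv hw hvw).2 x.1 x.2 y.1 y.2
  exact ⟨rho ⟨g, mem_A.mpr ⟨hgv, hgw⟩⟩, ⟨_, rfl⟩, Subtype.ext hgx⟩

theorem rho_rank (x y y' : ↥X) (hy : y ≠ x) (hy' : y' ≠ x) (h : gr.Adj x y ↔ gr.Adj x y') :
    ∃ π ∈ rho.range, π x = x ∧ π y = y' := by
  obtain ⟨g, hgv, hgw, hgx, hgy⟩ := (Cfsg.Agent.S1584.result _ _ x.1 hv hw hvw x.2).2.2
    y.1 y.2 y'.1 y'.2 (fun h => hy (Subtype.ext h)) (fun h => hy' (Subtype.ext h)) h
  exact ⟨rho ⟨g, mem_A.mpr ⟨hgv, hgw⟩⟩, ⟨_, rfl⟩, Subtype.ext hgx, Subtype.ext hgy⟩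

theorem range_le : rho.range ≤ autP gr := by
  rintro _ ⟨g, rfl⟩
  intro u v
  exact rho_adj g u v

theorem gr_loc [Fintype ↥X] [DecidableEq ↥X] [DecidableRel gr.Adj] : Loc gr := by
  apply loc_of_rank3 gr card_X gr_deg gr_tri
  intro x z z' hz hz' hn hn'
  obtain ⟨π, ⟨g, rfl⟩, hπx, hπz⟩ := rho_rank x z z' hz hz' (iff_of_false hn hn')
  exact ⟨rho g, rho_adj g, hπx, hπz⟩

theorem rho_injective : Function.Injective rho := by
  have hs : IsSimpleGroup ↥A := (Cfsg.Agent.S0405.result _ _ hv hw hvw).1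
  rw [← MonoidHom.ker_eq_bot_iff]
  rcases (MonoidHom.normal_ker rho).eq_bot_or_eq_top with h | h
  · exact h
  · exfalso
    obtain ⟨x, hx, y, hy, hxy⟩ := (Set.one_lt_ncard finite_X).mp (by rw [ncard_X]; norm_num)
    obtain ⟨π, ⟨g, rfl⟩, hπ⟩ := rho_trans ⟨x, hx⟩ ⟨y, hy⟩
    have h1 : g ∈ rho.ker := by
      rw [h]
      exact Subgroup.mem_top g
    rw [MonoidHom.mem_ker.mp h1] at hπ
    exact hxy (congrArg Subtype.val hπ)

theorem card_range : Nat.card rho.range = 44352000 := by
  rw [← Nat.card_congr (MonoidHom.ofInjective rho_injective).toEquiv]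
  exact (Cfsg.Agent.S0405.result _ _ hv hw hvw).2

/-- The outer automorphism group of the Higman-Sims group has order two. -/
theorem out_hs : Nat.card (Cfsg.Out ↥Cfsg.Spor.HS) = 2 := by
  classical
  have : Finite ↥X := finite_X.to_subtype
  let _ : Fintype ↥X := Fintype.ofFinite _
  rw [card_out_congr' (hsEquiv.trans (MonoidHom.ofInjective rho_injective))]
  exact out_rank3 gr_loc range_le rho_trans rho_rank card_range

end Cfsg.Agent.Lib.Helper8.HSLeech
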