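import Cfsg.Agent.Lib.Helper35.PermAut
import Cfsg.Prelude.Def_KGroupFacts

/-!
Automorphisms of a transitive permutation group in which every subgroup of index the degree
fixes a point are induced by permutations; a criterion for the outer automorphism group to
have order two; invariance of the order of the outer automorphism group under isomorphism.
-/

set_option autoImplicit false

namespace Cfsg.Agent.Lib.Helper8.Rank3Aut

section perm

variable {Ω : Type*} [Fintype Ω] [DecidableEq Ω]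

/-- Automorphisms of a transitive permutation group are induced by permutations as soon as
distinct points have distinct stabilisers and every subgroup of index the degree fixes a
point. -/
theorem aut_perm (G : Subgroup (Equiv.Perm Ω))
    (h2 : ∀ a b : Ω, ∃ g ∈ G, g a = b)
    (h3 : ∀ a b : Ω, a ≠ b → ∃ g ∈ G, g a = a ∧ g b ≠ b)
    (h4 : ∀ H : Subgroup (Equiv.Perm Ω), H ≤ G → Nat.card H * Fintype.card Ω = Nat.card G →
      ∃ a, ∀ h ∈ H, h a = a)
    (α : MulAut G) : ∃ π : Equiv.Perm Ω, ∀ g : G, (α g : Equiv.Perm Ω) = π * g * π⁻¹ := by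
  classical
  rcases isEmpty_or_nonempty Ω with hΩ | hΩ
  · refine ⟨1, fun g => ?_⟩
    ext x
    exact (hΩ.false x).elim
  have hpos : 0 < Fintype.card Ω := Fintype.card_pos
  have hcard : ∀ a : Ω, Nat.card (MulAction.stabilizer G a) * Fintype.card Ω = Nat.card G := by
    intro a
    have h := Subgroup.card_mul_index (MulAction.stabilizer G a)
    rw [MulAction.index_stabilizer] at h
    have horb : MulAction.orbit G a = Set.univ := by
      ext y
      simp only [MulAction.mem_orbit_iff, Set.mem_univ, iff_true]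
      obtain ⟨g, hg, hga⟩ := h2 a y
      exact ⟨⟨g, hg⟩, hga⟩
    rw [horb, Set.ncard_univ, Nat.card_eq_fintype_card (α := Ω)] at h
    exact h
  let R : Ω → Ω → Prop := fun a b => ∀ s : G, (s : Equiv.Perm Ω) a = a ↔
    (α s : Equiv.Perm Ω) b = b
  have hRex : ∀ a, ∃ b, R a b := by
    intro a
    let Sa : Subgroup G := MulAction.stabilizer G a
    let H : Subgroup (Equiv.Perm Ω) := (Sa.map (α : G →* G)).map G.subtype
    have hHG : H ≤ G := by
      rintro _ ⟨x, -, rfl⟩
      exact x.2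
    have hHcard : Nat.card H = Nat.card Sa := by
      rw [Subgroup.card_map_of_injective (Subgroup.subtype_injective G),
        Subgroup.card_map_of_injective (show Function.Injective (α : G →* G) from α.injective)]
    obtain ⟨b, hfix⟩ := h4 H hHG (by rw [hHcard]; exact hcard a)
    let Sb : Subgroup G := MulAction.stabilizer G b
    have hle : Sa.map (α : G →* G) ≤ Sb := by
      rintro _ ⟨s, hs, rfl⟩
      rw [MulAction.mem_stabilizer_iff]
      exact hfix _ ⟨_, ⟨s, hs, rfl⟩, rfl⟩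
    have heq : Sa.map (α : G →* G) = Sb := by
      apply Subgroup.eq_of_le_of_card_ge hle
      rw [Subgroup.card_map_of_injective (show Function.Injective (α : G →* G) from α.injective)]
      have e1 := hcard a
      have e2 := hcard b
      have : Nat.card Sb * Fintype.card Ω = Nat.card Sa * Fintype.card Ω := by rw [e1, e2]
      exact le_of_eq (Nat.eq_of_mul_eq_mul_right hpos this)
    refine ⟨b, fun s => ⟨fun hs => ?_, fun hs => ?_⟩⟩
    · have : α s ∈ Sb := hle ⟨s, hs, rfl⟩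
      exact this
    · have : α s ∈ Sa.map (α : G →* G) := by rw [heq]; exact hs
      obtain ⟨s', hs', he⟩ := this
      have : s' = s := α.injective he
      rw [← this]
      exact hs'
  have hRuniq : ∀ a b b', R a b → R a b' → b = b' := by
    intro a b b' hb hb'
    by_contra hne
    obtain ⟨x, hx, hxb, hxb'⟩ := h3 b b' hne
    obtain ⟨s, hs⟩ := α.surjective ⟨x, hx⟩
    have e1 : (α s : Equiv.Perm Ω) b = b := by rw [hs]; exact hxb
    have e2 : (s : Equiv.Perm Ω) a = a := (hb s).mpr e1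
    have e3 : (α s : Equiv.Perm Ω) b' = b' := (hb' s).mp e2
    rw [hs] at e3
    exact hxb' e3
  have hRinj : ∀ a a' b, R a b → R a' b → a = a' := by
    intro a a' b hb hb'
    by_contra hne
    obtain ⟨x, hx, hxa, hxa'⟩ := h3 a a' hne
    have e1 := (hb ⟨x, hx⟩).mp hxa
    exact hxa' ((hb' ⟨x, hx⟩).mpr e1)
  let π₀ : Ω → Ω := fun a => (hRex a).choose
  have hπ₀ : ∀ a, R a (π₀ a) := fun a => (hRex a).choose_spec
  have hinj : Function.Injective π₀ := by
    intro a a' h
    exact hRinj a a' (π₀ a) (hπ₀ a) (h ▸ hπ₀ a')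
  let π : Equiv.Perm Ω := Equiv.ofBijective π₀ (Finite.injective_iff_bijective.mp hinj)
  have hπ : ∀ a, π a = π₀ a := fun a => rfl
  have hequiv : ∀ g : G, ∀ a, (α g : Equiv.Perm Ω) (π a) = π ((g : Equiv.Perm Ω) a) := by
    intro g a
    have hb := hπ₀ a
    apply hRuniq ((g : Equiv.Perm Ω) a) _ _ _ (hπ₀ _)
    intro s
    have key := hb (g⁻¹ * s * g)
    have e1 : ((g⁻¹ * s * g : G) : Equiv.Perm Ω) a = a ↔
        (s : Equiv.Perm Ω) ((g : Equiv.Perm Ω) a) = (g : Equiv.Perm Ω) a := by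
      show (g : Equiv.Perm Ω)⁻¹ ((s : Equiv.Perm Ω) ((g : Equiv.Perm Ω) a)) = a ↔ _
      rw [Equiv.Perm.inv_eq_iff_eq]
    have e2 : ((α (g⁻¹ * s * g) : G) : Equiv.Perm Ω) (π₀ a) = π₀ a ↔
        (α s : Equiv.Perm Ω) ((α g : Equiv.Perm Ω) (π₀ a)) = (α g : Equiv.Perm Ω) (π₀ a) := by
      rw [map_mul, map_mul, map_inv]
      show (α g : Equiv.Perm Ω)⁻¹ ((α s : Equiv.Perm Ω) ((α g : Equiv.Perm Ω) (π₀ a))) = π₀ a ↔ _
      rw [Equiv.Perm.inv_eq_iff_eq]
    rw [← e1, key, e2]
    rfl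
  refine ⟨π, fun g => ?_⟩
  ext x
  have := hequiv g (π⁻¹ x)
  rw [show π (π⁻¹ x) = x from (Equiv.eq_symm_apply π).mp rfl] at this
  rw [this]
  rfl

/-- Conjugation by a permutation normalising a subgroup, as an automorphism of the subgroup. -/
def nconj (G : Subgroup (Equiv.Perm Ω)) (τ : Equiv.Perm Ω) (h1 : ∀ g ∈ G, τ * g * τ⁻¹ ∈ G)
    (h2 : ∀ g ∈ G, τ⁻¹ * g * τ ∈ G) : MulAut G where
  toFun g := ⟨τ * g * τ⁻¹, h1 g g.2⟩
  invFun g := ⟨τ⁻¹ * g * τ, h2 g g.2⟩
  left_inv g := by apply Subtype.ext; simp [mul_assoc]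
  right_inv g := by apply Subtype.ext; simp [mul_assoc]
  map_mul' a b := by apply Subtype.ext; simp [mul_assoc]

theorem nconj_apply (G : Subgroup (Equiv.Perm Ω)) (τ : Equiv.Perm Ω)
    (h1 : ∀ g ∈ G, τ * g * τ⁻¹ ∈ G) (h2 : ∀ g ∈ G, τ⁻¹ * g * τ ∈ G) (g : G) :
    ((nconj G τ h1 h2 g : G) : Equiv.Perm Ω) = τ * g * τ⁻¹ := rfl

/-- The outer automorphism group has order two when the group has index two in a group `N`
containing its normaliser, its centraliser is trivial and all automorphisms are induced by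
permutations. -/
theorem out_two (G N : Subgroup (Equiv.Perm Ω)) (hGN : G ≤ N)
    (hcard : Nat.card N = 2 * Nat.card G)
    (hnorm : ∀ π : Equiv.Perm Ω, (∀ g ∈ G, π * g * π⁻¹ ∈ G) → π ∈ N)
    (hcent : ∀ c : Equiv.Perm Ω, (∀ g ∈ G, c * g = g * c) → c = 1)
    (haut : ∀ α : MulAut G, ∃ π : Equiv.Perm Ω, ∀ g : G, (α g : Equiv.Perm Ω) = π * g * π⁻¹) :
    Nat.card (Cfsg.Out G) = 2 := by
  have hidx : (G.subgroupOf N).index = 2 := by
    have h1 := Subgroup.card_mul_index (G.subgroupOf N)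
    have h2 : Nat.card (G.subgroupOf N) = Nat.card G :=
      Nat.card_congr (Subgroup.subgroupOfEquivOfLe hGN).toEquiv
    rw [h2, hcard] at h1
    have hpos : 0 < Nat.card G := Nat.card_pos
    have h3 : Nat.card G * (G.subgroupOf N).index = Nat.card G * 2 := by rw [h1, mul_comm]
    exact Nat.eq_of_mul_eq_mul_left hpos h3
  have hnormal : (G.subgroupOf N).Normal := Subgroup.normal_of_index_eq_two hidx
  obtain ⟨a₀, ha₀⟩ := Subgroup.index_eq_two_iff.mp hidx
  have hN1 : ∀ π ∈ N, ∀ g ∈ G, π * g * π⁻¹ ∈ G := by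
    intro π hπ g hg
    have := hnormal.conj_mem ⟨g, hGN hg⟩ (Subgroup.mem_subgroupOf.mpr hg) ⟨π, hπ⟩
    exact Subgroup.mem_subgroupOf.mp this
  have hN2 : ∀ π ∈ N, ∀ g ∈ G, π⁻¹ * g * π ∈ G := by
    intro π hπ g hg
    have := hN1 π⁻¹ (N.inv_mem hπ) g hg
    rwa [inv_inv] at this
  have hxor : ∀ π ∈ N, Xor' (π * (a₀ : Equiv.Perm Ω) ∈ G) (π ∈ G) := by
    intro π hπ
    have := ha₀ ⟨π, hπ⟩
    rw [Subgroup.mem_subgroupOf, Subgroup.mem_subgroupOf] at this
    exact this
  -- inner criterion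
  have hinn : ∀ (β : MulAut G) (π : Equiv.Perm Ω),
      (∀ g : G, (β g : Equiv.Perm Ω) = π * g * π⁻¹) → (β ∈ Cfsg.Inn G ↔ π ∈ G) := by
    intro β π hβ
    constructor
    · rintro ⟨m, hm⟩
      have hc : (m : Equiv.Perm Ω)⁻¹ * π = 1 := by
        apply hcent
        intro g hg
        have e : (m : Equiv.Perm Ω) * g * (m : Equiv.Perm Ω)⁻¹ = π * g * π⁻¹ := by
          have h1 := congrArg (fun f : MulAut G => ((f ⟨g, hg⟩ : G) : Equiv.Perm Ω)) hm
          exact h1.trans (hβ ⟨g, hg⟩)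
        calc (m : Equiv.Perm Ω)⁻¹ * π * g
            = (m : Equiv.Perm Ω)⁻¹ * (π * g * π⁻¹) * π := by group
          _ = (m : Equiv.Perm Ω)⁻¹ * ((m : Equiv.Perm Ω) * g * (m : Equiv.Perm Ω)⁻¹) * π := by
              rw [e]
          _ = g * ((m : Equiv.Perm Ω)⁻¹ * π) := by group
      have hπm : π = (m : Equiv.Perm Ω) := by
        have h1 : π = (m : Equiv.Perm Ω) * ((m : Equiv.Perm Ω)⁻¹ * π) := by group
        rw [h1, hc, mul_one]
      rw [hπm]
      exact m.2
    · intro hπ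
      refine ⟨⟨π, hπ⟩, ?_⟩
      apply MulEquiv.ext
      intro g
      apply Subtype.ext
      rw [hβ g]
      rfl
  have ha₀N : (a₀ : Equiv.Perm Ω) ∈ N := a₀.2
  show (Cfsg.Inn G).index = 2
  rw [Subgroup.index_eq_two_iff]
  refine ⟨nconj G a₀ (hN1 _ ha₀N) (hN2 _ ha₀N), fun β => ?_⟩
  obtain ⟨π, hπ⟩ := haut β
  have hπN : π ∈ N := by
    apply hnorm
    intro g hg
    have := hπ ⟨g, hg⟩
    rw [← this]
    exact (β ⟨g, hg⟩).2
  have h1 := hinn β π hπ
  have h2 := hinn (β * nconj G a₀ (hN1 _ ha₀N) (hN2 _ ha₀N)) (π * (a₀ : Equiv.Perm Ω)) (by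
    intro g
    show ((β (nconj G a₀ (hN1 _ ha₀N) (hN2 _ ha₀N) g) : G) : Equiv.Perm Ω) = _
    rw [hπ, nconj_apply]
    group)
  rw [h1, h2]
  exact hxor π hπN

end perm

theorem congr_conj' {G H : Type*} [Group G] [Group H] (e : G ≃* H) (g : G) :
    MulAut.congr e (MulAut.conj g) = MulAut.conj (e g) := by
  ext y
  simp [MulAut.congr, MulAut.conj_apply]

/-- The order of the outer automorphism group is an isomorphism invariant. -/
theorem card_out_congr' {G H : Type*} [Group G] [Group H] (e : G ≃* H) :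
    Nat.card (Cfsg.Out G) = Nat.card (Cfsg.Out H) := by
  have he : (Cfsg.Inn G).map (MulAut.congr e).toMonoidHom = Cfsg.Inn H := by
    ext β
    constructor
    · rintro ⟨_, ⟨g, rfl⟩, rfl⟩
      exact ⟨e g, (congr_conj' e g).symm⟩
    · rintro ⟨h, rfl⟩
      refine ⟨MulAut.conj (e.symm h), ⟨_, rfl⟩, ?_⟩
      show MulAut.congr e (MulAut.conj (e.symm h)) = _
      rw [congr_conj', MulEquiv.apply_symm_apply]
  exact Nat.card_congr (QuotientGroup.congr (Cfsg.Inn G) (Cfsg.Inn H) (MulAut.congr e) he).toEquiv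

end Cfsg.Agent.Lib.Helper8.Rank3Aut
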