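import Cfsg.Agent.Lib.Helper8.HSGraph
import Cfsg.Agent.Lib.Helper8.Rank3Aut

/-!
A rank three group of order `44352000` of automorphisms of a strongly regular graph with
parameters `(100, 22, 0, 6)` has outer automorphism group of order two.
-/

set_option autoImplicit false

namespace Cfsg.Agent.Lib.Helper8.HSRank3

open Cfsg Cfsg.Agent.Lib.Helper35.PermAut Cfsg.Agent.Lib.Helper8.M24Sub2
  Cfsg.Agent.Lib.Helper8.SRG100 Cfsg.Agent.Lib.Helper8.HSGraph Cfsg.Agent.Lib.Helper8.Rank3Aut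

theorem num443520 : ∀ d : ℕ, d ≤ 100 → d ∣ 443520 → d % 11 = 1 →
    d = 1 ∨ d = 12 ∨ d = 45 ∨ d = 56 := by decide

section

variable {V : Type*} [Fintype V] [DecidableEq V] {Γ : SimpleGraph V} [DecidableRel Γ.Adj]
  {G : Subgroup (Equiv.Perm V)}

omit [DecidableEq V] in
theorem exists_ord (K : Subgroup (Equiv.Perm V)) (p : ℕ) [Fact p.Prime]
    (h : p ∣ Nat.card K) : ∃ g ∈ K, orderOf g = p := by
  obtain ⟨x, hx⟩ := exists_prime_orderOf_dvd_card' (G := K) p h
  exact ⟨x, x.2, by rw [← hx, Subgroup.orderOf_coe]⟩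

theorem adj_of_norm (hloc : Loc Γ) (hGA : G ≤ autP Γ)
    (hrk : ∀ x y y' : V, y ≠ x → y' ≠ x → (Γ.Adj x y ↔ Γ.Adj x y') →
      ∃ g ∈ G, g x = x ∧ g y = y')
    (π : Equiv.Perm V) (h2 : ∀ g ∈ G, π⁻¹ * g * π ∈ G) (x y : V) (hxy : Γ.Adj x y) :
    Γ.Adj (π x) (π y) := by
  by_contra hn
  have hne : π y ≠ π x := fun h => (Γ.ne_of_adj hxy) (π.injective h).symm
  have hsub : far Γ (π x) ⊆ (Γ.neighborFinset x).image π := by
    intro z hz
    rw [mem_far] at hz
    obtain ⟨g, hg, hgx, hgy⟩ := hrk (π x) (π y) z hne hz.1 (iff_of_false hn hz.2)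
    have hk := hGA (h2 g hg) x y
    have e1 : (π⁻¹ * g * π) x = x := by
      show π⁻¹ (g (π x)) = x
      rw [hgx]
      simp
    have e2 : (π⁻¹ * g * π) y = π⁻¹ z := by
      show π⁻¹ (g (π y)) = π⁻¹ z
      rw [hgy]
    rw [e1, e2] at hk
    rw [Finset.mem_image]
    exact ⟨π⁻¹ z, (Γ.mem_neighborFinset x _).2 (hk.2 hxy), by simp⟩
  have h1 := Finset.card_le_card hsub
  rw [card_far hloc] at h1
  have h3 := Finset.card_image_le (s := Γ.neighborFinset x) (f := π)
  rw [hloc.deg] at h3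
  omega

omit [DecidableEq V] in
theorem norm_inv (π : Equiv.Perm V) (h1 : ∀ g ∈ G, π * g * π⁻¹ ∈ G) :
    ∀ g ∈ G, π⁻¹ * g * π ∈ G := by
  intro g hg
  let c : G → G := fun g => ⟨π * g * π⁻¹, h1 g g.2⟩
  have hinj : Function.Injective c := by
    intro a b hab
    apply Subtype.ext
    have h : π * (a : Equiv.Perm V) * π⁻¹ = π * (b : Equiv.Perm V) * π⁻¹ :=
      congrArg Subtype.val hab
    exact mul_left_cancel (mul_right_cancel h)
  obtain ⟨g', hg'⟩ := (Finite.injective_iff_surjective.mp hinj) ⟨g, hg⟩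
  have e : π * (g' : Equiv.Perm V) * π⁻¹ = g := congrArg Subtype.val hg'
  rw [← e]
  have h3 : π⁻¹ * (π * (g' : Equiv.Perm V) * π⁻¹) * π = g' := by group
  rw [h3]
  exact g'.2

theorem mem_autP_of_norm (hloc : Loc Γ) (hGA : G ≤ autP Γ)
    (hrk : ∀ x y y' : V, y ≠ x → y' ≠ x → (Γ.Adj x y ↔ Γ.Adj x y') →
      ∃ g ∈ G, g x = x ∧ g y = y')
    (π : Equiv.Perm V) (h1 : ∀ g ∈ G, π * g * π⁻¹ ∈ G) : π ∈ autP Γ := by
  have h2 := norm_inv π h1
  intro u v
  constructor
  · intro h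
    have h3 := adj_of_norm hloc hGA hrk π⁻¹ (by
      intro g hg
      rw [inv_inv]
      exact h1 g hg) (π u) (π v) h
    simpa using h3
  · exact adj_of_norm hloc hGA hrk π h2 u v

theorem moves (hloc : Loc Γ)
    (hrk : ∀ x y y' : V, y ≠ x → y' ≠ x → (Γ.Adj x y ↔ Γ.Adj x y') →
      ∃ g ∈ G, g x = x ∧ g y = y')
    (a b : V) (hab : a ≠ b) : ∃ g ∈ G, g a = a ∧ g b ≠ b := by
  by_cases hadj : Γ.Adj a b
  · obtain ⟨b', hb', hne⟩ := Finset.exists_mem_ne (s := Γ.neighborFinset a)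
      (by rw [hloc.deg]; norm_num) b
    rw [SimpleGraph.mem_neighborFinset] at hb'
    obtain ⟨g, hg, hga, hgb⟩ := hrk a b b' hab.symm (Γ.ne_of_adj hb').symm
      (iff_of_true hadj hb')
    exact ⟨g, hg, hga, by rw [hgb]; exact hne⟩
  · obtain ⟨b', hb', hne⟩ := Finset.exists_mem_ne (s := far Γ a)
      (by rw [card_far hloc]; norm_num) b
    rw [mem_far] at hb'
    obtain ⟨g, hg, hga, hgb⟩ := hrk a b b' hab.symm hb'.1 (iff_of_false hadj hb'.2)
    exact ⟨g, hg, hga, by rw [hgb]; exact hne⟩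

omit [Fintype V] [DecidableEq V] in
theorem cent_trivial (hmv : ∀ a b : V, a ≠ b → ∃ g ∈ G, g a = a ∧ g b ≠ b)
    (c : Equiv.Perm V) (hc : ∀ g ∈ G, c * g = g * c) : c = 1 := by
  ext x
  show c x = x
  by_contra hne
  obtain ⟨g, hg, hgx, hgc⟩ := hmv x (c x) (fun h => hne h.symm)
  apply hgc
  have h := congrArg (fun f : Equiv.Perm V => f x) (hc g hg)
  simp only [Equiv.Perm.mul_apply] at h
  rw [← h, hgx]

theorem orb_stab (hloc : Loc Γ) (hGA : G ≤ autP Γ)
    (hrk : ∀ x y y' : V, y ≠ x → y' ≠ x → (Γ.Adj x y ↔ Γ.Adj x y') →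
      ∃ g ∈ G, g x = x ∧ g y = y')
    (p q : V) (hpq : q ≠ p) :
    (orb (G ⊓ MulAction.stabilizer (Equiv.Perm V) p) q).card = 22 ∨
      (orb (G ⊓ MulAction.stabilizer (Equiv.Perm V) p) q).card = 77 := by
  by_cases hadj : Γ.Adj p q
  · left
    have h : orb (G ⊓ MulAction.stabilizer (Equiv.Perm V) p) q = Γ.neighborFinset p := by
      ext z
      rw [mem_orb, SimpleGraph.mem_neighborFinset]
      constructor
      · rintro ⟨k, hk, rfl⟩
        have hkp : k p = p := MulAction.mem_stabilizer_iff.mp hk.2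
        have h1 := hGA hk.1 p q
        rw [hkp] at h1
        exact h1.2 hadj
      · intro hz
        obtain ⟨g, hg, hgp, hgq⟩ := hrk p q z hpq (Γ.ne_of_adj hz).symm (iff_of_true hadj hz)
        exact ⟨g, ⟨hg, MulAction.mem_stabilizer_iff.mpr hgp⟩, hgq⟩
    rw [h, hloc.deg]
  · right
    have h : orb (G ⊓ MulAction.stabilizer (Equiv.Perm V) p) q = far Γ p := by
      ext z
      rw [mem_orb, mem_far]
      constructor
      · rintro ⟨k, hk, rfl⟩
        have hkp : k p = p := MulAction.mem_stabilizer_iff.mp hk.2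
        have h1 := hGA hk.1 p q
        rw [hkp] at h1
        exact ⟨fun h => hpq (k.injective (h.trans hkp.symm)), fun h => hadj (h1.1 h)⟩
      · rintro ⟨hz1, hz2⟩
        obtain ⟨g, hg, hgp, hgq⟩ := hrk p q z hpq hz1 (iff_of_false hadj hz2)
        exact ⟨g, ⟨hg, MulAction.mem_stabilizer_iff.mpr hgp⟩, hgq⟩
    rw [h, card_far hloc]

/-- A subgroup of index `100` fixes a vertex. -/
theorem fix_of_index (hloc : Loc Γ) (hGA : G ≤ autP Γ)
    (htr : ∀ x y : V, ∃ g ∈ G, g x = y)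
    (hrk : ∀ x y y' : V, y ≠ x → y' ≠ x → (Γ.Adj x y ↔ Γ.Adj x y') →
      ∃ g ∈ G, g x = x ∧ g y = y')
    (hcard : Nat.card G = 44352000)
    (H : Subgroup (Equiv.Perm V)) (hH : H ≤ G)
    (hHc : Nat.card H * Fintype.card V = Nat.card G) : ∃ a, ∀ h ∈ H, h a = a := by
  have : Fact (Nat.Prime 11) := ⟨by norm_num⟩
  rw [hloc.card, hcard] at hHc
  have hHc' : Nat.card H = 443520 := by omega
  obtain ⟨g, hgH, hg11⟩ := exists_ord H 11 (by rw [hHc']; decide)
  have hg11' : g ^ 11 ^ 1 = 1 := by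
    rw [pow_one, ← hg11]
    exact pow_orderOf_eq_one g
  have hmod := card_fixed_modEq_univ g hg11'
  rw [hloc.card] at hmod
  have hpos : 0 < (Finset.univ.filter (fun y => g y = y)).card := by
    rcases Nat.eq_zero_or_pos (Finset.univ.filter (fun y => g y = y)).card with h0 | h0
    · rw [h0] at hmod
      exact absurd hmod (by decide)
    · exact h0
  obtain ⟨p, hp⟩ := Finset.card_pos.mp hpos
  rw [Finset.mem_filter] at hp
  have hgp : g p = p := hp.2
  have hGp : Nat.card ↥(G ⊓ MulAction.stabilizer (Equiv.Perm V) p) = 443520 := by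
    have h1 := card_eq_mul_orb G p
    have h2 : orb G p = Finset.univ := by
      ext z
      simp only [Finset.mem_univ, iff_true, mem_orb]
      exact htr p z
    rw [h2, Finset.card_univ, hloc.card, hcard] at h1
    omega
  have huniq : ∀ q, g q = q → q = p := by
    intro q hgq
    by_contra hqp
    have h1 := card_eq_mul_orb (G ⊓ MulAction.stabilizer (Equiv.Perm V) p) q
    rw [hGp] at h1
    have hmem : g ∈ G ⊓ MulAction.stabilizer (Equiv.Perm V) p ⊓
        MulAction.stabilizer (Equiv.Perm V) q :=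
      ⟨⟨hH hgH, MulAction.mem_stabilizer_iff.mpr hgp⟩, MulAction.mem_stabilizer_iff.mpr hgq⟩
    have hdvd := Subgroup.orderOf_dvd_natCard _ hmem
    rw [hg11] at hdvd
    rcases orb_stab hloc hGA hrk p q hqp with h2 | h2 <;> rw [h2] at h1
    · have h3 : Nat.card ↥(G ⊓ MulAction.stabilizer (Equiv.Perm V) p ⊓
          MulAction.stabilizer (Equiv.Perm V) q) = 20160 := by omega
      rw [h3] at hdvd
      exact absurd hdvd (by decide)
    · have h3 : Nat.card ↥(G ⊓ MulAction.stabilizer (Equiv.Perm V) p ⊓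
          MulAction.stabilizer (Equiv.Perm V) q) = 5760 := by omega
      rw [h3] at hdvd
      exact absurd hdvd (by decide)
  have h1 := card_eq_mul_orb H p
  rw [hHc'] at h1
  have hmodo := card_fixed_modEq g hg11' (orb H p) (fun y hy => apply_mem_orb hy hgH)
  have hfilt : (orb H p).filter (fun y => g y = y) = {p} := by
    ext y
    rw [Finset.mem_filter, Finset.mem_singleton]
    constructor
    · rintro ⟨-, hy⟩
      exact huniq y hy
    · rintro rfl
      exact ⟨self_mem_orb H _, hgp⟩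
  rw [hfilt, Finset.card_singleton] at hmodo
  have hle : (orb H p).card ≤ 100 := by
    rw [← hloc.card]
    exact Finset.card_le_univ _
  have hdvd : (orb H p).card ∣ 443520 := Dvd.intro_left _ h1.symm
  have hS : H ⊓ MulAction.stabilizer (Equiv.Perm V) p ≤ autP Γ :=
    inf_le_left.trans (hH.trans hGA)
  have hSfix : ∀ s ∈ H ⊓ MulAction.stabilizer (Equiv.Perm V) p, s p = p :=
    fun s hs => MulAction.mem_stabilizer_iff.mp hs.2
  rcases num443520 _ hle hdvd hmodo with h2 | h2 | h2 | h2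
  · exact ⟨p, fix_of_orb_card_one h2⟩
  · exfalso
    rw [h2] at h1
    exact no_small_sub hloc p _ hS hSfix (Or.inl (by omega))
  · exfalso
    rw [h2] at h1
    exact no_small_sub hloc p _ hS hSfix (Or.inr (Or.inl (by omega)))
  · exfalso
    rw [h2] at h1
    exact no_small_sub hloc p _ hS hSfix (Or.inr (Or.inr (by omega)))

/-- A rank three group of order `44352000` of automorphisms of a strongly regular graph with
parameters `(100, 22, 0, 6)` has outer automorphism group of order two. -/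
theorem out_rank3 (hloc : Loc Γ) (hGA : G ≤ autP Γ)
    (htr : ∀ x y : V, ∃ g ∈ G, g x = y)
    (hrk : ∀ x y y' : V, y ≠ x → y' ≠ x → (Γ.Adj x y ↔ Γ.Adj x y') →
      ∃ g ∈ G, g x = x ∧ g y = y')
    (hcard : Nat.card G = 44352000) : Nat.card (Cfsg.Out G) = 2 := by
  have hmv := moves hloc hrk
  apply out_two G (autP Γ) hGA
  · rw [card_autP hloc, hcard]
  · intro π hπ
    exact mem_autP_of_norm hloc hGA hrk π hπ
  · exact cent_trivial hmv
  · exact aut_perm G htr hmv (fun H hH hHc => fix_of_index hloc hGA htr hrk hcard H hH hHc)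

end

end Cfsg.Agent.Lib.Helper8.HSRank3
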