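import Mathlib
import Cfsg.Agent.Lib.Helper37.HypStmt
import Cfsg.Agent.Lib.Helper44.OTyp3
import Cfsg.Agent.Lib.Helper8.HypHYPSUB

/-!
# S5992 / TYPEODD: for `i` odd, an invariant nondegenerate subspace without fixed vectors is of
plus type
-/

set_option autoImplicit false

namespace Cfsg.Agent.Lib.Helper8.HypTYPEODD

open Polynomial UniqueFactorizationMonoid Module QuadraticMap Matrix
open Cfsg.Agent.Lib.Helper44.QSpace Cfsg.Agent.Lib.Helper44.NegPairs
open Cfsg.Agent.Lib.Helper44.WittND Cfsg.Agent.Lib.Helper44.WittND2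
open Cfsg.Agent.Lib.Helper44.OCls1 Cfsg.Agent.Lib.Helper44.OTyp1 Cfsg.Agent.Lib.Helper44.OTyp2
open Cfsg.Agent.Lib.Helper44.OTyp3
open Cfsg.Agent.Lib.Helper40.RecipPoly
open Cfsg.Agent.Lib.Helper37.HypStmt
open Cfsg.Agent.Lib.Helper8.HypHYPSUB

universe u

theorem main : TypeOdd.{u} := by
  intro F _ _ p _ _ hodd d r _ hr2 hrp hiodd x hx hxr E hE hnd hfix
  classical
  have hr : r.Prime := Fact.out
  by_cases hEbot : E = ⊥
  · refine ⟨⊥, bot_le, ?_, ?_⟩
    · intro w hw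
      rw [(Submodule.mem_bot F).mp hw]
      show oddQ d F 0 = 0
      exact map_zero _
    · rw [hEbot, finrank_bot]
  obtain ⟨Xm, hXm⟩ : ∃ Xm : Matrix (I d) (I d) F, Xm = (x : Matrix (I d) (I d) F) := ⟨_, rfl⟩
  rw [← hXm] at hE hfix
  have hXQ : ∀ u, oddQ d F (Xm *ᵥ u) = oddQ d F u := by
    intro u
    rw [hXm]
    exact hx u u
  have hXr : Xm ^ r = 1 := by
    rw [hXm, ← Units.val_pow_eq_pow_val, hxr]
    rfl
  have hSE : Sep (res (oddQ d F) E) := sep_res_of_ndsub (ndsub_of_ndeg hnd)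
  have hmaps : ∀ v ∈ E, Matrix.toLin' Xm v ∈ E := fun v hv => hE (Submodule.mem_map_of_mem hv)
  obtain ⟨φ, hφ⟩ : ∃ φ : E →ₗ[F] E, ∀ v : E, ((φ v : E) : I d → F) = Xm *ᵥ (v : I d → F) :=
    ⟨(Matrix.toLin' Xm).restrict hmaps, fun v => rfl⟩
  have hφpow : ∀ (n : ℕ) (v : E), (((φ ^ n) v : E) : I d → F) = (Xm ^ n) *ᵥ (v : I d → F) := by
    intro n
    induction n with
    | zero =>
      intro v
      rw [pow_zero, pow_zero, Matrix.one_mulVec]
      rfl
    | succ n ih =>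
      intro v
      rw [pow_succ, Module.End.mul_apply, ih, hφ, Matrix.mulVec_mulVec, ← pow_succ]
  have hφr : φ ^ r = 1 := by
    apply LinearMap.ext
    intro v
    apply Subtype.ext
    rw [hφpow, hXr, Matrix.one_mulVec]
    rfl
  have h1 : φ * φ ^ (r - 1) = 1 := by
    rw [← pow_succ', Nat.sub_add_cancel hr.pos, hφr]
  have h2 : φ ^ (r - 1) * φ = 1 := by
    rw [← pow_succ, Nat.sub_add_cancel hr.pos, hφr]
  have hφQ : ∀ v, res (oddQ d F) E (φ v) = res (oddQ d F) E v := by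
    intro v
    rw [res_apply, res_apply, hφ, hXQ]
  -- matrix of `φ`
  obtain ⟨n, hn⟩ : ∃ n, n = finrank F E := ⟨_, rfl⟩
  obtain ⟨b⟩ : Nonempty (Basis (Fin n) F E) := by
    rw [hn]
    exact ⟨Module.finBasis F E⟩
  obtain ⟨s, hs⟩ : ∃ s : Matrix (Fin n) (Fin n) F, s = LinearMap.toMatrix b b φ := ⟨_, rfl⟩
  obtain ⟨s', hs'⟩ : ∃ s' : Matrix (Fin n) (Fin n) F, s' = LinearMap.toMatrix b b (φ ^ (r - 1)) :=
    ⟨_, rfl⟩
  have hss' : s * s' = 1 := by
    rw [hs, hs', ← LinearMap.toMatrix_mul, h1, LinearMap.toMatrix_one]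
  have hkey : ∀ u : Fin n → F, b.equivFun.symm (s *ᵥ u) = φ (b.equivFun.symm u) := by
    intro u
    have h := LinearMap.toMatrix_mulVec_repr b b φ (b.equivFun.symm u)
    rw [← Basis.equivFun_apply, ← Basis.equivFun_apply, LinearEquiv.apply_symm_apply, ← hs] at h
    rw [h, LinearEquiv.symm_apply_apply]
  have hsr : s ^ r = 1 := by
    have h := map_pow (LinearMap.toMatrixAlgEquiv b) φ r
    rw [hφr, map_one] at h
    rw [hs]
    exact h.symm
  obtain ⟨Q', hQ'⟩ : ∃ Q' : QuadraticForm F (Fin n → F),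
      ∀ u, Q' u = res (oddQ d F) E (b.equivFun.symm u) :=
    ⟨(res (oddQ d F) E).comp (b.equivFun.symm : (Fin n → F) →ₗ[F] E), fun u => rfl⟩
  have hS' : Sep Q' := sep_of_iso hSE Q' b.equivFun (fun v => by
    rw [hQ', LinearEquiv.symm_apply_apply])
  have hsQ : ∀ u, Q' (s *ᵥ u) = Q' u := by
    intro u
    rw [hQ', hQ', hkey, hφQ]
  have hcm : s.charpoly.Monic := Matrix.charpoly_monic s
  have hcf : ∀ P ∈ normalizedFactors s.charpoly, P ∣ X ^ r - C (1 : F) := by
    intro P hP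
    apply dvd_of_mem_nf_charpoly' s _ _ P hP
    rw [map_sub, map_pow, aeval_X, aeval_C, map_one, hsr, sub_self]
  have hcr : rstar (RingHom.id F) s.charpoly = s.charpoly := rstar_charpoly_iso hS' s s' hss' hsQ
  have hsL : ¬ (X - C (1 : F)) ∣ s.charpoly := by
    intro hdvd
    have hroot := Polynomial.dvd_iff_isRoot.mp hdvd
    rw [Polynomial.IsRoot, Matrix.eval_charpoly] at hroot
    obtain ⟨v, hv0, hv⟩ := Matrix.exists_mulVec_eq_zero_iff.mpr hroot
    rw [Matrix.sub_mulVec, map_one, Matrix.one_mulVec, sub_eq_zero] at hv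
    have hw : φ (b.equivFun.symm v) = b.equivFun.symm v := by
      rw [← hkey, ← hv]
    have hmem : ((b.equivFun.symm v : E) : I d → F) ∈ E ⊓ Fx Xm := by
      refine ⟨(b.equivFun.symm v).2, ?_⟩
      exact (mem_Fx Xm _).mpr (by rw [← hφ, hw])
    rw [hfix, Submodule.mem_bot] at hmem
    have h0 : b.equivFun.symm v = 0 := Subtype.ext hmem
    apply hv0
    have := congrArg b.equivFun h0
    rw [LinearEquiv.apply_symm_apply, map_zero] at this
    exact this
  -- arithmetic of `i`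
  obtain ⟨i, hi⟩ : ∃ i, i = orderOf ((Fintype.card F : ℕ) : ZMod r) := ⟨_, rfl⟩
  rw [← hi] at hiodd
  have hq0 : ((Fintype.card F : ℕ) : ZMod r) ≠ 0 := by
    intro h0
    rw [ZMod.natCast_eq_zero_iff] at h0
    obtain ⟨m, hp, hm⟩ := FiniteField.card F p
    rw [hm] at h0
    have := (Nat.prime_dvd_prime_iff_eq hr hp).mp (hr.dvd_of_dvd_pow h0)
    exact hrp this
  have hidvd : i ∣ r - 1 := by
    rw [hi]
    apply orderOf_dvd_of_pow_eq_one
    exact ZMod.pow_card_sub_one_eq_one hq0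
  obtain ⟨t, ht⟩ := hidvd
  obtain ⟨-, hf2⟩ := facts (F := F) (p := p) r i t hr hr2 hrp hi (by rw [ht]; ring)
  obtain ⟨c₁, hc₁m, hc₁0, hc, hcop, hL1, hL2⟩ := hf2 hiodd s.charpoly hcm hcf hcr hsL
  have hdeg : n = 2 * c₁.natDegree := by
    have h3 : s.charpoly.natDegree = n := by
      rw [Matrix.charpoly_natDegree_eq_dim, Fintype.card_fin]
    rw [hc, Polynomial.Monic.natDegree_mul hc₁m (rstar_monic _ c₁ hc₁0),
      rstar_natDegree _ c₁ hc₁0] at h3
    omega
  have hnpos : n ≠ 0 := by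
    intro h0
    apply hEbot
    rw [h0] at hn
    exact Submodule.finrank_eq_zero.mp hn.symm
  obtain ⟨k, hk⟩ : ∃ k, c₁.natDegree = k + 1 := ⟨c₁.natDegree - 1, by omega⟩
  have hfin : finrank F E = 2 * (k + 1) := by
    rw [← hn, hdeg, hk]
  have hann : aeval φ (c₁ * rstar (RingHom.id F) c₁) = 0 := by
    have h := LinearMap.aeval_self_charpoly φ
    rw [← LinearMap.charpoly_toMatrix φ b, ← hs, hc] at h
    exact h
  have hcount := obs_odd (res (oddQ d F) E) hSE hfin φ (φ ^ (r - 1)) h1 h2 hφQ c₁ hc₁m hc₁0 hcop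
    hann hL1 hL2
  have hplus := sing_plus (F := F) k
  have hqpos : 0 < Fintype.card F := Fintype.card_pos
  have hc' : Nat.card {v : Fin (k + 1) ⊕ Fin (k + 1) → F // plusQ (k + 1) F v = 0}
      = Nat.card {v : E // res (oddQ d F) E v = 0} := by
    apply Nat.eq_of_mul_eq_mul_right hqpos
    rw [hplus, hcount]
  have hfH : finrank F (Fin (k + 1) ⊕ Fin (k + 1) → F) = 2 * (k + 1) := by
    rw [Module.finrank_fintype_fun_eq_card, Fintype.card_sum, Fintype.card_fin]
    ring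
  obtain ⟨j, hj⟩ := exists_iso (plusQ (k + 1) F) (res (oddQ d F) E) (sep_plusQ (k + 1)) hSE hfH
    hfin hc'
  have hjinj := isom_inj (sep_plusQ (k + 1)) j hj
  have hinj2 : Function.Injective (j ∘ₗ inlMap (k + 1)) := by
    rw [LinearMap.coe_comp]
    exact hjinj.comp (inlMap_inj (k + 1))
  refine ⟨(LinearMap.range (j ∘ₗ inlMap (k + 1))).map E.subtype, Submodule.map_subtype_le _ _,
    ?_, ?_⟩
  · rintro _ ⟨_, ⟨a, rfl⟩, rfl⟩
    show oddQ d F ((j (inlMap (k + 1) a) : E) : I d → F) = 0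
    have h5 := hj (inlMap (k + 1) a)
    rw [res_apply, plusQ_inlMap] at h5
    exact h5
  · rw [Submodule.finrank_map_subtype_eq, LinearMap.finrank_range_of_inj hinj2,
      Module.finrank_fintype_fun_eq_card, Fintype.card_fin, hfin]

end Cfsg.Agent.Lib.Helper8.HypTYPEODD
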