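import Cfsg.Agent.Lib.Helper35.M24Aut
import Cfsg.Agent.Lib.Helper86.Ord3
import Cfsg.Agent.Lib.Helper86.M24Inv2

/-!
Tools for subgroups of `M24` given as subgroups of the symmetric group on the 24 points:
a nontrivial element fixes at most eight points, and exactly eight only when they form an
octad; a subgroup acting faithfully on an invariant set has order dividing a factorial.
-/

set_option autoImplicit false

namespace Cfsg.Agent.Lib.Helper8.M24Sub

open Cfsg Cfsg.Agent.Lib.Helper35.M24Fix Cfsg.Agent.Lib.Helper35.PermAut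
  Cfsg.Agent.Lib.Helper35.M24Aut
open scoped Pointwise

theorem fixedPts_pow_subset (g : Equiv.Perm GolayPt) (n : ℕ) : fixedPts g ⊆ fixedPts (g ^ n) := by
  intro z hz
  rw [mem_fixedPts] at hz ⊢
  induction n with
  | zero => rfl
  | succ n ih =>
    rw [pow_succ, Equiv.Perm.mul_apply, hz, ih]

theorem orderOf_two_of_sq {g : Equiv.Perm GolayPt} (h : g * g = 1) (h1 : g ≠ 1) :
    orderOf g = 2 :=
  orderOf_eq_prime (by rw [pow_two]; exact h) h1

/-- An involution of `M24` with a fixed point has exactly eight fixed points, forming an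
octad. -/
theorem inv_fix_octad {g : Equiv.Perm GolayPt} (hg : g ∈ M24) (h2 : orderOf g = 2)
    {p : GolayPt} (hp : g p = p) : fixedPts g ∈ octads ∧ (fixedPts g).card = 8 := by
  obtain ⟨k, hk, h⟩ := Cfsg.Agent.Lib.Helper86.M24Inv2.conj_gA_of_fixed hg h2 hp
  exact ⟨Cfsg.Agent.Lib.Helper86.M24Inv2.octad_of_conj_gA hk h,
    Cfsg.Agent.Lib.Helper86.M24Inv2.card_of_conj_gA h⟩

/-- A nontrivial element of `M24` with at least eight fixed points has exactly eight, and
they form an octad. -/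
theorem fix_octad {g : Equiv.Perm GolayPt} (hg : g ∈ M24) (h1 : g ≠ 1)
    (h8 : 8 ≤ (fixedPts g).card) : fixedPts g ∈ octads ∧ (fixedPts g).card = 8 := by
  obtain ⟨s, hsub, hs⟩ := Finset.exists_subset_card_eq (s := fixedPts g) (n := 5) (by omega)
  have h48 := pow_48_of_fix_five hg s hs (fun z hz => mem_fixedPts.mp (hsub hz))
  have hn : orderOf g ∣ 48 := orderOf_dvd_of_pow_eq_one h48
  have hn1 : orderOf g ≠ 1 := by
    rwa [Ne, orderOf_eq_one_iff]
  have hn0 : orderOf g ≠ 0 := by
    intro h0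
    rw [h0] at hn
    omega
  by_cases h3 : 3 ∣ orderOf g
  · exfalso
    have ho : orderOf (g ^ (orderOf g / 3)) = 3 := orderOf_pow_orderOf_div hn0 h3
    have hsub2 := fixedPts_pow_subset g (orderOf g / 3)
    have hc := Finset.card_le_card hsub2
    rcases Cfsg.Agent.Lib.Helper86.Ord3.ord3_fix (M24.pow_mem hg _) ho with h | h
    · have h' : (fixedPts (g ^ (orderOf g / 3))).card = 6 := h
      omega
    · have h' : fixedPts (g ^ (orderOf g / 3)) = ∅ := h
      rw [h', Finset.card_empty] at hc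
      omega
  · have h2 : 2 ∣ orderOf g := by
      obtain ⟨c, hc⟩ := hn
      have hle : orderOf g ≤ 48 := Nat.le_of_dvd (by norm_num) ⟨c, hc⟩
      have hpos : 0 < orderOf g := Nat.pos_of_ne_zero hn0
      generalize orderOf g = n at *
      interval_cases n <;> omega
    have ho : orderOf (g ^ (orderOf g / 2)) = 2 := orderOf_pow_orderOf_div hn0 h2
    have hsub2 := fixedPts_pow_subset g (orderOf g / 2)
    have hne : (fixedPts g).Nonempty := by
      rw [← Finset.card_pos]
      omega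
    obtain ⟨p, hp⟩ := hne
    obtain ⟨hoct, hcard⟩ := inv_fix_octad (M24.pow_mem hg _) ho (mem_fixedPts.mp (hsub2 hp))
    have heq : fixedPts g = fixedPts (g ^ (orderOf g / 2)) :=
      Finset.eq_of_subset_of_card_le hsub2 (by omega)
    rw [heq]
    exact ⟨hoct, hcard⟩

theorem eq_one_of_fix_nine {g : Equiv.Perm GolayPt} (hg : g ∈ M24)
    (h9 : 9 ≤ (fixedPts g).card) : g = 1 := by
  by_contra h1
  have := (fix_octad hg h1 (by omega)).2
  omega

/-- An element of `M24` fixing pointwise a set of at least nine points is trivial. -/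
theorem eq_one_of_fix_set {g : Equiv.Perm GolayPt} (hg : g ∈ M24) (S : Finset GolayPt)
    (hS : ∀ z ∈ S, g z = z) (h9 : 9 ≤ S.card) : g = 1 := by
  apply eq_one_of_fix_nine hg
  have hsub : S ⊆ fixedPts g := fun z hz => mem_fixedPts.mpr (hS z hz)
  exact le_trans h9 (Finset.card_le_card hsub)

/-- A nontrivial element of `M24` fixing pointwise a set of eight points: the set is an
octad. -/
theorem octad_of_fix_set {g : Equiv.Perm GolayPt} (hg : g ∈ M24) (h1 : g ≠ 1)
    (S : Finset GolayPt) (hS : ∀ z ∈ S, g z = z) (h8 : S.card = 8) : S ∈ octads := by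
  have hsub : S ⊆ fixedPts g := fun z hz => mem_fixedPts.mpr (hS z hz)
  have h := fix_octad hg h1 (by rw [← h8]; exact Finset.card_le_card hsub)
  have heq : S = fixedPts g := Finset.eq_of_subset_of_card_le hsub (by omega)
  rw [heq]
  exact h.1

section faithful

variable {Ω : Type*} [Fintype Ω] [DecidableEq Ω]

theorem apply_mem_iff (K : Subgroup (Equiv.Perm Ω)) (Y : Finset Ω)
    (hY : ∀ k ∈ K, ∀ y ∈ Y, k y ∈ Y) {k : Equiv.Perm Ω} (hk : k ∈ K) (y : Ω) :
    k y ∈ Y ↔ y ∈ Y := by
  refine ⟨fun h => ?_, hY k hk y⟩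
  have h1 := hY k⁻¹ (K.inv_mem hk) _ h
  have h2 : k⁻¹ (k y) = y := k.symm_apply_apply y
  rwa [h2] at h1

/-- The restriction of a subgroup of the symmetric group to an invariant finset. -/
def resHom (K : Subgroup (Equiv.Perm Ω)) (Y : Finset Ω)
    (hY : ∀ k ∈ K, ∀ y ∈ Y, k y ∈ Y) : K →* Equiv.Perm {y // y ∈ Y} where
  toFun k := (k : Equiv.Perm Ω).subtypePerm (fun y => apply_mem_iff K Y hY k.2 y)
  map_one' := by
    ext y
    rfl
  map_mul' k k' := by
    ext y
    rfl

theorem resHom_apply (K : Subgroup (Equiv.Perm Ω)) (Y : Finset Ω)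
    (hY : ∀ k ∈ K, ∀ y ∈ Y, k y ∈ Y) (k : K) (y : {y // y ∈ Y}) :
    ((resHom K Y hY k y : {y // y ∈ Y}) : Ω) = (k : Equiv.Perm Ω) y := rfl

theorem resHom_injective (K : Subgroup (Equiv.Perm Ω)) (Y : Finset Ω)
    (hY : ∀ k ∈ K, ∀ y ∈ Y, k y ∈ Y)
    (hfaith : ∀ k ∈ K, (∀ y ∈ Y, k y = y) → k = 1) : Function.Injective (resHom K Y hY) := by
  rw [injective_iff_map_eq_one]
  intro k hk
  apply Subtype.ext
  apply hfaith k k.2
  intro y hy
  have h1 := congrArg (fun σ : Equiv.Perm {y // y ∈ Y} => ((σ ⟨y, hy⟩ : {y // y ∈ Y}) : Ω)) hk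
  exact h1

/-- A subgroup acting faithfully on an invariant finset has order dividing the factorial of
its size. -/
theorem card_dvd_factorial (K : Subgroup (Equiv.Perm Ω)) (Y : Finset Ω)
    (hY : ∀ k ∈ K, ∀ y ∈ Y, k y ∈ Y)
    (hfaith : ∀ k ∈ K, (∀ y ∈ Y, k y = y) → k = 1) : Nat.card K ∣ Y.card.factorial := by
  have h1 := Subgroup.card_dvd_of_injective (resHom K Y hY) (resHom_injective K Y hY hfaith)
  rw [Nat.card_perm] at h1
  have h2 : Nat.card {y // y ∈ Y} = Y.card := by
    rw [Nat.card_eq_fintype_card, Fintype.card_coe]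
  rwa [h2] at h1

/-- If moreover the order is the full factorial, every permutation of the set is induced. -/
theorem exists_induced (K : Subgroup (Equiv.Perm Ω)) (Y : Finset Ω)
    (hY : ∀ k ∈ K, ∀ y ∈ Y, k y ∈ Y)
    (hfaith : ∀ k ∈ K, (∀ y ∈ Y, k y = y) → k = 1) (hcard : Nat.card K = Y.card.factorial)
    (σ : Equiv.Perm {y // y ∈ Y}) :
    ∃ k ∈ K, ∀ y : {y // y ∈ Y}, k (y : Ω) = ((σ y : {y // y ∈ Y}) : Ω) := by
  have hfin : Finite K := Nat.finite_of_card_ne_zero (by rw [hcard]; exact Nat.factorial_ne_zero _)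
  have hbij : Function.Bijective (resHom K Y hY) := by
    rw [Nat.bijective_iff_injective_and_card]
    refine ⟨resHom_injective K Y hY hfaith, ?_⟩
    have h2 : Nat.card {y // y ∈ Y} = Y.card := by
      rw [Nat.card_eq_fintype_card, Fintype.card_coe]
    rw [hcard, Nat.card_perm, h2]
  obtain ⟨k, hk⟩ := hbij.2 σ
  refine ⟨k, k.2, fun y => ?_⟩
  rw [← hk]
  rfl

end faithful

end Cfsg.Agent.Lib.Helper8.M24Sub
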