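import Cfsg.Agent.Lib.Helper8.M24Sub
import Cfsg.Agent.Lib.Helper7.M24Main

/-!
Orbit tools for subgroups of the symmetric group, bounds for subgroups of `M24` fixing three
or four points, and the invariant sets of a subgroup of order `40320` of `M24` fixing a point.
-/

set_option autoImplicit false

namespace Cfsg.Agent.Lib.Helper8.M24Sub2

open Cfsg Cfsg.Agent.Lib.Helper35.M24Fix Cfsg.Agent.Lib.Helper35.PermAut
  Cfsg.Agent.Lib.Helper35.M24Aut Cfsg.Agent.Lib.Helper8.M24Sub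
  Cfsg.Agent.Lib.Helper7.M24Main Cfsg.Agent.Lib.Helper7.ChainGen Cfsg.Agent.Lib.Helper7.GolayBase
open scoped Pointwise

section orbits

variable {Ω : Type*} [Fintype Ω] [DecidableEq Ω]

theorem orb_symm {K : Subgroup (Equiv.Perm Ω)} {x y : Ω} (h : y ∈ orb K x) : x ∈ orb K y := by
  obtain ⟨k, hk, rfl⟩ := mem_orb.mp h
  exact mem_orb.mpr ⟨k⁻¹, K.inv_mem hk, k.symm_apply_apply x⟩

theorem orb_disjoint {K : Subgroup (Equiv.Perm Ω)} {u v : Ω} (h : v ∉ orb K u) :
    Disjoint (orb K v) (orb K u) := by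
  rw [Finset.disjoint_left]
  intro w hwv hwu
  apply h
  obtain ⟨k, hk, rfl⟩ := mem_orb.mp hwv
  have h1 := apply_mem_orb hwu (K.inv_mem hk)
  have h2 : k⁻¹ (k v) = v := k.symm_apply_apply v
  rwa [h2] at h1

theorem orb_card_dvd (K : Subgroup (Equiv.Perm Ω)) (x : Ω) : (orb K x).card ∣ Nat.card K :=
  Dvd.intro_left _ (card_eq_mul_orb K x).symm

theorem compl_inv (K : Subgroup (Equiv.Perm Ω)) (Y : Finset Ω)
    (hY : ∀ k ∈ K, ∀ y ∈ Y, k y ∈ Y) : ∀ k ∈ K, ∀ y ∈ Yᶜ, k y ∈ Yᶜ := by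
  intro k hk y hy
  rw [Finset.mem_compl] at hy ⊢
  rwa [apply_mem_iff K Y hY hk]

theorem fix_of_orb_card_one {K : Subgroup (Equiv.Perm Ω)} {u : Ω} (h : (orb K u).card = 1) :
    ∀ k ∈ K, k u = u := by
  intro k hk
  obtain ⟨a, ha⟩ := Finset.card_eq_one.mp h
  have h1 := self_mem_orb K u
  have h2 := apply_mem_orb h1 hk
  rw [ha, Finset.mem_singleton] at h1 h2
  exact h2.trans h1.symm

theorem orb_inv (K : Subgroup (Equiv.Perm Ω)) (x : Ω) : ∀ k ∈ K, ∀ y ∈ orb K x, k y ∈ orb K x :=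
  fun _ hk _ hy => apply_mem_orb hy hk

end orbits

/-- Conjugating a subgroup does not change its order. -/
theorem card_conj (K : Subgroup (Equiv.Perm GolayPt)) (g : Equiv.Perm GolayPt) :
    Nat.card ↥(K.map (MulAut.conj g).toMonoidHom) = Nat.card K :=
  Subgroup.card_map_of_injective (MulAut.conj g).injective

theorem conj_fix (g k : Equiv.Perm GolayPt) (z : GolayPt) (hz : k z = z) :
    (g * k * g⁻¹) (g z) = g z := by
  show g (k (g⁻¹ (g z))) = g z
  have h2 : g⁻¹ (g z) = z := g.symm_apply_apply z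
  rw [h2, hz]

/-- A subgroup of `M24` fixing three points has order dividing `20160`. -/
theorem card_dvd_of_fix3 {K : Subgroup (Equiv.Perm GolayPt)} (hK : K ≤ M24) {x u v : GolayPt}
    (hxu : x ≠ u) (hxv : x ≠ v) (huv : u ≠ v) (hx : ∀ k ∈ K, k x = x) (hu : ∀ k ∈ K, k u = u)
    (hv : ∀ k ∈ K, k v = v) : Nat.card K ∣ 20160 := by
  obtain ⟨g, hg, hmap⟩ := exists_map_base5 [x, u, v] (by simp [hxu, hxv, huv]) (by simp)
  simp only [List.map_cons, List.map_nil, List.length_cons, List.length_nil, base5, List.take,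
    List.cons.injEq, and_true] at hmap
  obtain ⟨h1, h2, h3⟩ := hmap
  have hle : K.map (MulAut.conj g).toMonoidHom ≤ M24 ⊓ FixL [1, 0, 23] := by
    rintro _ ⟨k, hk, rfl⟩
    refine ⟨M24.mul_mem (M24.mul_mem hg (hK hk)) (M24.inv_mem hg), ?_⟩
    intro f hf
    simp only [List.mem_cons, List.not_mem_nil, or_false] at hf
    rcases hf with rfl | rfl | rfl
    · rw [← h3]; exact conj_fix g k v (hv k hk)
    · rw [← h2]; exact conj_fix g k u (hu k hk)
    · rw [← h1]; exact conj_fix g k x (hx k hk)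
  have h := Subgroup.card_dvd_of_le hle
  rw [card_conj, card3] at h
  exact h

/-- A subgroup of `M24` fixing four points has order dividing `960`. -/
theorem card_dvd_of_fix4 {K : Subgroup (Equiv.Perm GolayPt)} (hK : K ≤ M24) {x u v w : GolayPt}
    (hnd : [x, u, v, w].Nodup) (hx : ∀ k ∈ K, k x = x) (hu : ∀ k ∈ K, k u = u)
    (hv : ∀ k ∈ K, k v = v) (hw : ∀ k ∈ K, k w = w) : Nat.card K ∣ 960 := by
  obtain ⟨g, hg, hmap⟩ := exists_map_base5 [x, u, v, w] hnd (by simp)
  simp only [List.map_cons, List.map_nil, List.length_cons, List.length_nil, base5, List.take,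
    List.cons.injEq, and_true] at hmap
  obtain ⟨h1, h2, h3, h4⟩ := hmap
  have hle : K.map (MulAut.conj g).toMonoidHom ≤ M24 ⊓ FixL [2, 1, 0, 23] := by
    rintro _ ⟨k, hk, rfl⟩
    refine ⟨M24.mul_mem (M24.mul_mem hg (hK hk)) (M24.inv_mem hg), ?_⟩
    intro f hf
    simp only [List.mem_cons, List.not_mem_nil, or_false] at hf
    rcases hf with rfl | rfl | rfl | rfl
    · rw [← h4]; exact conj_fix g k w (hw k hk)
    · rw [← h3]; exact conj_fix g k v (hv k hk)
    · rw [← h2]; exact conj_fix g k u (hu k hk)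
    · rw [← h1]; exact conj_fix g k x (hx k hk)
  have h := Subgroup.card_dvd_of_le hle
  rw [card_conj, card4] at h
  exact h

/-- A subgroup of `M24` fixing five points has order dividing `48`. -/
theorem card_dvd_of_fix5 {K : Subgroup (Equiv.Perm GolayPt)} (hK : K ≤ M24)
    {x u v w z : GolayPt}
    (hnd : [x, u, v, w, z].Nodup) (hx : ∀ k ∈ K, k x = x) (hu : ∀ k ∈ K, k u = u)
    (hv : ∀ k ∈ K, k v = v) (hw : ∀ k ∈ K, k w = w) (hz : ∀ k ∈ K, k z = z) :
    Nat.card K ∣ 48 := by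
  obtain ⟨g, hg, hmap⟩ := exists_map_base5 [x, u, v, w, z] hnd (by simp)
  simp only [List.map_cons, List.map_nil, List.length_cons, List.length_nil, base5, List.take,
    List.cons.injEq, and_true] at hmap
  obtain ⟨h1, h2, h3, h4, h5⟩ := hmap
  have hle : K.map (MulAut.conj g).toMonoidHom ≤ M24 ⊓ FixL [3, 2, 1, 0, 23] := by
    rintro _ ⟨k, hk, rfl⟩
    refine ⟨M24.mul_mem (M24.mul_mem hg (hK hk)) (M24.inv_mem hg), ?_⟩
    intro f hf
    simp only [List.mem_cons, List.not_mem_nil, or_false] at hf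
    rcases hf with rfl | rfl | rfl | rfl | rfl
    · rw [← h5]; exact conj_fix g k z (hz k hk)
    · rw [← h4]; exact conj_fix g k w (hw k hk)
    · rw [← h3]; exact conj_fix g k v (hv k hk)
    · rw [← h2]; exact conj_fix g k u (hu k hk)
    · rw [← h1]; exact conj_fix g k x (hx k hk)
  have h := Subgroup.card_dvd_of_le hle
  rw [card_conj, card5] at h
  exact h

/-- Orbit lengths modulo `p`, through the fixed points of an element of order `p`. -/
theorem inv_card_modEq {K : Subgroup (Equiv.Perm GolayPt)} {g : Equiv.Perm GolayPt} (hg : g ∈ K)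
    {p : ℕ} [Fact p.Prime] (hgp : orderOf g = p) (Y : Finset GolayPt)
    (hY : ∀ k ∈ K, ∀ y ∈ Y, k y ∈ Y) :
    Y.card ≡ (Y.filter (fun y => g y = y)).card [MOD p] :=
  card_fixed_modEq g (p := p) (n := 1) (by rw [pow_one, ← hgp, pow_orderOf_eq_one]) Y
    (fun y hy => hY g hg y hy)

end Cfsg.Agent.Lib.Helper8.M24Sub2
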