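import Cfsg.Agent.Lib.Helper8.M22Sub
import Cfsg.Agent.Lib.Helper26.OctadStab

/-!
More tools for subgroups of `M24` inside the symmetric group on the 24 points: pointwise
stabilisers of finsets and the order bounds they give, subgroups of small index of symmetric
groups (through the simplicity of the alternating groups), and a chain argument for subgroups
fixing three points.
-/

set_option autoImplicit false

namespace Cfsg.Agent.Lib.Helper8.M24Sub3

open Cfsg Cfsg.Agent.Lib.Helper35.M24Fix Cfsg.Agent.Lib.Helper35.PermAut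
  Cfsg.Agent.Lib.Helper35.M24Aut Cfsg.Agent.Lib.Helper8.M24Sub Cfsg.Agent.Lib.Helper8.M24Sub2
  Cfsg.Agent.Lib.Helper7.M24Main Cfsg.Agent.Lib.Helper7.ChainGen Cfsg.Agent.Lib.Helper7.GolayBase
open scoped Pointwise

/-- The pointwise stabiliser in `K` of a finset. -/
def fixer (K : Subgroup (Equiv.Perm GolayPt)) (Y : Finset GolayPt) :
    Subgroup (Equiv.Perm GolayPt) where
  carrier := {k | k ∈ K ∧ ∀ y ∈ Y, k y = y}
  one_mem' := ⟨K.one_mem, fun _ _ => rfl⟩
  mul_mem' := by
    rintro a b ⟨ha, ha'⟩ ⟨hb, hb'⟩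
    refine ⟨K.mul_mem ha hb, fun y hy => ?_⟩
    show a (b y) = y
    rw [hb' y hy, ha' y hy]
  inv_mem' := by
    rintro a ⟨ha, ha'⟩
    refine ⟨K.inv_mem ha, fun y hy => ?_⟩
    rw [Equiv.Perm.inv_eq_iff_eq, ha' y hy]

theorem mem_fixer {K : Subgroup (Equiv.Perm GolayPt)} {Y : Finset GolayPt}
    {k : Equiv.Perm GolayPt} : k ∈ fixer K Y ↔ k ∈ K ∧ ∀ y ∈ Y, k y = y := Iff.rfl

theorem fixer_le (K : Subgroup (Equiv.Perm GolayPt)) (Y : Finset GolayPt) : fixer K Y ≤ K :=
  fun _ hk => hk.1

/-- The order of `K` divides the order of the pointwise stabiliser of an invariant finset times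
the factorial of its size. -/
theorem card_dvd_fixer_mul (K : Subgroup (Equiv.Perm GolayPt)) (Y : Finset GolayPt)
    (hY : ∀ k ∈ K, ∀ y ∈ Y, k y ∈ Y) :
    Nat.card K ∣ Nat.card (fixer K Y) * Y.card.factorial := by
  have h1 := Subgroup.card_mul_index (resHom K Y hY).ker
  rw [Subgroup.index_ker] at h1
  have h2 : Nat.card (resHom K Y hY).range ∣ Y.card.factorial := by
    have := Subgroup.card_subgroup_dvd_card (resHom K Y hY).range
    have hY' : Nat.card {y // y ∈ Y} = Y.card := by
      rw [Nat.card_eq_fintype_card, Fintype.card_coe]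
    rwa [Nat.card_perm, hY'] at this
  have hmap : (resHom K Y hY).ker.map K.subtype = fixer K Y := by
    ext k
    constructor
    · rintro ⟨k', hk', rfl⟩
      refine ⟨k'.2, fun y hy => ?_⟩
      have h3 := congrArg (fun σ : Equiv.Perm {y // y ∈ Y} => ((σ ⟨y, hy⟩ : {y // y ∈ Y}) :
        GolayPt)) (MonoidHom.mem_ker.mp hk')
      exact h3
    · rintro ⟨hk, hfix⟩
      refine ⟨⟨k, hk⟩, MonoidHom.mem_ker.mpr ?_, rfl⟩
      apply Equiv.ext
      intro y
      apply Subtype.ext
      exact hfix y y.2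
  have h3 : Nat.card (resHom K Y hY).ker = Nat.card (fixer K Y) := by
    rw [← hmap, Subgroup.card_map_of_injective (Subgroup.subtype_injective K)]
  rw [← h1, h3]
  exact Nat.mul_dvd_mul_left _ h2

/-- The image of `K` in the symmetric group of an invariant finset. -/
theorem card_eq_fixer_mul_range (K : Subgroup (Equiv.Perm GolayPt)) (Y : Finset GolayPt)
    (hY : ∀ k ∈ K, ∀ y ∈ Y, k y ∈ Y) :
    Nat.card K = Nat.card (fixer K Y) * Nat.card (resHom K Y hY).range := by
  have h1 := Subgroup.card_mul_index (resHom K Y hY).ker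
  rw [Subgroup.index_ker] at h1
  have hmap : (resHom K Y hY).ker.map K.subtype = fixer K Y := by
    ext k
    constructor
    · rintro ⟨k', hk', rfl⟩
      refine ⟨k'.2, fun y hy => ?_⟩
      have h3 := congrArg (fun σ : Equiv.Perm {y // y ∈ Y} => ((σ ⟨y, hy⟩ : {y // y ∈ Y}) :
        GolayPt)) (MonoidHom.mem_ker.mp hk')
      exact h3
    · rintro ⟨hk, hfix⟩
      refine ⟨⟨k, hk⟩, MonoidHom.mem_ker.mpr ?_, rfl⟩
      apply Equiv.ext
      intro y
      apply Subtype.ext
      exact hfix y y.2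
  have h3 : Nat.card (resHom K Y hY).ker = Nat.card (fixer K Y) := by
    rw [← hmap, Subgroup.card_map_of_injective (Subgroup.subtype_injective K)]
  rw [← h1, h3]

section fixbounds

variable {N : Subgroup (Equiv.Perm GolayPt)}

/-- A subgroup of `M24` fixing the points of `s` (at most five) embeds by conjugation in the
pointwise stabiliser of base points. -/
theorem card_dvd_fixL (hN : N ≤ M24) (s : Finset GolayPt)
    (hs : ∀ k ∈ N, ∀ z ∈ s, k z = z) (hn : s.card ≤ 5) (L : List Nat)
    (hL : ∀ f ∈ L, pt f ∈ (base5.take s.card).map pt) :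
    Nat.card N ∣ Nat.card ↥(M24 ⊓ FixL L) := by
  obtain ⟨g, hg, hmap⟩ := exists_map_base5 s.toList (Finset.nodup_toList s)
    (by rw [Finset.length_toList]; exact hn)
  rw [Finset.length_toList] at hmap
  have hle : N.map (MulAut.conj g).toMonoidHom ≤ M24 ⊓ FixL L := by
    rintro _ ⟨k, hk, rfl⟩
    refine ⟨M24.mul_mem (M24.mul_mem hg (hN hk)) (M24.inv_mem hg), ?_⟩
    intro f hf
    have h1 := hL f hf
    rw [← hmap, List.mem_map] at h1
    obtain ⟨z, hz, hgz⟩ := h1
    rw [← hgz]
    exact conj_fix g k z (hs k hk z (Finset.mem_toList.mp hz))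
  have h := Subgroup.card_dvd_of_le hle
  rwa [card_conj] at h

theorem fix_dvd1 (hN : N ≤ M24) (S : Finset GolayPt) (hS : ∀ k ∈ N, ∀ z ∈ S, k z = z)
    (h : 1 ≤ S.card) : Nat.card N ∣ 10200960 := by
  obtain ⟨s, hsub, hs⟩ := Finset.exists_subset_card_eq h
  have h1 := card_dvd_fixL hN s (fun k hk z hz => hS k hk z (hsub hz)) (by omega) [23]
    (by rw [hs]; decide)
  rwa [card1] at h1

theorem fix_dvd2 (hN : N ≤ M24) (S : Finset GolayPt) (hS : ∀ k ∈ N, ∀ z ∈ S, k z = z)
    (h : 2 ≤ S.card) : Nat.card N ∣ 443520 := by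
  obtain ⟨s, hsub, hs⟩ := Finset.exists_subset_card_eq h
  have h1 := card_dvd_fixL hN s (fun k hk z hz => hS k hk z (hsub hz)) (by omega) [0, 23]
    (by rw [hs]; decide)
  rwa [card2] at h1

theorem fix_dvd3 (hN : N ≤ M24) (S : Finset GolayPt) (hS : ∀ k ∈ N, ∀ z ∈ S, k z = z)
    (h : 3 ≤ S.card) : Nat.card N ∣ 20160 := by
  obtain ⟨s, hsub, hs⟩ := Finset.exists_subset_card_eq h
  have h1 := card_dvd_fixL hN s (fun k hk z hz => hS k hk z (hsub hz)) (by omega) [1, 0, 23]
    (by rw [hs]; decide)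
  rwa [card3] at h1

theorem fix_dvd4 (hN : N ≤ M24) (S : Finset GolayPt) (hS : ∀ k ∈ N, ∀ z ∈ S, k z = z)
    (h : 4 ≤ S.card) : Nat.card N ∣ 960 := by
  obtain ⟨s, hsub, hs⟩ := Finset.exists_subset_card_eq h
  have h1 := card_dvd_fixL hN s (fun k hk z hz => hS k hk z (hsub hz)) (by omega) [2, 1, 0, 23]
    (by rw [hs]; decide)
  rwa [card4] at h1

theorem fix_dvd5 (hN : N ≤ M24) (S : Finset GolayPt) (hS : ∀ k ∈ N, ∀ z ∈ S, k z = z)
    (h : 5 ≤ S.card) : Nat.card N ∣ 48 := by
  obtain ⟨s, hsub, hs⟩ := Finset.exists_subset_card_eq h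
  have h1 := card_dvd_fixL hN s (fun k hk z hz => hS k hk z (hsub hz)) (by omega)
    [3, 2, 1, 0, 23] (by rw [hs]; decide)
  rwa [card5] at h1

theorem fix_eq9 (hN : N ≤ M24) (S : Finset GolayPt) (hS : ∀ k ∈ N, ∀ z ∈ S, k z = z)
    (h : 9 ≤ S.card) : Nat.card N = 1 := by
  have : N = ⊥ := by
    rw [Subgroup.eq_bot_iff_forall]
    intro k hk
    exact eq_one_of_fix_set (hN hk) S (hS k hk) h
  rw [this, Subgroup.card_bot]

/-- A subgroup fixing eight points: trivial unless the eight points form an octad, and of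
order dividing sixteen in any case. -/
theorem fix_dvd8 (hN : N ≤ M24) (S : Finset GolayPt) (hS : ∀ k ∈ N, ∀ z ∈ S, k z = z)
    (h : S.card = 8) : Nat.card N ∣ 16 ∧ (S ∉ octads → Nat.card N = 1) := by
  have hbot : S ∉ octads → Nat.card N = 1 := by
    intro hno
    have : N = ⊥ := by
      rw [Subgroup.eq_bot_iff_forall]
      intro k hk
      by_contra h1
      exact hno (octad_of_fix_set (hN hk) h1 S (hS k hk) h)
    rw [this, Subgroup.card_bot]
  refine ⟨?_, hbot⟩
  by_cases ho : S ∈ octads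
  · have hle : N ≤ Cfsg.Agent.Lib.Helper26.OctadStab.fix S := by
      intro k hk
      exact Cfsg.Agent.Lib.Helper26.OctadStab.mem_fix.mpr ⟨hN hk, hS k hk⟩
    have := Subgroup.card_dvd_of_le hle
    rwa [Cfsg.Agent.Lib.Helper26.OctadStab.card_fix ho] at this
  · rw [hbot ho]
    norm_num

end fixbounds

section alt

variable {β : Type*} [Fintype β] [DecidableEq β]

theorem card_inf_alt (I : Subgroup (Equiv.Perm β)) :
    Nat.card ↥(I ⊓ alternatingGroup β) = Nat.card I ∨
      2 * Nat.card ↥(I ⊓ alternatingGroup β) = Nat.card I := by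
  have h1 := Subgroup.card_mul_index ((Equiv.Perm.sign (α := β)).comp I.subtype).ker
  rw [Subgroup.index_ker] at h1
  have hmap : ((Equiv.Perm.sign (α := β)).comp I.subtype).ker.map I.subtype =
      I ⊓ alternatingGroup β := by
    ext g
    constructor
    · rintro ⟨g', hg', rfl⟩
      exact ⟨g'.2, Equiv.Perm.mem_alternatingGroup.mpr (MonoidHom.mem_ker.mp hg')⟩
    · rintro ⟨hg, hg'⟩
      exact ⟨⟨g, hg⟩, MonoidHom.mem_ker.mpr (Equiv.Perm.mem_alternatingGroup.mp hg'), rfl⟩
  have h3 : Nat.card ((Equiv.Perm.sign (α := β)).comp I.subtype).ker =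
      Nat.card ↥(I ⊓ alternatingGroup β) := by
    rw [← hmap, Subgroup.card_map_of_injective (Subgroup.subtype_injective I)]
  have h4 : Nat.card ((Equiv.Perm.sign (α := β)).comp I.subtype).range ∣ 2 := by
    have := Subgroup.card_subgroup_dvd_card ((Equiv.Perm.sign (α := β)).comp I.subtype).range
    rwa [Nat.card_eq_fintype_card (α := ℤˣ), Fintype.card_units_int] at this
  rw [h3] at h1
  rcases (Nat.dvd_prime Nat.prime_two).mp h4 with h | h
  · left
    rw [h, mul_one] at h1
    exact h1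
  · right
    rw [h, mul_comm] at h1
    exact h1

/-- A subgroup of a symmetric group of degree at least five contains the alternating group, or
its intersection with the alternating group has an index `m` with `|Alt|` dividing `m!`. -/
theorem alt_dichotomy (h5 : 5 ≤ Nat.card β) (I : Subgroup (Equiv.Perm β)) :
    alternatingGroup β ≤ I ∨ ∃ j m : ℕ, (j = Nat.card I ∨ 2 * j = Nat.card I) ∧
      j * m = Nat.card (alternatingGroup β) ∧ Nat.card (alternatingGroup β) ∣ m.factorial := by
  have hsimp := alternatingGroup.isSimpleGroup h5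
  by_cases htop : I.subgroupOf (alternatingGroup β) = ⊤
  · left
    intro g hg
    have : (⟨g, hg⟩ : alternatingGroup β) ∈ I.subgroupOf (alternatingGroup β) := by
      rw [htop]
      exact Subgroup.mem_top _
    exact Subgroup.mem_subgroupOf.mp this
  · right
    have hj : Nat.card (I.subgroupOf (alternatingGroup β)) =
        Nat.card ↥(I ⊓ alternatingGroup β) := by
      rw [← Subgroup.subgroupOf_map_subtype,
        Subgroup.card_map_of_injective (Subgroup.subtype_injective _)]
    refine ⟨Nat.card (I.subgroupOf (alternatingGroup β)),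
      (I.subgroupOf (alternatingGroup β)).index, ?_, Subgroup.card_mul_index _, ?_⟩
    · rw [hj]
      exact card_inf_alt I
    · have hcore : (I.subgroupOf (alternatingGroup β)).normalCore = ⊥ := by
        rcases (Subgroup.normalCore_normal
          (I.subgroupOf (alternatingGroup β))).eq_bot_or_eq_top with h | h
        · exact h
        · exfalso
          apply htop
          rw [eq_top_iff, ← h]
          exact Subgroup.normalCore_le _
      have hinj : Function.Injective (MulAction.toPermHom (alternatingGroup β)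
          (alternatingGroup β ⧸ I.subgroupOf (alternatingGroup β))) := by
        rw [← MonoidHom.ker_eq_bot_iff, ← Subgroup.normalCore_eq_ker, hcore]
      have := Subgroup.card_dvd_of_injective _ hinj
      rwa [Nat.card_perm, ← Subgroup.index_eq_card] at this

end alt

/-- The image of `K` on an invariant set `Y` of at least five points: it contains the
alternating group, or its even part has an index `m` in the alternating group with
`|Y|!` dividing `2 * m!`. -/
theorem img_dichotomy (K : Subgroup (Equiv.Perm GolayPt)) (Y : Finset GolayPt)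
    (hY : ∀ k ∈ K, ∀ y ∈ Y, k y ∈ Y) (h5 : 5 ≤ Y.card) :
    ∃ i : ℕ, Nat.card K = Nat.card (fixer K Y) * i ∧
      (Y.card.factorial ∣ 2 * i ∨ ∃ j m : ℕ, (j = i ∨ 2 * j = i) ∧
        2 * (j * m) = Y.card.factorial ∧ Y.card.factorial ∣ 2 * m.factorial) := by
  have hY' : Nat.card {y // y ∈ Y} = Y.card := by
    rw [Nat.card_eq_fintype_card, Fintype.card_coe]
  have : Nontrivial {y // y ∈ Y} := by
    rw [← Fintype.one_lt_card_iff_nontrivial, Fintype.card_coe]
    omega
  have hA := two_mul_nat_card_alternatingGroup (α := {y // y ∈ Y})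
  rw [Nat.card_perm, hY'] at hA
  refine ⟨Nat.card (resHom K Y hY).range, card_eq_fixer_mul_range K Y hY, ?_⟩
  rcases alt_dichotomy (by rw [hY']; exact h5) (resHom K Y hY).range with
    h | ⟨j, m, hj, hjm, hdvd⟩
  · left
    rw [← hA]
    exact Nat.mul_dvd_mul_left 2 (Subgroup.card_dvd_of_le h)
  · right
    refine ⟨j, m, hj, by rw [hjm, hA], ?_⟩
    rw [← hA]
    exact Nat.mul_dvd_mul_left 2 hdvd

/-- A subgroup of `M24` fixing three points, of order divisible by `105` but not by `63`, does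
not exist. -/
theorem chain3 {K3 : Subgroup (Equiv.Perm GolayPt)} (hK : K3 ≤ M24) {u v w : GolayPt}
    (huv : u ≠ v) (huw : u ≠ w) (hvw : v ≠ w) (hu : ∀ k ∈ K3, k u = u) (hv : ∀ k ∈ K3, k v = v)
    (hw : ∀ k ∈ K3, k w = w) (h105 : 105 ∣ Nat.card K3) (h63 : ¬ 63 ∣ Nat.card K3) : False := by
  have : Fact (Nat.Prime 3) := ⟨by norm_num⟩
  have : Fact (Nat.Prime 5) := ⟨by norm_num⟩
  have : Fact (Nat.Prime 7) := ⟨by norm_num⟩
  obtain ⟨g7, hg7K, hg7⟩ := exists_order K3 7 (Dvd.dvd.trans (by norm_num) h105)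
  obtain ⟨g5, hg5K, hg5⟩ := exists_order K3 5 (Dvd.dvd.trans (by norm_num) h105)
  obtain ⟨t, htK, ht3⟩ := exists_order K3 3 (Dvd.dvd.trans (by norm_num) h105)
  have hS3 : ({u, v, w} : Finset GolayPt).card = 3 := by
    rw [Finset.card_insert_of_notMem, Finset.card_pair hvw]
    simp [huv, huw]
  have hSfix : ∀ k ∈ K3, ∀ z ∈ ({u, v, w} : Finset GolayPt), k z = z := by
    intro k hk z hz
    simp only [Finset.mem_insert, Finset.mem_singleton] at hz
    rcases hz with hz | hz | hz
    · rw [hz]; exact hu k hk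
    · rw [hz]; exact hv k hk
    · rw [hz]; exact hw k hk
  have h7fix : ∀ y, g7 y = y → y ∈ ({u, v, w} : Finset GolayPt) :=
    fixed_subset g7 {u, v, w} (hSfix g7 hg7K) (by rw [card_fixedPts_7 (hK hg7K) hg7, hS3])
  obtain ⟨z, hzS, hg5z⟩ := fixed_exists g5 {u, v, w}
    (by rw [card_fixedPts_5 (hK hg5K) hg5, hS3]; norm_num)
  have h5fix : ∀ y, g5 y = y → y ∈ insert z ({u, v, w} : Finset GolayPt) :=
    fixed_subset g5 (insert z {u, v, w}) (by
      intro y hy
      rcases Finset.mem_insert.mp hy with hy | hy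
      · rw [hy]; exact hg5z
      · exact hSfix g5 hg5K y hy)
      (by rw [card_fixedPts_5 (hK hg5K) hg5, Finset.card_insert_of_notMem hzS, hS3])
  have hSorb : ∀ y ∈ ({u, v, w} : Finset GolayPt), y ∉ orb K3 z := by
    intro y hy
    exact notMem_orb_of_fixed (fun k hk => hSfix k hk y hy) (fun h => hzS (h ▸ hy))
  have hm5 := orb_card_mod_one hg5K hg5 hg5z (fun y hy hgy => by
    rcases Finset.mem_insert.mp (h5fix y hgy) with h | h
    · exact h
    · exact absurd hy (hSorb y h))
  have hm7 := orb_card_mod_zero hg7K hg7 (x := z) (fun y hy hgy => hSorb y (h7fix y hgy) hy)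
  have hsub : orb K3 z ⊆ ({u, v, w} : Finset GolayPt)ᶜ := fun y hy =>
    Finset.mem_compl.mpr (fun h => hSorb y h hy)
  have hle := Finset.card_le_card hsub
  rw [Finset.card_compl, card_golayPt, hS3] at hle
  have hpos := orb_card_pos K3 z
  have h21 : (orb K3 z).card = 21 := by omega
  have horb : orb K3 z = ({u, v, w} : Finset GolayPt)ᶜ :=
    Finset.eq_of_subset_of_card_le hsub (by rw [Finset.card_compl, card_golayPt, hS3, h21])
  have hc6 : (fixedPts t).card = 6 := by
    rcases Cfsg.Agent.Lib.Helper86.Ord3.ord3_fix (hK htK) ht3 with h | h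
    · exact h
    · exfalso
      have h' : fixedPts t = ∅ := h
      have hu' : u ∈ fixedPts t := mem_fixedPts.mpr (hu t htK)
      rw [h'] at hu'
      exact absurd hu' (Finset.notMem_empty u)
  obtain ⟨y, hyS, hty⟩ := fixed_exists t {u, v, w} (by rw [hc6, hS3]; norm_num)
  have hy : y ∈ orb K3 z := by
    rw [horb]
    exact Finset.mem_compl.mpr hyS
  obtain ⟨k, hk, hkz⟩ := mem_orb.mp (orb_symm hy)
  have hmem : k * t * k⁻¹ ∈ K3 ⊓ MulAction.stabilizer (Equiv.Perm GolayPt) z := by
    refine ⟨K3.mul_mem (K3.mul_mem hk htK) (K3.inv_mem hk), MulAction.mem_stabilizer_iff.mpr ?_⟩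
    rw [← hkz]
    exact conj_fix k t y hty
  have ht1 : t ^ 3 = 1 := by
    rw [← ht3]
    exact pow_orderOf_eq_one t
  have ho : orderOf (k * t * k⁻¹) = 3 := by
    apply orderOf_eq_prime
    · rw [conj_pow, ht1]
      group
    · intro h1
      have : t = 1 := by
        have h2 : t = k⁻¹ * (k * t * k⁻¹) * k := by group
        rw [h2, h1]
        group
      rw [this, orderOf_one] at ht3
      omega
  have hdvd := Subgroup.orderOf_dvd_natCard _ hmem
  rw [ho] at hdvd
  have hmul := card_eq_mul_orb K3 z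
  rw [h21] at hmul
  apply h63
  rw [hmul]
  obtain ⟨c, hc⟩ := hdvd
  exact ⟨c, by rw [hc]; ring⟩

/-- A subgroup of `M24` fixing six points has order prime to six. -/
theorem fix6_not_six_dvd {N : Subgroup (Equiv.Perm GolayPt)} (hN : N ≤ M24) (S : Finset GolayPt)
    (hS : ∀ k ∈ N, ∀ z ∈ S, k z = z) (h6 : S.card = 6) : ¬ 6 ∣ Nat.card N := by
  intro hdvd
  have : Fact (Nat.Prime 3) := ⟨by norm_num⟩
  have : Fact (Nat.Prime 2) := ⟨by norm_num⟩
  obtain ⟨a, haN, ha3⟩ := exists_order N 3 (Dvd.dvd.trans (by norm_num) hdvd)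
  obtain ⟨t, htN, ht2⟩ := exists_order N 2 (Dvd.dvd.trans (by norm_num) hdvd)
  obtain ⟨p, hp⟩ : S.Nonempty := by
    rw [← Finset.card_pos, h6]
    norm_num
  obtain ⟨ho, h8⟩ := inv_fix_octad (hN htN) ht2 (hS t htN p hp)
  have hSo : S ⊆ fixedPts t := fun z hz => mem_fixedPts.mpr (hS t htN z hz)
  have hc6 : (fixedPts a).card = 6 := by
    rcases Cfsg.Agent.Lib.Helper86.Ord3.ord3_fix (hN haN) ha3 with h | h
    · exact h
    · exfalso
      have h' : fixedPts a = ∅ := h
      have hp' : p ∈ fixedPts a := mem_fixedPts.mpr (hS a haN p hp)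
      rw [h'] at hp'
      exact absurd hp' (Finset.notMem_empty p)
  have hpres := apply_mem_octad (hN haN) ho (s := S) (by rw [h6]; norm_num) hSo
    (fun z hz => by rw [hS a haN z hz]; exact hSo hz)
  have hE : ∀ z ∈ fixedPts t \ S, a z ∈ fixedPts t \ S := by
    intro z hz
    rw [Finset.mem_sdiff] at hz ⊢
    refine ⟨(hpres z).mp hz.1, fun h => hz.2 ?_⟩
    have h1 : a z = z := a.injective (hS a haN (a z) h)
    rw [← h1]
    exact h
  have ha1 : a ^ 3 ^ 1 = 1 := by
    rw [pow_one, ← ha3]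
    exact pow_orderOf_eq_one a
  have hm := card_fixed_modEq a (p := 3) (n := 1) ha1 (fixedPts t \ S) hE
  have hcE : (fixedPts t \ S).card = 2 := by
    rw [Finset.card_sdiff_of_subset hSo, h8, h6]
  rw [hcE] at hm
  have hle := Finset.card_filter_le (fixedPts t \ S) (fun y => a y = y)
  rw [hcE] at hle
  have hm' : 2 % 3 = ((fixedPts t \ S).filter (fun y => a y = y)).card % 3 := hm
  have hF : ((fixedPts t \ S).filter (fun y => a y = y)).card = 2 := by omega
  have hFeq : (fixedPts t \ S).filter (fun y => a y = y) = fixedPts t \ S :=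
    Finset.eq_of_subset_of_card_le (Finset.filter_subset _ _) (by rw [hF, hcE])
  have hsub : fixedPts t ⊆ fixedPts a := by
    intro z hz
    by_cases hzS : z ∈ S
    · exact mem_fixedPts.mpr (hS a haN z hzS)
    · have : z ∈ (fixedPts t \ S).filter (fun y => a y = y) := by
        rw [hFeq]
        exact Finset.mem_sdiff.mpr ⟨hz, hzS⟩
      exact mem_fixedPts.mpr (Finset.mem_filter.mp this).2
  have := Finset.card_le_card hsub
  omega

/-- Orbit lengths of point stabilisers are invariant under conjugation. -/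
theorem orb_conj_le (K : Subgroup (Equiv.Perm GolayPt)) {k : Equiv.Perm GolayPt} (hk : k ∈ K)
    (x y : GolayPt) :
    (orb (K ⊓ MulAction.stabilizer (Equiv.Perm GolayPt) x) y).card ≤
      (orb (K ⊓ MulAction.stabilizer (Equiv.Perm GolayPt) (k x)) (k y)).card := by
  apply Finset.card_le_card_of_injOn (fun z => k z)
  · intro z hz
    obtain ⟨j, hj, hjz⟩ := mem_orb.mp (Finset.mem_coe.mp hz)
    refine Finset.mem_coe.mpr (mem_orb.mpr ⟨k * j * k⁻¹, ⟨K.mul_mem (K.mul_mem hk hj.1)
      (K.inv_mem hk), MulAction.mem_stabilizer_iff.mpr ?_⟩, ?_⟩)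
    · exact conj_fix k j x (MulAction.mem_stabilizer_iff.mp hj.2)
    · show k (j (k⁻¹ (k y))) = k z
      have h2 : k⁻¹ (k y) = y := k.symm_apply_apply y
      rw [h2, hjz]
  · intro a _ b _ hab
    exact k.injective hab

theorem orb_conj_card (K : Subgroup (Equiv.Perm GolayPt)) {k : Equiv.Perm GolayPt} (hk : k ∈ K)
    (x y : GolayPt) :
    (orb (K ⊓ MulAction.stabilizer (Equiv.Perm GolayPt) (k x)) (k y)).card =
      (orb (K ⊓ MulAction.stabilizer (Equiv.Perm GolayPt) x) y).card := by
  apply le_antisymm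
  · have h := orb_conj_le K (K.inv_mem hk) (k x) (k y)
    have h2 : k⁻¹ (k x) = x := k.symm_apply_apply x
    have h3 : k⁻¹ (k y) = y := k.symm_apply_apply y
    rw [h2, h3] at h
    exact h
  · exact orb_conj_le K hk x y

end Cfsg.Agent.Lib.Helper8.M24Sub3
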