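import Cfsg.Agent.Lib.Helper68.MixStmt

/-!
# S4017 piece EVEN: proper subgroups of order divisible by `q` are `{p,q}`-groups.
-/

set_option autoImplicit false

namespace Cfsg.Agent.Lib.Helper8.MixEVEN

open Cfsg.Agent.Lib.Helper68 Subgroup

universe u

theorem main (hSUB : MixStmt.SUB.{u}) : MixStmt.EVEN.{u} := by
  intro G _ _ p q hyp hIH H hH hqH
  by_cases hpH : p ∣ Nat.card H
  · have hH' := hSUB G p q hyp H hpH hqH
    have hlt : Nat.card H < Nat.card G := by
      have hle : Nat.card H ≤ Nat.card G := Subgroup.card_le_card_group H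
      have hne : Nat.card H ≠ Nat.card G := fun h => hH ((Subgroup.card_eq_iff_eq_top H).mp h)
      omega
    exact hIH H p q hlt hH'
  · obtain ⟨hp, hq, hpq, hp2, hpG, hqG, hmix, hlarge⟩ := hyp
    have hHq : IsPGroup q H := by
      by_contra h
      exact hpH (hmix H hH h hqH)
    have := Fact.mk hq
    obtain ⟨n, hn⟩ := IsPGroup.iff_card.mp hHq
    intro r hr hrd
    right
    rw [hn] at hrd
    exact (Nat.prime_dvd_prime_iff_eq hr hq).mp (hr.dvd_of_dvd_pow hrd)

end Cfsg.Agent.Lib.Helper8.MixEVEN
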