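import Cfsg.Agent.Lib.Helper68.MixStmt

/-!
# S4017 piece OP: there is no nontrivial normal `p`-subgroup.
-/

set_option autoImplicit false

namespace Cfsg.Agent.Lib.Helper8.MixOP

open Cfsg.Agent.Lib.Helper68 Subgroup

universe u

theorem main (hQUO : MixStmt.QUO.{u}) : MixStmt.OP.{u} := by
  intro G _ _ p Q y hyp hE hIH hnot hQ2 hyN hy hyC A hAn hA
  by_contra hAne
  have hyp' := hyp
  obtain ⟨hp, hq, hpq, hp2, hpG, hqG, hmix, hlarge⟩ := hyp'
  have := hAn
  have := Fact.mk hp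
  have hcard : Nat.card G = Nat.card (G ⧸ A) * Nat.card A :=
    Subgroup.card_eq_card_quotient_mul_card_subgroup A
  obtain ⟨n, hn⟩ := IsPGroup.iff_card.mp hA
  by_cases hpGA : p ∣ Nat.card (G ⧸ A)
  · have hH := hQUO G p 2 hyp hE A hA hpGA
    have hlt : Nat.card (G ⧸ A) < Nat.card G := by
      have h1 : 1 < Nat.card A := (Subgroup.one_lt_card_iff_ne_bot A).mpr hAne
      have h2 : 0 < Nat.card (G ⧸ A) := Nat.card_pos
      rw [hcard]; nlinarith
    have hPQ := hIH (G ⧸ A) p 2 hlt hH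
    apply hnot
    intro r hr hrd
    rw [hcard, hn] at hrd
    rcases (Nat.Prime.dvd_mul hr).mp hrd with h | h
    · exact hPQ r hr h
    · left; exact (Nat.prime_dvd_prime_iff_eq hr hp).mp (hr.dvd_of_dvd_pow h)
  · obtain ⟨k, hk⟩ := hy
    have hyA : y ∈ A := by
      have h1 : orderOf (QuotientGroup.mk' A y) ∣ p ^ k := by
        rw [← hk]; exact orderOf_map_dvd _ y
      have h2 : orderOf (QuotientGroup.mk' A y) ∣ Nat.card (G ⧸ A) := orderOf_dvd_natCard _
      have h3 : Nat.Coprime (p ^ k) (Nat.card (G ⧸ A)) :=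
        Nat.Coprime.pow_left _ ((Nat.Prime.coprime_iff_not_dvd hp).mpr hpGA)
      have h4 : orderOf (QuotientGroup.mk' A y) = 1 := Nat.eq_one_of_dvd_coprimes h3 h1 h2
      rw [orderOf_eq_one_iff] at h4
      exact (QuotientGroup.eq_one_iff y).mp h4
    apply hyC
    rw [Subgroup.mem_centralizer_iff]
    intro s hs
    have hs' : y * s * y⁻¹ ∈ Q := (Subgroup.mem_normalizer_iff.mp hyN s).mp hs
    have h1 : y * s * y⁻¹ * s⁻¹ ∈ Q := Q.mul_mem hs' (Q.inv_mem hs)
    have h2 : y * s * y⁻¹ * s⁻¹ ∈ A := by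
      have h : s * y⁻¹ * s⁻¹ ∈ A := hAn.conj_mem _ (A.inv_mem hyA) s
      have h' := A.mul_mem hyA h
      simpa [mul_assoc] using h'
    have h3 : y * s * y⁻¹ * s⁻¹ = 1 := by
      have hdisj : Disjoint Q A := IsPGroup.disjoint_of_ne 2 p (Ne.symm hp2) Q A hQ2 hA
      exact Subgroup.disjoint_def.mp hdisj h1 h2
    have h4 : y * s = s * y := by
      have h5 : y * s * y⁻¹ = s := by
        rw [mul_inv_eq_one] at h3; exact h3
      rw [mul_inv_eq_iff_eq_mul] at h5
      exact h5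
    exact h4.symm

end Cfsg.Agent.Lib.Helper8.MixOP
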