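import Cfsg.Agent.Lib.Helper68.MixStmt

/-!
# S4017 piece SUB: the hypotheses pass to subgroups of order divisible by `p` and `q`.
-/

set_option autoImplicit false

namespace Cfsg.Agent.Lib.Helper8.MixSUB

open Cfsg.Agent.Lib.Helper68 Subgroup

universe u

/-- A `p`-subgroup of a group whose Sylow `p`-subgroups are commutative is commutative
(elementwise form). -/
theorem comm_of_pgroup {G : Type u} [Group G] [Finite G] {p : ℕ} (hp : p.Prime)
    (hcomm : ∀ P : Sylow p G, IsMulCommutative P) {K : Subgroup G} (hK : IsPGroup p K)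
    {x y : G} (hx : x ∈ K) (hy : y ∈ K) : x * y = y * x := by
  haveI := Fact.mk hp
  obtain ⟨S, hS⟩ := hK.exists_le_sylow
  have hS' := hcomm S
  have h := hS'.is_comm.comm ⟨x, hS hx⟩ ⟨y, hS hy⟩
  exact congrArg Subtype.val h

theorem main : MixStmt.SUB.{u} := by
  intro G _ _ p q hyp H hpH hqH
  obtain ⟨hp, hq, hpq, hp2, hpG, hqG, hmix, hlarge⟩ := hyp
  refine ⟨hp, hq, hpq, hp2, hpH, hqH, ?_, ?_⟩
  · intro K hK hKq hqK
    have hcard : Nat.card (K.map H.subtype) = Nat.card K :=
      Subgroup.card_map_of_injective H.subtype_injective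
    have hne : K.map H.subtype ≠ ⊤ := by
      intro h
      apply hK
      rw [eq_top_iff]
      intro x _
      have hx : (x : G) ∈ K.map H.subtype := by rw [h]; trivial
      obtain ⟨y, hy, hxy⟩ := hx
      have hyx : y = x := Subtype.ext hxy
      rwa [← hyx]
    have hnq : ¬ IsPGroup q (K.map H.subtype) := by
      intro h
      apply hKq
      haveI := Fact.mk hq
      rw [IsPGroup.iff_card] at h ⊢
      rw [← hcard]; exact h
    have h := hmix _ hne hnq (by rw [hcard]; exact hqK)
    rwa [hcard] at h
  · have hdvd : Nat.card H ∣ Nat.card G := Subgroup.card_subgroup_dvd_card H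
    have hle : (Nat.card H).factorization q ≤ (Nat.card G).factorization q :=
      (Nat.factorization_le_iff_dvd (Nat.card_pos.ne') (Nat.card_pos.ne')).mpr hdvd q
    rcases hle.lt_or_eq with hlt | heq
    · left
      have h1 : q ^ (Nat.card H).factorization q < q ^ (Nat.card G).factorization q :=
        Nat.pow_lt_pow_right hq.one_lt hlt
      have h2 : q ^ (Nat.card G).factorization q - 1 ≤ p := by
        rcases hlarge with h | ⟨h, _⟩
        · exact h.le
        · exact h.ge
      have h3 : 0 < q ^ (Nat.card H).factorization q := pos_of_ne_zero (pow_ne_zero _ hq.ne_zero)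
      omega
    · rw [heq]
      rcases hlarge with h | ⟨h, hcomm⟩
      · left; exact h
      · right
        refine ⟨h, ?_⟩
        intro P
        haveI := Fact.mk hp
        have hPmap : IsPGroup p ((P : Subgroup H).map H.subtype) := P.isPGroup'.map H.subtype
        refine ⟨⟨fun x y => ?_⟩⟩
        have hx : ((x : H) : G) ∈ (P : Subgroup H).map H.subtype := ⟨x, x.2, rfl⟩
        have hy : ((y : H) : G) ∈ (P : Subgroup H).map H.subtype := ⟨y, y.2, rfl⟩
        have hxy := comm_of_pgroup hp hcomm hPmap hx hy
        apply Subtype.ext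
        apply Subtype.ext
        exact hxy

end Cfsg.Agent.Lib.Helper8.MixSUB
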