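import Cfsg.Agent.Lib.Helper68.MixStmt
import Cfsg.Agent.Lib.Helper8.MixSUB

/-!
# S4017 piece QUO: the hypotheses pass to the quotient by a normal `p`-subgroup.
-/

set_option autoImplicit false

namespace Cfsg.Agent.Lib.Helper8.MixQUO

open Cfsg.Agent.Lib.Helper68 Subgroup

universe u

/-- The order of the full preimage of a subgroup of the quotient. -/
theorem card_comap_mk {G : Type u} [Group G] [Finite G] (A : Subgroup G) [A.Normal]
    (Hb : Subgroup (G ⧸ A)) :
    Nat.card (Hb.comap (QuotientGroup.mk' A)) = Nat.card Hb * Nat.card A := by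
  have h1 : Nat.card (Hb.comap (QuotientGroup.mk' A)) * (Hb.comap (QuotientGroup.mk' A)).index
      = Nat.card G := Subgroup.card_mul_index _
  have h2 : (Hb.comap (QuotientGroup.mk' A)).index = Hb.index :=
    Subgroup.index_comap_of_surjective Hb (QuotientGroup.mk'_surjective A)
  have h3 : Nat.card Hb * Hb.index = Nat.card (G ⧸ A) := Subgroup.card_mul_index _
  have h4 : Nat.card G = Nat.card (G ⧸ A) * Nat.card A :=
    Subgroup.card_eq_card_quotient_mul_card_subgroup A
  have h5 : Hb.index ≠ 0 := Subgroup.index_ne_zero_of_finite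
  rw [h2] at h1
  have h6 : Nat.card (Hb.comap (QuotientGroup.mk' A)) * Hb.index
      = (Nat.card Hb * Nat.card A) * Hb.index := by
    rw [h1, h4, ← h3]; ring
  exact Nat.eq_of_mul_eq_mul_right (Nat.pos_of_ne_zero h5) h6

theorem main : MixStmt.QUO.{u} := by
  intro G _ _ p q hyp hE A _ hA hpGA
  obtain ⟨hp, hq, hpq, hp2, hpG, hqG, hmix, hlarge⟩ := hyp
  have := Fact.mk hp
  have hcard : Nat.card G = Nat.card (G ⧸ A) * Nat.card A :=
    Subgroup.card_eq_card_quotient_mul_card_subgroup A
  obtain ⟨n, hn⟩ := IsPGroup.iff_card.mp hA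
  have hcop : Nat.Coprime q (p ^ n) :=
    Nat.Coprime.pow_right _ ((Nat.coprime_primes hq hp).mpr (Ne.symm hpq))
  have hfac : (Nat.card (G ⧸ A)).factorization q = (Nat.card G).factorization q := by
    rw [hcard, hn, Nat.factorization_mul (Nat.card_pos.ne') (pow_ne_zero _ hp.ne_zero)]
    simp [Nat.factorization_pow, hp.factorization, Finsupp.single_apply, hpq]
  have hqGA : q ∣ Nat.card (G ⧸ A) := by
    rw [hcard, hn] at hqG
    exact hcop.dvd_of_dvd_mul_right hqG
  refine ⟨hp, hq, hpq, hp2, hpGA, hqGA, ?_, ?_⟩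
  · intro Hb hHb hHbq hqHb
    have hHcard := card_comap_mk A Hb
    have hHne : Hb.comap (QuotientGroup.mk' A) ≠ ⊤ := by
      intro h
      apply hHb
      rw [eq_top_iff]
      intro x _
      obtain ⟨a, rfl⟩ := QuotientGroup.mk'_surjective A x
      have ha : a ∈ Hb.comap (QuotientGroup.mk' A) := by rw [h]; trivial
      exact ha
    have hqH : q ∣ Nat.card (Hb.comap (QuotientGroup.mk' A)) := by
      rw [hHcard]; exact dvd_mul_of_dvd_left hqHb _
    have hPQ := hE _ hHne hqH
    by_contra hpHb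
    apply hHbq
    have := Fact.mk hq
    have hall : ∀ r : ℕ, r.Prime → r ∣ Nat.card Hb → r = q := by
      intro r hr hrd
      rcases hPQ r hr (by rw [hHcard]; exact dvd_mul_of_dvd_left hrd _) with h | h
      · exact absurd (h ▸ hrd) hpHb
      · exact h
    rw [IsPGroup.iff_card]
    exact ⟨_, Nat.eq_prime_pow_of_unique_prime_dvd (Nat.card_pos.ne')
      (fun {r} hr hrd => hall r hr hrd)⟩
  · rw [hfac]
    rcases hlarge with h | ⟨h, hcomm⟩
    · left; exact h
    · right
      refine ⟨h, ?_⟩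
      intro P
      have hK : IsPGroup p ((P : Subgroup (G ⧸ A)).comap (QuotientGroup.mk' A)) := by
        apply IsPGroup.comap_of_ker_isPGroup P.isPGroup'
        rw [QuotientGroup.ker_mk']
        exact hA
      refine ⟨⟨fun x y => ?_⟩⟩
      obtain ⟨a, ha⟩ := QuotientGroup.mk'_surjective A (x : G ⧸ A)
      obtain ⟨b, hb⟩ := QuotientGroup.mk'_surjective A (y : G ⧸ A)
      have haK : a ∈ (P : Subgroup (G ⧸ A)).comap (QuotientGroup.mk' A) := by
        show QuotientGroup.mk' A a ∈ (P : Subgroup (G ⧸ A))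
        rw [ha]; exact x.2
      have hbK : b ∈ (P : Subgroup (G ⧸ A)).comap (QuotientGroup.mk' A) := by
        show QuotientGroup.mk' A b ∈ (P : Subgroup (G ⧸ A))
        rw [hb]; exact y.2
      have hab := MixSUB.comm_of_pgroup hp hcomm hK haK hbK
      apply Subtype.ext
      show (x : G ⧸ A) * (y : G ⧸ A) = (y : G ⧸ A) * (x : G ⧸ A)
      rw [← ha, ← hb, ← map_mul, ← map_mul, hab]

end Cfsg.Agent.Lib.Helper8.MixQUO
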