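import Cfsg.Agent.Lib.Helper8.M24Sub3

/-!
Bookkeeping tools for orbit analyses of subgroups of `M24`: point stabilisers, invariant sets,
fixed-point congruences, named fixed points of elements of prime order, and the order bounds
coming from small invariant sets.
-/

set_option autoImplicit false

namespace Cfsg.Agent.Lib.Helper8.OrbTools

open Cfsg Cfsg.Agent.Lib.Helper35.M24Fix Cfsg.Agent.Lib.Helper35.PermAut
  Cfsg.Agent.Lib.Helper35.M24Aut Cfsg.Agent.Lib.Helper8.M24Sub Cfsg.Agent.Lib.Helper8.M24Sub2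
  Cfsg.Agent.Lib.Helper8.M24Sub3
open scoped Pointwise

variable {K : Subgroup (Equiv.Perm GolayPt)}

/-- The stabiliser of a point in `K`. -/
def stb (K : Subgroup (Equiv.Perm GolayPt)) (x : GolayPt) : Subgroup (Equiv.Perm GolayPt) :=
  K ⊓ MulAction.stabilizer (Equiv.Perm GolayPt) x

theorem stb_def (K : Subgroup (Equiv.Perm GolayPt)) (x : GolayPt) :
    stb K x = K ⊓ MulAction.stabilizer (Equiv.Perm GolayPt) x := rfl

theorem mem_stb {x : GolayPt} {k : Equiv.Perm GolayPt} : k ∈ stb K x ↔ k ∈ K ∧ k x = x := by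
  rw [stb_def, Subgroup.mem_inf, MulAction.mem_stabilizer_iff]
  rfl

theorem stb_le (K : Subgroup (Equiv.Perm GolayPt)) (x : GolayPt) : stb K x ≤ K := inf_le_left

theorem stb_fix (K : Subgroup (Equiv.Perm GolayPt)) (x : GolayPt) : ∀ k ∈ stb K x, k x = x :=
  fun _ hk => (mem_stb.mp hk).2

theorem card_stb (K : Subgroup (Equiv.Perm GolayPt)) (x : GolayPt) :
    Nat.card K = Nat.card (stb K x) * (orb K x).card := card_eq_mul_orb K x

theorem stb_comm (K : Subgroup (Equiv.Perm GolayPt)) (x y : GolayPt) :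
    stb (stb K x) y = stb (stb K y) x := by
  ext k
  simp only [mem_stb]
  tauto

/-- Invariance of a finset under a subgroup. -/
abbrev Inv (K : Subgroup (Equiv.Perm GolayPt)) (Y : Finset GolayPt) : Prop :=
  ∀ k ∈ K, ∀ y ∈ Y, k y ∈ Y

theorem inv_mono {K' : Subgroup (Equiv.Perm GolayPt)} (h : K' ≤ K) {Y : Finset GolayPt}
    (hY : Inv K Y) : Inv K' Y := fun k hk => hY k (h hk)

theorem inv_sdiff {Y Z : Finset GolayPt} (hY : Inv K Y) (hZ : Inv K Z) : Inv K (Y \ Z) := by
  intro k hk y hy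
  rw [Finset.mem_sdiff] at hy ⊢
  exact ⟨hY k hk y hy.1, fun h => hy.2 ((apply_mem_iff K Z hZ hk y).mp h)⟩

theorem inv_union {Y Z : Finset GolayPt} (hY : Inv K Y) (hZ : Inv K Z) : Inv K (Y ∪ Z) := by
  intro k hk y hy
  rw [Finset.mem_union] at hy ⊢
  rcases hy with hy | hy
  · exact Or.inl (hY k hk y hy)
  · exact Or.inr (hZ k hk y hy)

theorem inv_singleton {x : GolayPt} (hx : ∀ k ∈ K, k x = x) : Inv K {x} := by
  intro k hk y hy
  rw [Finset.mem_singleton] at hy ⊢
  rw [hy]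
  exact hx k hk

theorem inv_insert {x : GolayPt} (hx : ∀ k ∈ K, k x = x) {Y : Finset GolayPt} (hY : Inv K Y) :
    Inv K (insert x Y) := by
  intro k hk y hy
  rw [Finset.mem_insert] at hy ⊢
  rcases hy with hy | hy
  · left
    rw [hy]
    exact hx k hk
  · exact Or.inr (hY k hk y hy)

theorem inv_erase {x : GolayPt} (hx : ∀ k ∈ K, k x = x) {Y : Finset GolayPt} (hY : Inv K Y) :
    Inv K (Y.erase x) := by
  intro k hk y hy
  rw [Finset.mem_erase] at hy ⊢
  exact ⟨fun h => hy.1 (k.injective (h.trans (hx k hk).symm)), hY k hk y hy.2⟩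

theorem inv_compl {Y : Finset GolayPt} (hY : Inv K Y) : Inv K Yᶜ := compl_inv K Y hY

theorem inv_orb (K : Subgroup (Equiv.Perm GolayPt)) (x : GolayPt) : Inv K (orb K x) :=
  orb_inv K x

/-- An invariant set containing `x` contains the orbit of `x`. -/
theorem orb_subset {Y : Finset GolayPt} (hY : Inv K Y) {x : GolayPt} (hx : x ∈ Y) :
    orb K x ⊆ Y := by
  intro y hy
  obtain ⟨k, hk, rfl⟩ := mem_orb.mp hy
  exact hY k hk x hx

/-- Orbits of a smaller group are smaller. -/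
theorem orb_mono {K' : Subgroup (Equiv.Perm GolayPt)} (h : K' ≤ K) (x : GolayPt) :
    orb K' x ⊆ orb K x := by
  intro y hy
  obtain ⟨k, hk, rfl⟩ := mem_orb.mp hy
  exact mem_orb.mpr ⟨k, h hk, rfl⟩

/-- A point of an orbit has the same orbit. -/
theorem orb_eq_of_mem {x y : GolayPt} (h : y ∈ orb K x) : orb K y = orb K x := by
  apply Finset.Subset.antisymm
  · exact orb_subset (inv_orb K x) h
  · exact orb_subset (inv_orb K y) (orb_symm h)

theorem mem_orb_of_card {x : GolayPt} (h : (orb K x).card = 24) (y : GolayPt) : y ∈ orb K x := by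
  have : orb K x = Finset.univ := Finset.eq_univ_of_card _ (by rw [h, card_golayPt])
  rw [this]
  exact Finset.mem_univ y

/-- A fixed point of `K` is alone in its orbit. -/
theorem orb_of_fix {x : GolayPt} (hx : ∀ k ∈ K, k x = x) : orb K x = {x} := by
  ext y
  rw [mem_orb, Finset.mem_singleton]
  constructor
  · rintro ⟨k, hk, rfl⟩
    exact hx k hk
  · rintro rfl
    exact ⟨1, K.one_mem, rfl⟩

section congruences

variable {g : Equiv.Perm GolayPt} {p : ℕ} [Fact p.Prime]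

theorem mod_fix (hgp : orderOf g = p) (Y : Finset GolayPt) (hY : ∀ y ∈ Y, g y ∈ Y) :
    Y.card % p = (Y.filter (fun y => g y = y)).card % p :=
  card_fixed_modEq g (p := p) (n := 1) (by rw [pow_one, ← hgp]; exact pow_orderOf_eq_one g) Y hY

theorem mod_fix_le (hgp : orderOf g = p) (Y : Finset GolayPt) (hY : ∀ y ∈ Y, g y ∈ Y)
    (F : Finset GolayPt) (hF : ∀ y ∈ Y, g y = y → y ∈ F) :
    ∃ r, r ≤ F.card ∧ Y.card % p = r % p := by
  refine ⟨_, ?_, mod_fix hgp Y hY⟩
  apply Finset.card_le_card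
  intro y hy
  rw [Finset.mem_filter] at hy
  exact hF y hy.1 hy.2

theorem mod_fix_eq (hgp : orderOf g = p) (Y : Finset GolayPt) (hY : ∀ y ∈ Y, g y ∈ Y)
    (F : Finset GolayPt) (hF : ∀ y, y ∈ F ↔ (y ∈ Y ∧ g y = y)) :
    Y.card % p = F.card % p := by
  have h1 := mod_fix hgp Y hY
  have h2 : Y.filter (fun y => g y = y) = F := by
    ext y
    rw [Finset.mem_filter]
    exact (hF y).symm
  rw [h2] at h1
  exact h1

/-- The fixed points of `g` inside an invariant set, as a subset of `F`, with `F` inside. -/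
theorem mod_fix_between (hgp : orderOf g = p) (Y : Finset GolayPt) (hY : ∀ y ∈ Y, g y ∈ Y)
    (F G : Finset GolayPt) (hF : ∀ y ∈ Y, g y = y → y ∈ F) (hG : ∀ y ∈ G, y ∈ Y ∧ g y = y) :
    ∃ r, G.card ≤ r ∧ r ≤ F.card ∧ Y.card % p = r % p := by
  refine ⟨_, ?_, ?_, mod_fix hgp Y hY⟩
  · apply Finset.card_le_card
    intro y hy
    rw [Finset.mem_filter]
    exact hG y hy
  · apply Finset.card_le_card
    intro y hy
    rw [Finset.mem_filter] at hy
    exact hF y hy.1 hy.2

end congruences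

section named

variable {g : Equiv.Perm GolayPt}

theorem fix11 (hg : g ∈ M24) (h11 : orderOf g = 11) {a : GolayPt} (ha : g a = a) :
    ∃ b, a ≠ b ∧ g b = b ∧ ∀ y, g y = y → y = a ∨ y = b := by
  have hf := card_fixedPts_11 hg h11
  have he : ((fixedPts g).erase a).card = 1 := by
    rw [Finset.card_erase_of_mem (mem_fixedPts.mpr ha), hf]
  obtain ⟨b, hb⟩ := Finset.card_eq_one.mp he
  have hb' : b ∈ (fixedPts g).erase a := by rw [hb]; exact Finset.mem_singleton_self b
  refine ⟨b, (Finset.mem_erase.mp hb').1.symm, mem_fixedPts.mp (Finset.mem_erase.mp hb').2, ?_⟩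
  intro y hy
  by_cases hya : y = a
  · exact Or.inl hya
  · right
    have : y ∈ (fixedPts g).erase a := Finset.mem_erase.mpr ⟨hya, mem_fixedPts.mpr hy⟩
    rw [hb] at this
    exact Finset.mem_singleton.mp this

theorem fix7 (hg : g ∈ M24) (h7 : orderOf g = 7) {u : GolayPt} (hu : g u = u) :
    ∃ v w, u ≠ v ∧ u ≠ w ∧ v ≠ w ∧ g v = v ∧ g w = w ∧ ∀ y, g y = y → y = u ∨ y = v ∨ y = w := by
  have hf := card_fixedPts_7 hg h7
  have he : ((fixedPts g).erase u).card = 2 := by
    rw [Finset.card_erase_of_mem (mem_fixedPts.mpr hu), hf]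
  obtain ⟨v, w, hvw, hb⟩ := Finset.card_eq_two.mp he
  have hv' : v ∈ (fixedPts g).erase u := by rw [hb]; simp
  have hw' : w ∈ (fixedPts g).erase u := by rw [hb]; simp
  refine ⟨v, w, (Finset.mem_erase.mp hv').1.symm, (Finset.mem_erase.mp hw').1.symm, hvw,
    mem_fixedPts.mp (Finset.mem_erase.mp hv').2, mem_fixedPts.mp (Finset.mem_erase.mp hw').2, ?_⟩
  intro y hy
  by_cases hya : y = u
  · exact Or.inl hya
  · right
    have : y ∈ (fixedPts g).erase u := Finset.mem_erase.mpr ⟨hya, mem_fixedPts.mpr hy⟩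
    rw [hb] at this
    simpa using this

theorem fix5 (hg : g ∈ M24) (h5 : orderOf g = 5) {u : GolayPt} (hu : g u = u) :
    ∃ v w z, u ≠ v ∧ u ≠ w ∧ u ≠ z ∧ v ≠ w ∧ v ≠ z ∧ w ≠ z ∧ g v = v ∧ g w = w ∧ g z = z ∧
      ∀ y, g y = y → y = u ∨ y = v ∨ y = w ∨ y = z := by
  have hf := card_fixedPts_5 hg h5
  have he : ((fixedPts g).erase u).card = 3 := by
    rw [Finset.card_erase_of_mem (mem_fixedPts.mpr hu), hf]
  obtain ⟨v, w, z, hvw, hvz, hwz, hb⟩ := Finset.card_eq_three.mp he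
  have hv' : v ∈ (fixedPts g).erase u := by rw [hb]; simp
  have hw' : w ∈ (fixedPts g).erase u := by rw [hb]; simp
  have hz' : z ∈ (fixedPts g).erase u := by rw [hb]; simp
  refine ⟨v, w, z, (Finset.mem_erase.mp hv').1.symm, (Finset.mem_erase.mp hw').1.symm,
    (Finset.mem_erase.mp hz').1.symm, hvw, hvz, hwz,
    mem_fixedPts.mp (Finset.mem_erase.mp hv').2, mem_fixedPts.mp (Finset.mem_erase.mp hw').2,
    mem_fixedPts.mp (Finset.mem_erase.mp hz').2, ?_⟩
  intro y hy
  by_cases hya : y = u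
  · exact Or.inl hya
  · right
    have : y ∈ (fixedPts g).erase u := Finset.mem_erase.mpr ⟨hya, mem_fixedPts.mpr hy⟩
    rw [hb] at this
    simpa using this

theorem exists_fix {p : ℕ} (hg : g ∈ M24) (hp : p = 5 ∨ p = 7 ∨ p = 11) (hgp : orderOf g = p) :
    ∃ u, g u = u := by
  have hc : 0 < (fixedPts g).card := by
    rcases hp with rfl | rfl | rfl
    · rw [card_fixedPts_5 hg hgp]; norm_num
    · rw [card_fixedPts_7 hg hgp]; norm_num
    · rw [card_fixedPts_11 hg hgp]; norm_num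
  obtain ⟨u, hu⟩ := Finset.card_pos.mp hc
  exact ⟨u, mem_fixedPts.mp hu⟩

end named

/-- The bound on the order of a subgroup of `M24` with an invariant set of `m` points. -/
def bnd : ℕ → ℕ
  | 1 => 10200960
  | 2 => 887040
  | 3 => 120960
  | 4 => 23040
  | 5 => 5760
  | 6 => 34560
  | 7 => 241920
  | 8 => 645120
  | 9 => 362880
  | 10 => 3628800
  | _ => 0

theorem inv_bnd (hK : K ≤ M24) (Y : Finset GolayPt) (hY : Inv K Y)
    (h1 : 1 ≤ Y.card) (h10 : Y.card ≤ 10) : Nat.card K ∣ bnd Y.card := by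
  have h := card_dvd_fixer_mul K Y hY
  have hf : ∀ k ∈ fixer K Y, ∀ z ∈ Y, k z = z := fun k hk => hk.2
  have hle : fixer K Y ≤ M24 := (fixer_le K Y).trans hK
  have d1 : 1 ≤ Y.card → Nat.card (fixer K Y) ∣ 10200960 := fix_dvd1 hle Y hf
  have d2 : 2 ≤ Y.card → Nat.card (fixer K Y) ∣ 443520 := fix_dvd2 hle Y hf
  have d3 : 3 ≤ Y.card → Nat.card (fixer K Y) ∣ 20160 := fix_dvd3 hle Y hf
  have d4 : 4 ≤ Y.card → Nat.card (fixer K Y) ∣ 960 := fix_dvd4 hle Y hf
  have d5 : 5 ≤ Y.card → Nat.card (fixer K Y) ∣ 48 := fix_dvd5 hle Y hf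
  have d8 : Y.card = 8 → Nat.card (fixer K Y) ∣ 16 := fun h8 => (fix_dvd8 hle Y hf h8).1
  have d9 : 9 ≤ Y.card → Nat.card (fixer K Y) ∣ 1 := fun h9 => by rw [fix_eq9 hle Y hf h9]
  have key : ∀ c : ℕ, Nat.card (fixer K Y) ∣ c → Nat.card K ∣ c * Y.card.factorial :=
    fun c hc => h.trans (Nat.mul_dvd_mul hc (dvd_refl _))
  generalize Y.card = m at h1 h10 d1 d2 d3 d4 d5 d8 d9 key ⊢
  interval_cases m
  · exact key _ (d1 (by norm_num))
  · exact key _ (d2 (by norm_num))
  · exact key _ (d3 (by norm_num))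
  · exact key _ (d4 (by norm_num))
  · exact key _ (d5 (by norm_num))
  · exact key _ (d5 (by norm_num))
  · exact key _ (d5 (by norm_num))
  · exact key _ (d8 rfl)
  · exact key _ (d9 (by norm_num))
  · exact key _ (d9 (by norm_num))

/-- An orbit of a subgroup of `M24` has 11, 12, 13 or 24 points, or it or its complement is an
invariant set of at most ten points. -/
theorem orb_small (K : Subgroup (Equiv.Perm GolayPt)) (x : GolayPt) :
    (orb K x).card = 11 ∨ (orb K x).card = 12 ∨ (orb K x).card = 13 ∨ (orb K x).card = 24 ∨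
    ∃ Y : Finset GolayPt, Inv K Y ∧ 1 ≤ Y.card ∧ Y.card ≤ 10 ∧
      (Y = orb K x ∨ Y = (orb K x)ᶜ) := by
  have hpos := orb_card_pos K x
  have hle := orb_card_le K x
  by_cases h10 : (orb K x).card ≤ 10
  · exact Or.inr (Or.inr (Or.inr (Or.inr ⟨orb K x, inv_orb K x, hpos, h10, Or.inl rfl⟩)))
  · by_cases h14 : 14 ≤ (orb K x).card ∧ (orb K x).card ≤ 23
    · refine Or.inr (Or.inr (Or.inr (Or.inr ⟨(orb K x)ᶜ, inv_compl (inv_orb K x), ?_, ?_,
        Or.inr rfl⟩)))
      · rw [Finset.card_compl, card_golayPt]; omega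
      · rw [Finset.card_compl, card_golayPt]; omega
    · omega

end Cfsg.Agent.Lib.Helper8.OrbTools
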