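import Mathlib
import Cfsg.Agent.Lib.Helper8.S3622

/-!
Steiner systems S(3, 6, 22): numbers of blocks disjoint from one or two given blocks.
-/

set_option autoImplicit false

namespace Cfsg.Agent.Lib.Helper8.S3622Graph

open Finset Cfsg.Agent.Lib.Helper8.Steiner Cfsg.Agent.Lib.Helper8.S3622

variable {α : Type*} [Fintype α] [DecidableEq α]

omit [Fintype α] [DecidableEq α] in
theorem not_disjoint_self {B : Set (Finset α)} (hB : Cfsg.IsSteinerSystem 3 6 B) {b : Finset α}
    (hb : b ∈ B) : ¬ Disjoint b b := by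
  rw [disjoint_self]
  intro h
  have := hB.1 b hb
  rw [show b = ∅ from h] at this
  simp at this

omit [Fintype α] in
theorem disjoint_iff_card (d c : Finset α) : Disjoint d c ↔ (d ∩ c).card = 0 := by
  rw [card_eq_zero, disjoint_iff_inter_eq_empty]

/-- each block is disjoint from exactly 16 blocks -/
theorem card_disjoint (hα : Fintype.card α = 22) {B : Set (Finset α)}
    (hB : Cfsg.IsSteinerSystem 3 6 B) {c : Finset α} (hc : c ∈ B) :
    ((blocks B).filter (fun d => Disjoint d c)).card = 16 := by
  have hpt : ∀ d ∈ blocks B,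
      2 * (if Disjoint d c then 1 else 0) + (d ∩ c).card = 2 + (if d = c then 4 else 0) := by
    intro d hd
    rw [mem_blocks] at hd
    by_cases hdc : d = c
    · rw [hdc, if_neg (not_disjoint_self hB hc), if_pos rfl, inter_self, hB.1 c hc]
    · rw [if_neg hdc]
      rcases inter_card hα hB hd hc hdc with h | h
      · rw [if_pos ((disjoint_iff_card d c).mpr h), h]
      · rw [if_neg (by rw [disjoint_iff_card, h]; decide), h]
  have hs := Finset.sum_congr rfl hpt
  rw [sum_add_distrib, sum_add_distrib, ← mul_sum, m1 hα hB, sum_ite_eq', sum_boole,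
    if_pos (mem_blocks.mpr hc), hB.1 c hc, sum_const, card_blocks hα hB] at hs
  simp only [Nat.cast_id, smul_eq_mul] at hs
  omega

/-- the possible sizes of the intersection of a third block with the union of two blocks -/
theorem inter_union_cases (hα : Fintype.card α = 22) {B : Set (Finset α)}
    (hB : Cfsg.IsSteinerSystem 3 6 B) {b c d : Finset α} (hb : b ∈ B) (hc : c ∈ B) (hd : d ∈ B)
    (hdb : d ≠ b) (hdc : d ≠ c) :
    ((d ∩ (b ∪ c)).card = 0 ∧ Disjoint d b ∧ Disjoint d c) ∨
    (((d ∩ (b ∪ c)).card = 2 ∨ (d ∩ (b ∪ c)).card = 3 ∨ (d ∩ (b ∪ c)).card = 4) ∧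
      ¬ (Disjoint d b ∧ Disjoint d c) ∧ ((d ∩ (b ∪ c)).card = 3 → ¬ Disjoint b c)) := by
  have h1 := inter_card hα hB hd hb hdb
  have h2 := inter_card hα hB hd hc hdc
  have h3 := card_union_add_card_inter (d ∩ b) (d ∩ c)
  rw [← inter_union_distrib_left] at h3
  have h4 : ((d ∩ b) ∩ (d ∩ c)).card ≤ (d ∩ b).card := card_le_card inter_subset_left
  have h5 : ((d ∩ b) ∩ (d ∩ c)).card ≤ (d ∩ c).card := card_le_card inter_subset_right
  have h6 : Disjoint b c → ((d ∩ b) ∩ (d ∩ c)).card = 0 := by
    intro hbc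
    rw [card_eq_zero, ← disjoint_iff_inter_eq_empty]
    exact hbc.mono inter_subset_right inter_subset_right
  rw [disjoint_iff_card d b, disjoint_iff_card d c]
  by_cases hbc : Disjoint b c
  · have := h6 hbc
    simp only [hbc, not_true_eq_false, imp_false]
    omega
  · simp only [hbc, not_false_eq_true, imp_true_iff, and_true]
    omega

/-- two disjoint blocks have no common disjoint block -/
theorem card_disjoint_disjoint (hα : Fintype.card α = 22) {B : Set (Finset α)}
    (hB : Cfsg.IsSteinerSystem 3 6 B) {b c : Finset α} (hb : b ∈ B) (hc : c ∈ B)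
    (hbc : Disjoint b c) :
    ((blocks B).filter (fun d => Disjoint d b ∧ Disjoint d c)).card = 0 := by
  have hne : b ≠ c := by
    rintro rfl
    exact not_disjoint_self hB hb hbc
  have hbc0 : b ∩ c = ∅ := disjoint_iff_inter_eq_empty.mp hbc
  have c2 : Nat.choose 6 2 = 15 := by decide
  have hpt : ∀ d ∈ blocks B,
      8 * (if Disjoint d b ∧ Disjoint d c then 1 else 0) + 5 * (d ∩ (b ∪ c)).card
        + (if d = b then 8 else 0) + (if d = c then 8 else 0)
      = 8 + 2 * (d ∩ (b ∪ c)).card.choose 2 := by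
    intro d hd
    rw [mem_blocks] at hd
    by_cases hdb : d = b
    · have e : b ∩ (b ∪ c) = b := inter_eq_left.mpr subset_union_left
      rw [hdb, if_neg (fun h => not_disjoint_self hB hb h.1), if_pos rfl, if_neg hne, e,
        hB.1 b hb, c2]
    · by_cases hdc : d = c
      · have e : c ∩ (b ∪ c) = c := inter_eq_left.mpr subset_union_right
        rw [hdc, if_neg (fun h => not_disjoint_self hB hc h.2), if_pos rfl, if_neg (Ne.symm hne),
          e, hB.1 c hc, c2]
      · rw [if_neg hdb, if_neg hdc]
        rcases inter_union_cases hα hB hb hc hd hdb hdc with ⟨h0, h1, h2⟩ | ⟨h, hn, h3⟩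
        · rw [if_pos ⟨h1, h2⟩, h0]; decide
        · rw [if_neg hn]
          rcases h with h | h | h
          · rw [h]; decide
          · exact absurd hbc (h3 h)
          · rw [h]; decide
  have hs := Finset.sum_congr rfl hpt
  have hcard : (b ∪ c).card = 12 := by
    rw [card_union_of_disjoint hbc, hB.1 b hb, hB.1 c hc]
  rw [sum_add_distrib, sum_add_distrib, sum_add_distrib, sum_add_distrib, ← mul_sum, ← mul_sum,
    ← mul_sum, m1 hα hB, m2 hα hB, sum_ite_eq', sum_ite_eq', sum_boole,
    if_pos (mem_blocks.mpr hb), if_pos (mem_blocks.mpr hc), hcard, sum_const,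
    card_blocks hα hB] at hs
  have c3 : Nat.choose 12 2 = 66 := by decide
  rw [c3] at hs
  simp only [Nat.cast_id, smul_eq_mul] at hs
  omega

/-- two distinct intersecting blocks have exactly 4 common disjoint blocks -/
theorem card_disjoint_meet (hα : Fintype.card α = 22) {B : Set (Finset α)}
    (hB : Cfsg.IsSteinerSystem 3 6 B) {b c : Finset α} (hb : b ∈ B) (hc : c ∈ B)
    (hne : b ≠ c) (hbc : ¬ Disjoint b c) :
    ((blocks B).filter (fun d => Disjoint d b ∧ Disjoint d c)).card = 4 := by
  have c2 : Nat.choose 6 2 = 15 := by decide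
  have c3 : Nat.choose 6 3 = 20 := by decide
  have hpt : ∀ d ∈ blocks B,
      4 * (if Disjoint d b ∧ Disjoint d c then 1 else 0) + 3 * (d ∩ (b ∪ c)).card
        + (d ∩ (b ∪ c)).card.choose 3
      = 4 + 2 * (d ∩ (b ∪ c)).card.choose 2 + (if d = b then 4 else 0)
        + (if d = c then 4 else 0) := by
    intro d hd
    rw [mem_blocks] at hd
    by_cases hdb : d = b
    · have e : b ∩ (b ∪ c) = b := inter_eq_left.mpr subset_union_left
      rw [hdb, if_neg (fun h => not_disjoint_self hB hb h.1), if_pos rfl, if_neg hne, e,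
        hB.1 b hb, c2, c3]
    · by_cases hdc : d = c
      · have e : c ∩ (b ∪ c) = c := inter_eq_left.mpr subset_union_right
        rw [hdc, if_neg (fun h => not_disjoint_self hB hc h.2), if_pos rfl, if_neg (Ne.symm hne),
          e, hB.1 c hc, c2, c3]
      · rw [if_neg hdb, if_neg hdc]
        rcases inter_union_cases hα hB hb hc hd hdb hdc with ⟨h0, h1, h2⟩ | ⟨h, hn, _⟩
        · rw [if_pos ⟨h1, h2⟩, h0]; decide
        · rw [if_neg hn]
          rcases h with h | h | h <;> rw [h] <;> decide
  have hs := Finset.sum_congr rfl hpt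
  have hcard : (b ∪ c).card = 10 := by
    have h1 := card_union_add_card_inter b c
    have h2 := inter_card hα hB hb hc hne
    have h3 : (b ∩ c).card ≠ 0 := fun h => hbc ((disjoint_iff_card b c).mpr h)
    rw [hB.1 b hb, hB.1 c hc] at h1
    omega
  rw [sum_add_distrib, sum_add_distrib, sum_add_distrib, sum_add_distrib, sum_add_distrib,
    ← mul_sum, ← mul_sum, ← mul_sum, m1 hα hB, m2 hα hB, m3 hα hB, sum_ite_eq', sum_ite_eq',
    sum_boole, if_pos (mem_blocks.mpr hb), if_pos (mem_blocks.mpr hc), hcard, sum_const,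
    card_blocks hα hB] at hs
  have c4 : Nat.choose 10 2 = 45 := by decide
  have c5 : Nat.choose 10 3 = 120 := by decide
  rw [c4, c5] at hs
  simp only [Nat.cast_id, smul_eq_mul] at hs
  omega

end Cfsg.Agent.Lib.Helper8.S3622Graph
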