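import Mathlib
import Cfsg.Prelude.Def_Sporadic_a
import Cfsg.Agent.S0428

/-!
A strongly regular graph with parameters `(100, 22, 0, 6)` is the point-block graph of the
Steiner system `S(3,6,22)` cut out on the neighbours of any vertex by the non-neighbours.
-/

set_option autoImplicit false

namespace Cfsg.Agent.Lib.Helper8.SRG100

open Finset

section arith

theorem amgm (n : ℕ) : 4 * n ≤ n ^ 2 + 4 := by
  have h := sq_nonneg ((n : ℤ) - 2)
  zify
  nlinarith

theorem amgm_eq (n : ℕ) (h : 4 * n = n ^ 2 + 4) : n = 2 := by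
  have h' : (4 : ℤ) * n = (n : ℤ) ^ 2 + 4 := by exact_mod_cast h
  have h2 : ((n : ℤ) - 2) ^ 2 = 0 := by linear_combination (-1 : ℤ) * h'
  have h3 := pow_eq_zero_iff (two_ne_zero) |>.1 h2
  omega

end arith

variable {V : Type*} [Fintype V] [DecidableEq V] {G : SimpleGraph V} [DecidableRel G.Adj]

/-- The local counting facts of a strongly regular graph with parameters `(100, 22, 0, 6)`. -/
structure Loc (G : SimpleGraph V) [DecidableRel G.Adj] : Prop where
  card : Fintype.card V = 100
  deg : ∀ v, (G.neighborFinset v).card = 22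
  adj : ∀ v w, G.Adj v w → G.neighborFinset v ∩ G.neighborFinset w = ∅
  nadj : ∀ v w, v ≠ w → ¬ G.Adj v w → (G.neighborFinset v ∩ G.neighborFinset w).card = 6

theorem loc_of_srg (hG : G.IsSRGWith 100 22 0 6) : Loc G := by
  have hcn : ∀ v w, Fintype.card (G.commonNeighbors v w)
      = (G.neighborFinset v ∩ G.neighborFinset w).card := by
    intro v w
    rw [Fintype.card_eq_nat_card, Nat.card_coe_set_eq, ← Set.ncard_coe_finset]
    congr 1
    ext u
    simp [SimpleGraph.mem_commonNeighbors]
  refine ⟨hG.card, fun v => hG.regular v, fun v w h => ?_, fun v w hne h => ?_⟩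
  · rw [← card_eq_zero, ← hcn]
    exact hG.of_adj v w h
  · rw [← hcn]
    exact hG.of_not_adj hne h

theorem no_tri (h : Loc G) {u v w : V} (huv : G.Adj u v) (huw : G.Adj u w) : ¬ G.Adj v w := by
  intro hvw
  have h1 := h.adj v w hvw
  have hu : u ∈ G.neighborFinset v ∩ G.neighborFinset w := by
    rw [mem_inter, SimpleGraph.mem_neighborFinset, SimpleGraph.mem_neighborFinset]
    exact ⟨huv.symm, huw.symm⟩
  rw [h1] at hu
  exact absurd hu (notMem_empty _)

/-- The vertices other than `x` not adjacent to `x`. -/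
def far (G : SimpleGraph V) [DecidableRel G.Adj] (x : V) : Finset V :=
  univ.filter (fun v => v ≠ x ∧ ¬ G.Adj x v)

theorem mem_far {x v : V} : v ∈ far G x ↔ v ≠ x ∧ ¬ G.Adj x v := by
  simp [far]

theorem tri (G : SimpleGraph V) [DecidableRel G.Adj] (x u : V) :
    u = x ∨ G.Adj x u ∨ u ∈ far G x := by
  rw [mem_far]
  tauto

theorem card_far (h : Loc G) (x : V) : (far G x).card = 77 := by
  have h1 : (univ : Finset V) = insert x (G.neighborFinset x ∪ far G x) := by
    ext v
    simp only [mem_univ, mem_insert, mem_union, SimpleGraph.mem_neighborFinset, mem_far,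
      true_iff]
    tauto
  have h2 : x ∉ G.neighborFinset x ∪ far G x := by
    simp [mem_far]
  have h3 : Disjoint (G.neighborFinset x) (far G x) := by
    rw [disjoint_left]
    intro v hv hv'
    rw [mem_far] at hv'
    exact hv'.2 ((G.mem_neighborFinset x v).1 hv)
  have h4 := congrArg card h1
  rw [card_univ, h.card, card_insert_of_notMem h2, card_union_of_disjoint h3, h.deg] at h4
  omega

theorem card_far_adj (h : Loc G) {x p : V} (hp : G.Adj x p) :
    ((far G x).filter (fun w => G.Adj w p)).card = 21 := by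
  have h1 : G.neighborFinset p = insert x ((far G x).filter (fun w => G.Adj w p)) := by
    ext u
    rw [SimpleGraph.mem_neighborFinset, mem_insert, mem_filter, mem_far]
    constructor
    · intro hu
      by_cases hux : u = x
      · exact Or.inl hux
      · exact Or.inr ⟨⟨hux, no_tri h hp.symm hu⟩, hu.symm⟩
    · rintro (hux | ⟨-, hu⟩)
      · rw [hux]
        exact hp.symm
      · exact hu.symm
  have h2 : x ∉ (far G x).filter (fun w => G.Adj w p) := by
    simp [mem_far]
  have h3 := h.deg p
  rw [h1, card_insert_of_notMem h2] at h3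
  omega

theorem card_far_adj2 (h : Loc G) {x p q : V} (hp : G.Adj x p) (hq : G.Adj x q) (hpq : p ≠ q) :
    ((far G x).filter (fun w => G.Adj w p ∧ G.Adj w q)).card = 5 := by
  have hn : ¬ G.Adj p q := no_tri h hp hq
  have h1 : G.neighborFinset p ∩ G.neighborFinset q
      = insert x ((far G x).filter (fun w => G.Adj w p ∧ G.Adj w q)) := by
    ext u
    rw [mem_inter, SimpleGraph.mem_neighborFinset, SimpleGraph.mem_neighborFinset, mem_insert,
      mem_filter, mem_far]
    constructor
    · rintro ⟨hu, hu'⟩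
      by_cases hux : u = x
      · exact Or.inl hux
      · exact Or.inr ⟨⟨hux, no_tri h hp.symm hu⟩, hu.symm, hu'.symm⟩
    · rintro (hux | ⟨-, hu, hu'⟩)
      · rw [hux]
        exact ⟨hp.symm, hq.symm⟩
      · exact ⟨hu.symm, hu'.symm⟩
  have h2 : x ∉ (far G x).filter (fun w => G.Adj w p ∧ G.Adj w q) := by
    simp [mem_far]
  have h3 := h.nadj p q hpq hn
  rw [h1, card_insert_of_notMem h2] at h3
  omega

/-- The common neighbours of `x` and `v`. -/
def blkV (G : SimpleGraph V) [DecidableRel G.Adj] (x v : V) : Finset V :=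
  G.neighborFinset x ∩ G.neighborFinset v

theorem mem_blkV {x v p : V} : p ∈ blkV G x v ↔ G.Adj x p ∧ G.Adj v p := by
  rw [blkV, mem_inter, SimpleGraph.mem_neighborFinset, SimpleGraph.mem_neighborFinset]

theorem card_blkV (h : Loc G) {x v : V} (hv : v ∈ far G x) : (blkV G x v).card = 6 := by
  rw [mem_far] at hv
  exact h.nadj x v (Ne.symm hv.1) hv.2

theorem card_far_nb (h : Loc G) {x v : V} (hv : v ∈ far G x) :
    ((far G x).filter (fun w => G.Adj v w)).card = 16 := by
  have hv' := mem_far.1 hv
  have h1 : G.neighborFinset v = blkV G x v ∪ (far G x).filter (fun w => G.Adj v w) := by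
    ext u
    rw [SimpleGraph.mem_neighborFinset, mem_union, mem_blkV, mem_filter, mem_far]
    constructor
    · intro hu
      by_cases hxu : G.Adj x u
      · exact Or.inl ⟨hxu, hu⟩
      · refine Or.inr ⟨⟨?_, hxu⟩, hu⟩
        intro hux
        rw [hux] at hu
        exact hv'.2 hu.symm
    · rintro (⟨-, hu⟩ | ⟨-, hu⟩) <;> exact hu
  have h2 : Disjoint (blkV G x v) ((far G x).filter (fun w => G.Adj v w)) := by
    rw [disjoint_left]
    intro u hu hu'
    rw [mem_blkV] at hu
    rw [mem_filter, mem_far] at hu'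
    exact hu'.1.2 hu.1
  have h3 := h.deg v
  rw [h1, card_union_of_disjoint h2, card_blkV h hv] at h3
  omega

theorem blkV_adj (h : Loc G) {x v w : V} (hvw : G.Adj v w) : blkV G x v ∩ blkV G x w = ∅ := by
  rw [eq_empty_iff_forall_notMem]
  intro p hp
  rw [mem_inter, mem_blkV, mem_blkV] at hp
  exact no_tri h hp.1.2.symm hp.2.2.symm hvw

theorem blkV_nadj (h : Loc G) {x v : V} (hv : v ∈ far G x) :
    ∀ w ∈ far G x, w ≠ v → ¬ G.Adj v w → (blkV G x v ∩ blkV G x w).card = 2 := by
  have hf : ∀ w, (blkV G x v ∩ blkV G x w).card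
      = ∑ p ∈ blkV G x v, (if G.Adj w p then 1 else 0) := by
    intro w
    rw [← card_filter]
    congr 1
    ext p
    rw [mem_inter, mem_filter, mem_blkV, mem_blkV]
    tauto
  have hsum1 : ∑ w ∈ (far G x).erase v, (blkV G x v ∩ blkV G x w).card = 120 := by
    simp only [hf]
    rw [sum_comm]
    have h1 : ∀ p ∈ blkV G x v,
        ∑ w ∈ (far G x).erase v, (if G.Adj w p then 1 else 0) = 20 := by
      intro p hp
      rw [mem_blkV] at hp
      rw [← card_filter, filter_erase,
        card_erase_of_mem (mem_filter.2 ⟨hv, hp.2⟩), card_far_adj h hp.1]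
    rw [sum_congr rfl h1, sum_const, card_blkV h hv]
    rfl
  have hsum2 : ∑ w ∈ (far G x).erase v, (blkV G x v ∩ blkV G x w).card ^ 2 = 240 := by
    have h0 : ∀ w, (blkV G x v ∩ blkV G x w).card ^ 2 = ∑ p ∈ blkV G x v,
        ∑ q ∈ blkV G x v, (if G.Adj w p ∧ G.Adj w q then 1 else 0) := by
      intro w
      rw [sq, hf w, sum_mul_sum]
      apply sum_congr rfl
      intro p _
      apply sum_congr rfl
      intro q _
      by_cases h1 : G.Adj w p <;> by_cases h2 : G.Adj w q <;> simp [h1, h2]
    simp only [h0]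
    rw [sum_comm]
    have hin : ∀ p ∈ blkV G x v, ∑ w ∈ (far G x).erase v,
        ∑ q ∈ blkV G x v, (if G.Adj w p ∧ G.Adj w q then 1 else 0) = 40 := by
      intro p hp
      rw [sum_comm]
      have hq : ∀ q ∈ blkV G x v,
          ∑ w ∈ (far G x).erase v, (if G.Adj w p ∧ G.Adj w q then 1 else 0)
            = 4 + if q = p then 16 else 0 := by
        intro q hq
        have hp' := mem_blkV.1 hp
        have hq' := mem_blkV.1 hq
        rw [← card_filter, filter_erase]
        by_cases hqp : q = p
        · subst hqp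
          rw [if_pos rfl]
          have h2 : (far G x).filter (fun w => G.Adj w q ∧ G.Adj w q)
              = (far G x).filter (fun w => G.Adj w q) := by
            apply filter_congr
            intro w _
            exact and_self_iff
          rw [h2, card_erase_of_mem (mem_filter.2 ⟨hv, hq'.2⟩), card_far_adj h hq'.1]
        · rw [if_neg hqp, card_erase_of_mem (mem_filter.2 ⟨hv, hp'.2, hq'.2⟩),
            card_far_adj2 h hp'.1 hq'.1 (Ne.symm hqp)]
      rw [sum_congr rfl hq, sum_add_distrib, sum_const, sum_ite_eq' (blkV G x v) p (fun _ => 16),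
        if_pos hp, card_blkV h hv]
      rfl
    rw [sum_congr rfl hin, sum_const, card_blkV h hv]
    rfl
  have hz : ∀ w, G.Adj v w → (blkV G x v ∩ blkV G x w).card = 0 := fun w hw => by
    rw [blkV_adj h hw]
    rfl
  have e1 : ∑ w ∈ ((far G x).erase v).filter (fun w => ¬ G.Adj v w),
      (blkV G x v ∩ blkV G x w).card = 120 := by
    rw [sum_filter_of_ne, hsum1]
    intro w _ hne hadj
    exact hne (hz w hadj)
  have e2 : ∑ w ∈ ((far G x).erase v).filter (fun w => ¬ G.Adj v w),
      (blkV G x v ∩ blkV G x w).card ^ 2 = 240 := by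
    rw [sum_filter_of_ne, hsum2]
    intro w _ hne hadj
    apply hne
    rw [hz w hadj]
    rfl
  have e3 : (((far G x).erase v).filter (fun w => ¬ G.Adj v w)).card = 60 := by
    have h1 := card_filter_add_card_filter_not (s := (far G x).erase v)
      (fun w => G.Adj v w)
    have h2 : ((far G x).erase v).filter (fun w => G.Adj v w)
        = (far G x).filter (fun w => G.Adj v w) := by
      rw [filter_erase]
      exact erase_eq_of_notMem (by simp)
    rw [h2, card_far_nb h hv, card_erase_of_mem hv, card_far h] at h1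
    omega
  have key := (Finset.sum_eq_sum_iff_of_le (s := ((far G x).erase v).filter
    (fun w => ¬ G.Adj v w)) (f := fun w => 4 * (blkV G x v ∩ blkV G x w).card)
    (g := fun w => (blkV G x v ∩ blkV G x w).card ^ 2 + 4) (fun w _ => amgm _)).1 (by
      rw [← mul_sum, e1, sum_add_distrib, e2, sum_const, e3]
      rfl)
  intro w hw hne hadj
  exact amgm_eq _ (key w (mem_filter.2 ⟨mem_erase.2 ⟨hne, hw⟩, hadj⟩))

theorem blkV_inter_le (h : Loc G) {x v w : V} (hv : v ∈ far G x) (hw : w ∈ far G x)
    (hne : w ≠ v) : (blkV G x v ∩ blkV G x w).card ≤ 2 := by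
  by_cases hadj : G.Adj v w
  · rw [blkV_adj h hadj]
    simp
  · rw [blkV_nadj h hv w hw hne hadj]

theorem exists_blk (h : Loc G) {x p q r : V} (hp : G.Adj x p) (hq : G.Adj x q)
    (hr : G.Adj x r) (hpq : p ≠ q) (hpr : p ≠ r) (hqr : q ≠ r) :
    ∃ w ∈ far G x, G.Adj w p ∧ G.Adj w q ∧ G.Adj w r := by
  have hCc : ((far G x).filter (fun w => G.Adj w p ∧ G.Adj w q)).card = 5 :=
    card_far_adj2 h hp hq hpq
  have hD : ∀ w ∈ (far G x).filter (fun w => G.Adj w p ∧ G.Adj w q),
      (((blkV G x w).erase p).erase q).card = 4 := by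
    intro w hw
    rw [mem_filter] at hw
    rw [card_erase_of_mem (mem_erase.2 ⟨hpq.symm, mem_blkV.2 ⟨hq, hw.2.2⟩⟩),
      card_erase_of_mem (mem_blkV.2 ⟨hp, hw.2.1⟩), card_blkV h hw.1]
  have hdisj : ∀ w ∈ (far G x).filter (fun w => G.Adj w p ∧ G.Adj w q),
      ∀ w' ∈ (far G x).filter (fun w => G.Adj w p ∧ G.Adj w q), w ≠ w' →
      Disjoint (((blkV G x w).erase p).erase q) (((blkV G x w').erase p).erase q) := by
    intro w hw w' hw' hne
    rw [mem_filter] at hw hw'
    have hnadj : ¬ G.Adj w w' := no_tri h hw.2.1.symm hw'.2.1.symm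
    have h2 := blkV_nadj h hw.1 w' hw'.1 hne.symm hnadj
    have hsub : ({p, q} : Finset V) ⊆ blkV G x w ∩ blkV G x w' := by
      intro u hu
      simp only [mem_insert, mem_singleton] at hu
      rcases hu with rfl | rfl
      · exact mem_inter.2 ⟨mem_blkV.2 ⟨hp, hw.2.1⟩, mem_blkV.2 ⟨hp, hw'.2.1⟩⟩
      · exact mem_inter.2 ⟨mem_blkV.2 ⟨hq, hw.2.2⟩, mem_blkV.2 ⟨hq, hw'.2.2⟩⟩
    have heq : ({p, q} : Finset V) = blkV G x w ∩ blkV G x w' :=
      eq_of_subset_of_card_le hsub (by rw [h2, card_pair hpq])
    rw [disjoint_left]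
    intro u hu hu'
    rw [mem_erase, mem_erase] at hu hu'
    have hu2 : u ∈ ({p, q} : Finset V) := by
      rw [heq]
      exact mem_inter.2 ⟨hu.2.2, hu'.2.2⟩
    simp only [mem_insert, mem_singleton] at hu2
    rcases hu2 with hu2 | hu2
    · exact hu.2.1 hu2
    · exact hu.1 hu2
  have hcard : (((far G x).filter (fun w => G.Adj w p ∧ G.Adj w q)).biUnion
      (fun w => ((blkV G x w).erase p).erase q)).card = 20 := by
    rw [card_biUnion hdisj, sum_congr rfl hD, sum_const, hCc]
    rfl
  have hsub : ((far G x).filter (fun w => G.Adj w p ∧ G.Adj w q)).biUnion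
      (fun w => ((blkV G x w).erase p).erase q) ⊆ ((G.neighborFinset x).erase p).erase q := by
    intro u hu
    rw [mem_biUnion] at hu
    obtain ⟨w, -, hu⟩ := hu
    rw [mem_erase, mem_erase] at hu ⊢
    exact ⟨hu.1, hu.2.1, (G.mem_neighborFinset x u).2 (mem_blkV.1 hu.2.2).1⟩
  have hc20 : (((G.neighborFinset x).erase p).erase q).card = 20 := by
    rw [card_erase_of_mem (mem_erase.2 ⟨hpq.symm, (G.mem_neighborFinset x q).2 hq⟩),
      card_erase_of_mem ((G.mem_neighborFinset x p).2 hp), h.deg]
  have heq := eq_of_subset_of_card_le hsub (by rw [hcard, hc20])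
  have hr' : r ∈ ((G.neighborFinset x).erase p).erase q :=
    mem_erase.2 ⟨hqr.symm, mem_erase.2 ⟨hpr.symm, (G.mem_neighborFinset x r).2 hr⟩⟩
  rw [← heq, mem_biUnion] at hr'
  obtain ⟨w, hw, hrw⟩ := hr'
  rw [mem_filter] at hw
  exact ⟨w, hw.1, hw.2.1, hw.2.2, (mem_blkV.1 (mem_of_mem_erase (mem_of_mem_erase hrw))).2⟩

/-- The block of a far vertex, as a set of neighbours of `x`. -/
def blk (G : SimpleGraph V) [DecidableRel G.Adj] (x v : V) : Finset {p : V // G.Adj x p} :=
  univ.filter (fun p => G.Adj v p)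

omit [DecidableEq V] in
theorem mem_blk {x v : V} {p : {p : V // G.Adj x p}} : p ∈ blk G x v ↔ G.Adj v p := by
  simp [blk]

theorem blk_map (x v : V) : (blk G x v).map (Function.Embedding.subtype _) = blkV G x v := by
  ext u
  rw [mem_map, mem_blkV]
  constructor
  · rintro ⟨p, hp, rfl⟩
    exact ⟨p.2, mem_blk.1 hp⟩
  · rintro ⟨h1, h2⟩
    exact ⟨⟨u, h1⟩, mem_blk.2 h2, rfl⟩

theorem card_blk (h : Loc G) {x v : V} (hv : v ∈ far G x) : (blk G x v).card = 6 := by
  rw [← card_map (Function.Embedding.subtype _), blk_map, card_blkV h hv]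

/-- The design cut out on the neighbours of `x`. -/
def design (G : SimpleGraph V) [DecidableRel G.Adj] (x : V) :
    Set (Finset {p : V // G.Adj x p}) :=
  {b | ∃ v ∈ far G x, blk G x v = b}

theorem design_steiner (h : Loc G) (x : V) : Cfsg.IsSteinerSystem 3 6 (design G x) := by
  constructor
  · rintro _ ⟨v, hv, rfl⟩
    exact card_blk h hv
  · intro T hT
    obtain ⟨p, q, r, hpq, hpr, hqr, rfl⟩ := card_eq_three.1 hT
    obtain ⟨w, hw, hwp, hwq, hwr⟩ := exists_blk h p.2 q.2 r.2
      (Subtype.coe_injective.ne hpq) (Subtype.coe_injective.ne hpr)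
      (Subtype.coe_injective.ne hqr)
    refine ⟨blk G x w, ⟨⟨w, hw, rfl⟩, ?_⟩, ?_⟩
    · intro u hu
      simp only [mem_insert, mem_singleton] at hu
      rcases hu with rfl | rfl | rfl
      · exact mem_blk.2 hwp
      · exact mem_blk.2 hwq
      · exact mem_blk.2 hwr
    · rintro _ ⟨⟨w', hw', rfl⟩, hsub⟩
      by_cases hww : w' = w
      · rw [hww]
      · exfalso
        have h1 := blkV_inter_le h hw hw' hww
        have hmem : ∀ u ∈ ({p, q, r} : Finset {p : V // G.Adj x p}),
            (u : V) ∈ blkV G x w ∩ blkV G x w' := by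
          intro u hu
          have hu' : G.Adj w' u := mem_blk.1 (hsub hu)
          have hu'' : G.Adj w u := by
            simp only [mem_insert, mem_singleton] at hu
            rcases hu with rfl | rfl | rfl
            · exact hwp
            · exact hwq
            · exact hwr
          exact mem_inter.2 ⟨mem_blkV.2 ⟨u.2, hu''⟩, mem_blkV.2 ⟨u.2, hu'⟩⟩
        have hsub2 : ({p, q, r} : Finset {p : V // G.Adj x p}).map
            (Function.Embedding.subtype _) ⊆ blkV G x w ∩ blkV G x w' := by
          intro u hu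
          obtain ⟨u', hu', rfl⟩ := mem_map.1 hu
          exact hmem u' hu'
        have h2 := card_le_card hsub2
        rw [card_map, hT] at h2
        omega

/-- The map onto the vertices of the point-block graph of the design at `x`. -/
def toPB (G : SimpleGraph V) [DecidableRel G.Adj] (x : V) :
    V → Option ({p : V // G.Adj x p} ⊕ ↥(design G x)) := fun u =>
  if hx : u = x then none
  else if h : G.Adj x u then some (Sum.inl ⟨u, h⟩)
  else some (Sum.inr ⟨blk G x u, ⟨u, mem_far.2 ⟨hx, h⟩, rfl⟩⟩)

theorem toPB_x (x : V) : toPB G x x = none := dif_pos rfl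

theorem toPB_P {x u : V} (h : G.Adj x u) : toPB G x u = some (Sum.inl ⟨u, h⟩) := by
  rw [toPB, dif_neg (G.ne_of_adj h).symm, dif_pos h]

theorem toPB_N {x u : V} (hu : u ∈ far G x) :
    toPB G x u = some (Sum.inr ⟨blk G x u, ⟨u, hu, rfl⟩⟩) := by
  have hu' := mem_far.1 hu
  rw [toPB, dif_neg hu'.1, dif_neg hu'.2]

theorem toPB_inj (h : Loc G) (x : V) : Function.Injective (toPB G x) := by
  intro u u' he
  rcases tri G x u with hu | hu | hu <;> rcases tri G x u' with hu' | hu' | hu'
  · rw [hu, hu']
  · rw [hu, toPB_x, toPB_P hu'] at he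
    exact absurd he (by simp)
  · rw [hu, toPB_x, toPB_N hu'] at he
    exact absurd he (by simp)
  · rw [hu', toPB_P hu, toPB_x] at he
    exact absurd he (by simp)
  · rw [toPB_P hu, toPB_P hu'] at he
    simpa using he
  · rw [toPB_P hu, toPB_N hu'] at he
    exact absurd he (by simp)
  · rw [hu', toPB_N hu, toPB_x] at he
    exact absurd he (by simp)
  · rw [toPB_N hu, toPB_P hu'] at he
    exact absurd he (by simp)
  · rw [toPB_N hu, toPB_N hu'] at he
    have hb : blk G x u = blk G x u' :=
      congrArg Subtype.val (Sum.inr.inj (Option.some.inj he))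
    by_contra hne
    have h1 := blkV_inter_le h hu hu' (Ne.symm hne)
    rw [← blk_map, ← blk_map, hb, inter_self, card_map, card_blk h hu'] at h1
    omega

theorem toPB_surj (x : V) : Function.Surjective (toPB G x) := by
  rintro (_ | p | ⟨b, v, hv, rfl⟩)
  · exact ⟨x, toPB_x x⟩
  · exact ⟨p.1, toPB_P p.2⟩
  · exact ⟨v, toPB_N hv⟩

theorem toPB_adj (h : Loc G) (x : V) (hB : Cfsg.IsSteinerSystem 3 6 (design G x)) (u u' : V) :
    (Cfsg.pointBlockGraph (design G x)).Adj (toPB G x u) (toPB G x u') ↔ G.Adj u u' := by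
  rcases tri G x u with hu | hu | hu <;> rcases tri G x u' with hu' | hu' | hu'
  · rw [hu, hu', toPB_x]
    exact iff_of_false Cfsg.Agent.S0428.adj_none_none (G.irrefl)
  · rw [hu, toPB_x, toPB_P hu']
    exact iff_of_true (Cfsg.Agent.S0428.adj_none_pt _) hu'
  · rw [hu, toPB_x, toPB_N hu']
    exact iff_of_false (Cfsg.Agent.S0428.adj_none_blk _) (mem_far.1 hu').2
  · rw [hu', toPB_P hu, toPB_x]
    exact iff_of_true (Cfsg.Agent.S0428.adj_none_pt _).symm hu.symm
  · rw [toPB_P hu, toPB_P hu']
    exact iff_of_false (Cfsg.Agent.S0428.adj_pt_pt _ _) (no_tri h hu hu')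
  · rw [toPB_P hu, toPB_N hu', Cfsg.Agent.S0428.adj_pt_blk]
    show (⟨u, hu⟩ : {p : V // G.Adj x p}) ∈ blk G x u' ↔ G.Adj u u'
    rw [mem_blk]
    exact ⟨fun h => h.symm, fun h => h.symm⟩
  · rw [hu', toPB_N hu, toPB_x]
    exact iff_of_false (fun h => Cfsg.Agent.S0428.adj_none_blk _ h.symm)
      (fun h => (mem_far.1 hu).2 h.symm)
  · rw [toPB_N hu, toPB_P hu', SimpleGraph.adj_comm, Cfsg.Agent.S0428.adj_pt_blk]
    show (⟨u', hu'⟩ : {p : V // G.Adj x p}) ∈ blk G x u ↔ G.Adj u u'
    rw [mem_blk]
  · rw [toPB_N hu, toPB_N hu', Cfsg.Agent.S0428.adj_blk_blk hB]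
    show Disjoint (blk G x u') (blk G x u) ↔ G.Adj u u'
    constructor
    · intro hd
      by_contra hn
      by_cases he : u' = u
      · rw [he, disjoint_self] at hd
        have h6 := card_blk h hu
        rw [show blk G x u = ∅ from hd] at h6
        simp at h6
      · have h2 := blkV_nadj h hu u' hu' he hn
        obtain ⟨p, hp⟩ := card_pos.1 (by rw [h2]; norm_num :
          0 < (blkV G x u ∩ blkV G x u').card)
        rw [mem_inter, mem_blkV, mem_blkV] at hp
        have hd' := disjoint_left.1 hd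
        exact hd' ((mem_blk (p := (⟨p, hp.1.1⟩ : {p : V // G.Adj x p}))).2 hp.2.2)
          (mem_blk.2 hp.1.2)
    · intro hadj
      rw [disjoint_left]
      intro p hp hp'
      rw [mem_blk] at hp hp'
      exact no_tri h hp'.symm hp.symm hadj

/-- A strongly regular graph with parameters `(100, 22, 0, 6)` is, at each vertex `x`, the
point-block graph of a Steiner system `S(3,6,22)` on the neighbours of `x`. -/
theorem local_design (hG : G.IsSRGWith 100 22 0 6) (x : V) :
    Fintype.card {p : V // G.Adj x p} = 22 ∧ Cfsg.IsSteinerSystem 3 6 (design G x) ∧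
      ∃ e : G ≃g Cfsg.pointBlockGraph (design G x), e x = none := by
  have h := loc_of_srg hG
  have hB := design_steiner h x
  refine ⟨?_, hB, ⟨⟨Equiv.ofBijective (toPB G x) ⟨toPB_inj h x, toPB_surj x⟩,
    fun {u u'} => toPB_adj h x hB u u'⟩, toPB_x x⟩⟩
  rw [Fintype.card_subtype]
  have h1 := h.deg x
  rwa [SimpleGraph.neighborFinset_eq_filter] at h1

section congr

variable {α β : Type*} [DecidableEq α] [DecidableEq β]

theorem image_symm_mem {B : Set (Finset α)} {B' : Set (Finset β)} (e : α ≃ β)
    (h : (fun b => b.image e) '' B = B') {b' : Finset β} (hb' : b' ∈ B') :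
    b'.image e.symm ∈ B := by
  rw [← h] at hb'
  obtain ⟨b, hb, rfl⟩ := hb'
  have h1 : (b.image e).image e.symm = b := by
    rw [image_image]
    simp
  rw [h1]
  exact hb

/-- The bijection between the blocks of two isomorphic set systems. -/
def blockEquiv {B : Set (Finset α)} {B' : Set (Finset β)} (e : α ≃ β)
    (h : (fun b => b.image e) '' B = B') : ↥B ≃ ↥B' where
  toFun b := ⟨(b : Finset α).image e, h ▸ ⟨b, b.2, rfl⟩⟩
  invFun b' := ⟨(b' : Finset β).image e.symm, image_symm_mem e h b'.2⟩
  left_inv b := by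
    apply Subtype.ext
    show ((b : Finset α).image e).image e.symm = b
    rw [image_image]
    simp
  right_inv b' := by
    apply Subtype.ext
    show ((b' : Finset β).image e.symm).image e = b'
    rw [image_image]
    simp

theorem blockEquiv_coe {B : Set (Finset α)} {B' : Set (Finset β)} (e : α ≃ β)
    (h : (fun b => b.image e) '' B = B') (b : ↥B) :
    ((blockEquiv e h b : ↥B') : Finset β) = (b : Finset α).image e := rfl

/-- An isomorphism of set systems induces an isomorphism of the point-block graphs. -/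
theorem pbg_congr {B : Set (Finset α)} {B' : Set (Finset β)} (e : α ≃ β)
    (h : (fun b => b.image e) '' B = B') :
    ∃ c : Cfsg.pointBlockGraph B ≃g Cfsg.pointBlockGraph B', c none = none ∧
      (∀ a, c (some (Sum.inl a)) = some (Sum.inl (e a))) ∧
      ∀ b : ↥B, c (some (Sum.inr b)) = some (Sum.inr (blockEquiv e h b)) := by
  refine ⟨⟨Equiv.optionCongr (Equiv.sumCongr e (blockEquiv e h)), ?_⟩, rfl, fun a => rfl,
    fun b => rfl⟩
  intro u u'
  rcases u with _ | a | b <;> rcases u' with _ | a' | d <;>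
    simp [Cfsg.pointBlockGraph, SimpleGraph.fromRel_adj, Cfsg.pointBlockRel, blockEquiv_coe,
      Finset.disjoint_image e.injective]

end congr

end Cfsg.Agent.Lib.Helper8.SRG100
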