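import Mathlib
import Cfsg.Prelude.Def_Sporadic_a
import Cfsg.Agent.Lib.Helper8.SRG100
import Cfsg.Agent.Lib.Helper8.AutTransport
import Cfsg.Agent.S0410
import Cfsg.Agent.S0414

/-!
Automorphisms of the point-block graph of a set system: the automorphisms of the set system
are exactly the graph automorphisms fixing the extra vertex, and for an `S(3,6,22)` the graph
automorphism group is transitive on the 100 vertices.
-/

set_option autoImplicit false

namespace Cfsg.Agent.Lib.Helper8.PBAut

open Finset Cfsg.Agent.Lib.Helper8.SRG100 Cfsg.Agent.Lib.Helper8.AutTransport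

section iso

variable {α β : Type*} [DecidableEq α] [DecidableEq β]

/-- The isomorphism of point-block graphs induced by an isomorphism of set systems. -/
def pbgIso {B : Set (Finset α)} {B' : Set (Finset β)} (e : α ≃ β)
    (h : (fun b => b.image e) '' B = B') :
    Cfsg.pointBlockGraph B ≃g Cfsg.pointBlockGraph B' where
  toEquiv := Equiv.optionCongr (Equiv.sumCongr e (blockEquiv e h))
  map_rel_iff' := by
    intro u u'
    rcases u with _ | a | b <;> rcases u' with _ | a' | d <;>
      simp [Cfsg.pointBlockGraph, SimpleGraph.fromRel_adj, Cfsg.pointBlockRel, blockEquiv_coe,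
        Finset.disjoint_image e.injective]

theorem pbgIso_none {B : Set (Finset α)} {B' : Set (Finset β)} (e : α ≃ β)
    (h : (fun b => b.image e) '' B = B') : pbgIso e h none = none := rfl

theorem pbgIso_inl {B : Set (Finset α)} {B' : Set (Finset β)} (e : α ≃ β)
    (h : (fun b => b.image e) '' B = B') (a : α) :
    pbgIso e h (some (Sum.inl a)) = some (Sum.inl (e a)) := rfl

theorem pbgIso_inr {B : Set (Finset α)} {B' : Set (Finset β)} (e : α ≃ β)
    (h : (fun b => b.image e) '' B = B') (b : ↥B) :
    pbgIso e h (some (Sum.inr b)) = some (Sum.inr (blockEquiv e h b)) := rfl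

end iso

section aut

variable {α : Type*} [DecidableEq α] (B : Set (Finset α))

/-- Automorphisms of a set system act on its point-block graph. -/
def autHom : Cfsg.setSystemAut B →* (Cfsg.pointBlockGraph B ≃g Cfsg.pointBlockGraph B) where
  toFun g := pbgIso (g : Equiv.Perm α) (mem_aut_iff.1 g.2)
  map_one' := by
    refine DFunLike.ext _ _ (fun u => ?_)
    rcases u with _ | a | b
    · rfl
    · rfl
    · show some (Sum.inr (blockEquiv _ _ b)) = some (Sum.inr b)
      congr 2
      apply Subtype.ext
      rw [blockEquiv_coe]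
      simp
  map_mul' g g' := by
    refine DFunLike.ext _ _ (fun u => ?_)
    rcases u with _ | a | b
    · rfl
    · rfl
    · show some (Sum.inr (blockEquiv _ _ b))
        = some (Sum.inr (blockEquiv _ _ (blockEquiv _ _ b)))
      congr 2
      apply Subtype.ext
      simp only [blockEquiv_coe]
      rw [image_image]
      rfl

theorem autHom_none (g : Cfsg.setSystemAut B) : autHom B g none = none := rfl

theorem autHom_inl (g : Cfsg.setSystemAut B) (a : α) :
    autHom B g (some (Sum.inl a)) = some (Sum.inl ((g : Equiv.Perm α) a)) := rfl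

theorem autHom_inr (g : Cfsg.setSystemAut B) (b : ↥B) :
    autHom B g (some (Sum.inr b))
      = some (Sum.inr (blockEquiv (g : Equiv.Perm α) (mem_aut_iff.1 g.2) b)) := rfl

theorem autHom_injective : Function.Injective (autHom B) := by
  intro g g' h
  apply Subtype.ext
  ext a
  have h1 := congrArg
    (fun c : Cfsg.pointBlockGraph B ≃g Cfsg.pointBlockGraph B => c (some (Sum.inl a))) h
  simp only [autHom_inl] at h1
  exact Sum.inl.inj (Option.some.inj h1)

/-- A graph automorphism fixing the extra vertex comes from an automorphism of the set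
system. -/
theorem autHom_surj [Finite α] (c : Cfsg.pointBlockGraph B ≃g Cfsg.pointBlockGraph B)
    (hc : c none = none) : ∃ g, autHom B g = c := by
  have hP : ∀ p : α, ∃ p', c (some (Sum.inl p)) = some (Sum.inl p') := by
    intro p
    have hadj : (Cfsg.pointBlockGraph B).Adj none (some (Sum.inl p)) :=
      Cfsg.Agent.S0428.adj_none_pt p
    have h1 := c.map_rel_iff.2 hadj
    rw [hc] at h1
    rcases hcp : c (some (Sum.inl p)) with _ | p' | d
    · rw [hcp] at h1
      exact absurd h1 Cfsg.Agent.S0428.adj_none_none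
    · exact ⟨p', rfl⟩
    · rw [hcp] at h1
      exact absurd h1 (Cfsg.Agent.S0428.adj_none_blk d)
  choose π hπ using hP
  have hπinj : Function.Injective π := by
    intro p q hpq
    have h1 : c (some (Sum.inl p)) = c (some (Sum.inl q)) := by rw [hπ, hπ, hpq]
    exact Sum.inl.inj (Option.some.inj (c.injective h1))
  have hπbij := Finite.injective_iff_bijective.1 hπinj
  have hQ : ∀ b : ↥B, ∃ b' : ↥B, c (some (Sum.inr b)) = some (Sum.inr b') := by
    intro b
    have hnadj : ¬ (Cfsg.pointBlockGraph B).Adj none (some (Sum.inr b)) :=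
      Cfsg.Agent.S0428.adj_none_blk b
    have h1 : ¬ (Cfsg.pointBlockGraph B).Adj (c none) (c (some (Sum.inr b))) :=
      fun h => hnadj (c.map_rel_iff.1 h)
    rw [hc] at h1
    rcases hcb : c (some (Sum.inr b)) with _ | p' | d
    · exfalso
      have h2 : c (some (Sum.inr b)) = c none := by rw [hcb, hc]
      exact absurd (c.injective h2) (by simp)
    · rw [hcb] at h1
      exact absurd (Cfsg.Agent.S0428.adj_none_pt p') h1
    · exact ⟨d, rfl⟩
  choose ρ hρ using hQ
  have hmem : ∀ (b : ↥B) (p : α), π p ∈ (ρ b : Finset α) ↔ p ∈ (b : Finset α) := by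
    intro b p
    rw [← Cfsg.Agent.S0428.adj_pt_blk, ← Cfsg.Agent.S0428.adj_pt_blk, ← hπ, ← hρ]
    exact c.map_rel_iff
  have hρimg : ∀ b : ↥B, (ρ b : Finset α) = (b : Finset α).image π := by
    intro b
    ext q
    obtain ⟨p, rfl⟩ := hπbij.2 q
    rw [hmem, mem_image]
    constructor
    · intro hp
      exact ⟨p, hp, rfl⟩
    · rintro ⟨p', hp', hpp⟩
      rw [← hπinj hpp]
      exact hp'
  have hsub : (fun b => b.image (Equiv.ofBijective π hπbij)) '' B ⊆ B := by
    rintro _ ⟨b, hb, rfl⟩
    have h1 := (ρ ⟨b, hb⟩).2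
    rw [hρimg] at h1
    exact h1
  have hfin : B.Finite := Set.toFinite B
  have heq : (fun b => b.image (Equiv.ofBijective π hπbij)) '' B = B :=
    Set.eq_of_subset_of_ncard_le hsub (by
      rw [Set.ncard_image_of_injective _
        (Finset.image_injective (Equiv.ofBijective π hπbij).injective)]) hfin
  refine ⟨⟨Equiv.ofBijective π hπbij, mem_aut_iff.2 heq⟩, ?_⟩
  refine DFunLike.ext _ _ (fun u => ?_)
  rcases u with _ | a | b
  · exact hc.symm
  · rw [autHom_inl, hπ]
    rfl
  · rw [autHom_inr, hρ]
    congr 2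
    apply Subtype.ext
    rw [blockEquiv_coe, hρimg]
    rfl

end aut

section hs

variable {α : Type*} [Fintype α] [DecidableEq α] {B : Set (Finset α)}

/-- The automorphism group of the point-block graph of an `S(3,6,22)` is transitive. -/
theorem exists_to_none (hα : Fintype.card α = 22) (hB : Cfsg.IsSteinerSystem 3 6 B)
    (y : Option (α ⊕ ↥B)) :
    ∃ g : Cfsg.pointBlockGraph B ≃g Cfsg.pointBlockGraph B, g y = none := by
  classical
  have : Fintype ↥B := Fintype.ofFinite _
  have hΓ := Cfsg.Agent.S0428.result hα hB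
  obtain ⟨hc, hB', e, he⟩ := local_design hΓ y
  obtain ⟨f, hf⟩ := Cfsg.Agent.S0410.result hc hα hB' hB
  refine ⟨e.trans (pbgIso f hf), ?_⟩
  show pbgIso f hf (e y) = none
  rw [he]
  rfl

/-- The automorphism group of the point-block graph of an `S(3,6,22)` has order 88704000. -/
theorem card_aut (hα : Fintype.card α = 22) (hB : Cfsg.IsSteinerSystem 3 6 B) :
    Nat.card (Cfsg.pointBlockGraph B ≃g Cfsg.pointBlockGraph B) = 88704000 := by
  classical
  have : Fintype ↥B := Fintype.ofFinite _
  have hΓ := Cfsg.Agent.S0428.result hα hB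
  let φ : (Cfsg.pointBlockGraph B ≃g Cfsg.pointBlockGraph B) →*
      Equiv.Perm (Option (α ⊕ ↥B)) :=
    { toFun := fun g => g.toEquiv, map_one' := rfl, map_mul' := fun _ _ => rfl }
  let _ : MulAction (Cfsg.pointBlockGraph B ≃g Cfsg.pointBlockGraph B) (Option (α ⊕ ↥B)) :=
    MulAction.compHom _ φ
  have hsmul : ∀ (g : Cfsg.pointBlockGraph B ≃g Cfsg.pointBlockGraph B)
      (y : Option (α ⊕ ↥B)), g • y = g y := fun g y => rfl
  have : MulAction.IsPretransitive (Cfsg.pointBlockGraph B ≃g Cfsg.pointBlockGraph B)
      (Option (α ⊕ ↥B)) := by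
    constructor
    intro y z
    obtain ⟨g, hg⟩ := exists_to_none hα hB y
    obtain ⟨g', hg'⟩ := exists_to_none hα hB z
    refine ⟨g'⁻¹ * g, ?_⟩
    rw [mul_smul, hsmul g, hg, ← hg', ← hsmul g' z, inv_smul_smul]
  have hidx := MulAction.index_stabilizer_of_transitive
    (Cfsg.pointBlockGraph B ≃g Cfsg.pointBlockGraph B) (none : Option (α ⊕ ↥B))
  have h100 : Nat.card (Option (α ⊕ ↥B)) = 100 := by
    rw [Nat.card_eq_fintype_card]
    exact hΓ.card
  have hstab : Nat.card (MulAction.stabilizer
      (Cfsg.pointBlockGraph B ≃g Cfsg.pointBlockGraph B) (none : Option (α ⊕ ↥B))) = 887040 := by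
    rw [← (Cfsg.Agent.S0414.result hα hB).1]
    symm
    apply Nat.card_congr
    exact Equiv.ofBijective (fun g => ⟨autHom B g, autHom_none B g⟩)
      ⟨fun g g' h => autHom_injective B (congrArg Subtype.val h), fun c => by
        obtain ⟨g, hg⟩ := autHom_surj B c.1 c.2
        exact ⟨g, Subtype.ext hg⟩⟩
  have h1 := Subgroup.card_mul_index (MulAction.stabilizer
    (Cfsg.pointBlockGraph B ≃g Cfsg.pointBlockGraph B) (none : Option (α ⊕ ↥B)))
  rw [hstab, hidx, h100] at h1
  rw [← h1]

end hs

end Cfsg.Agent.Lib.Helper8.PBAut
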