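import Mathlib
import Cfsg.Agent.Lib.Helper18.ReeHallStmt
import Cfsg.Agent.Lib.Helper8.RHCommon

/-!
# S1158/S2357 piece KT: numbers of elements of order `i ∣ q ∓ r + 1`
-/

set_option autoImplicit false

namespace Cfsg.Agent.Lib.Helper8.RHKT

open Cfsg.Agent.Lib.Helper42.ReeSpStmt Cfsg.Agent.Lib.Helper18.ReeHallStmt
open Cfsg.Agent.Lib.Helper8.RHCommon

universe u

theorem main : Cfsg.Agent.Lib.Helper18.ReeHallStmt.KT.{u} := by
  intro G _ _ m hm hCnt hG hTor
  obtain ⟨C₁, C₂, hc1, hc2, hcard1, hcard2, hcov, hN1, hN2, hcent1, hcent2⟩ := hTor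
  have hprod := tor_prod m
  have hq3 := qq_ge m
  have hrq := rr_le_qq m
  have hcube := cube_fact (qq m) (by omega)
  have hsq := sq_fact (qq m) (by omega)
  have hP3 : ∀ (i : ℕ) (g : G), 1 < i → i ∣ qq m ^ 2 - qq m + 1 → orderOf g = i → P3 G m g := by
    intro i g hi hdv ho
    refine ⟨?_, ?_⟩
    · rintro rfl
      rw [orderOf_one] at ho
      omega
    · rw [ho]
      by_contra hnc
      obtain ⟨p, hp, hpd⟩ := Nat.exists_prime_and_dvd hnc
      exact no_common (qq m) (three_dvd_qq m) hq3 p hp
        ((hpd.trans (Nat.gcd_dvd_left _ _)).trans hdv) (hpd.trans (Nat.gcd_dvd_right _ _))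
  have hy1 : ∀ (i : ℕ) (y : G), 1 < i → orderOf y = i → y ≠ 1 := by
    intro i y hi ho
    rintro rfl
    rw [orderOf_one] at ho
    omega
  constructor
  · intro i hi hdv
    have hcnt := count_via hCnt C₂ hc2 i (by rw [hcard2]; exact hdv)
      (by
        intro g y hy ho hgy
        have hy1' := hy1 i y hi ho
        exact fusion_cent C₂ g y (hcent2 y hy hy1') (hcent2 _ hgy (conj_ne_one g y hy1')))
      (by
        intro g ho
        have hp3 := hP3 i g hi (hprod ▸ Dvd.dvd.mul_left hdv _) ho
        obtain ⟨x, hx | hx⟩ := hcov g hp3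
        · exfalso
          have hd := Subgroup.orderOf_dvd_natCard C₁ hx
          rw [orderOf_conj', ho, hcard1] at hd
          obtain ⟨p, hp, hpd⟩ := Nat.exists_prime_and_dvd (Nat.ne_of_gt hi)
          exact tor_no_common m p hp (hpd.trans hd) (hpd.trans hdv)
        · exact ⟨x, hx⟩)
    rw [hN2, hG] at hcnt
    have hpos : 0 < qq m - rr m + 1 := by omega
    apply Nat.eq_of_mul_eq_mul_right hpos
    calc 6 * Nat.card {g : G // orderOf g = i} * (qq m - rr m + 1)
        = Nat.card {g : G // orderOf g = i} * (6 * (qq m - rr m + 1)) := by ring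
      _ = Nat.totient i * (qq m ^ 3 * (qq m - 1) * (qq m ^ 3 + 1)) := hcnt
      _ = Nat.totient i * qq m ^ 3 * ((qq m - 1) * (qq m + 1))
            * ((qq m + rr m + 1) * (qq m - rr m + 1)) := by
        rw [hcube, hprod]
        ring
      _ = Nat.totient i * qq m ^ 3 * (qq m ^ 2 - 1) * (qq m + rr m + 1)
            * (qq m - rr m + 1) := by
        rw [hsq]
        ring
  · intro i hi hdv
    have hcnt := count_via hCnt C₁ hc1 i (by rw [hcard1]; exact hdv)
      (by
        intro g y hy ho hgy
        have hy1' := hy1 i y hi ho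
        exact fusion_cent C₁ g y (hcent1 y hy hy1') (hcent1 _ hgy (conj_ne_one g y hy1')))
      (by
        intro g ho
        have hp3 := hP3 i g hi (hprod ▸ Dvd.dvd.mul_right hdv _) ho
        obtain ⟨x, hx | hx⟩ := hcov g hp3
        · exact ⟨x, hx⟩
        · exfalso
          have hd := Subgroup.orderOf_dvd_natCard C₂ hx
          rw [orderOf_conj', ho, hcard2] at hd
          obtain ⟨p, hp, hpd⟩ := Nat.exists_prime_and_dvd (Nat.ne_of_gt hi)
          exact tor_no_common m p hp (hpd.trans hdv) (hpd.trans hd))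
    rw [hN1, hG] at hcnt
    have hpos : 0 < qq m + rr m + 1 := by omega
    apply Nat.eq_of_mul_eq_mul_right hpos
    calc 6 * Nat.card {g : G // orderOf g = i} * (qq m + rr m + 1)
        = Nat.card {g : G // orderOf g = i} * (6 * (qq m + rr m + 1)) := by ring
      _ = Nat.totient i * (qq m ^ 3 * (qq m - 1) * (qq m ^ 3 + 1)) := hcnt
      _ = Nat.totient i * qq m ^ 3 * ((qq m - 1) * (qq m + 1))
            * ((qq m + rr m + 1) * (qq m - rr m + 1)) := by
        rw [hcube, hprod]
        ring
      _ = Nat.totient i * qq m ^ 3 * (qq m ^ 2 - 1) * (qq m - rr m + 1)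
            * (qq m + rr m + 1) := by
        rw [hsq]
        ring

end Cfsg.Agent.Lib.Helper8.RHKT
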