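import Mathlib
import Cfsg.Agent.Lib.Helper54.S52Stmt

set_option autoImplicit false

/-!
helper8: piece UEX of S1352: a Hall subgroup `K` of `E` meeting the commutator subgroup of `E`
trivially has a normal complement in `E` (the elements whose `|E : K|`-th power is a product of
commutators).
-/

namespace Cfsg.Agent.Lib.Helper8.S52UEX

universe u

/-- Intrinsic form: a Hall subgroup `K` of `H` with `K ⊓ H' = ⊥` has a normal complement. -/
theorem exists_normal_compl {H : Type u} [Group H] [Finite H] (K : Subgroup H)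
    (hcop : (Nat.card K).Coprime K.index) (hK : K ⊓ commutator H = ⊥) :
    ∃ U : Subgroup H, U.Normal ∧ U ⊓ K = ⊥ ∧ ∀ e : H, ∃ u ∈ U, ∃ k ∈ K, e = u * k := by
  set n := K.index with hn
  let φ : H →* Abelianization H := (powMonoidHom n).comp Abelianization.of
  have hof : ∀ x : H, Abelianization.of x = 1 ↔ x ∈ commutator H := by
    intro x
    rw [← MonoidHom.mem_ker, Abelianization.ker_of]
  have hmem : ∀ e : H, e ∈ φ.ker ↔ e ^ n ∈ commutator H := by
    intro e
    rw [MonoidHom.mem_ker, ← hof, map_pow]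
    rfl
  have hCU : ∀ c ∈ commutator H, c ∈ φ.ker := fun c hc =>
    (hmem c).mpr ((commutator H).pow_mem hc n)
  refine ⟨φ.ker, inferInstance, ?_, ?_⟩
  · rw [eq_bot_iff]
    intro x hx
    obtain ⟨hxU, hxK⟩ := Subgroup.mem_inf.mp hx
    have h1 : x ^ n ∈ K ⊓ commutator H := ⟨K.pow_mem hxK n, (hmem x).mp hxU⟩
    rw [hK, Subgroup.mem_bot] at h1
    have h3 : orderOf x ∣ Nat.gcd (Nat.card K) n :=
      Nat.dvd_gcd (K.orderOf_dvd_natCard hxK) (orderOf_dvd_of_pow_eq_one h1)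
    rw [Nat.Coprime.gcd_eq_one hcop] at h3
    rw [Subgroup.mem_bot]
    exact orderOf_eq_one_iff.mp (Nat.dvd_one.mp h3)
  · intro e
    -- `e ^ n` lies in `K` modulo commutators
    have hidx : (K.map (Abelianization.of : H →* Abelianization H)).index ∣ n :=
      Subgroup.index_map_dvd K (QuotientGroup.mk'_surjective (commutator H))
    have h1 : (Abelianization.of e) ^ n ∈ K.map (Abelianization.of : H →* Abelianization H) := by
      obtain ⟨d, hd⟩ := hidx
      rw [hd, pow_mul]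
      exact Subgroup.pow_mem _ (Subgroup.pow_index_mem _ _) _
    obtain ⟨κ, hκK, hκ⟩ := h1
    -- Bezout
    have hbez : ((n : ℤ) * Nat.gcdA n (Nat.card K) + (Nat.card K : ℤ) * Nat.gcdB n (Nat.card K)) = 1 := by
      rw [← Nat.gcd_eq_gcd_ab, Nat.Coprime.gcd_eq_one hcop.symm]; rfl
    set a := Nat.gcdA n (Nat.card K) with ha
    set b := Nat.gcdB n (Nat.card K) with hb
    have he : e = (e ^ n) ^ a * (e ^ Nat.card K) ^ b := by
      rw [← zpow_natCast, ← zpow_mul, ← zpow_natCast e (Nat.card K), ← zpow_mul, ← zpow_add,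
        hbez, zpow_one]
    set w := (e ^ n) ^ a with hw
    set u₂ := (e ^ Nat.card K) ^ b with hu₂
    have hu₂U : u₂ ∈ φ.ker := by
      rw [hmem]
      have hcard : (e ^ Nat.card K) ^ n = 1 := by
        rw [← pow_mul, hn, Subgroup.card_mul_index]
        exact pow_card_eq_one'
      have : u₂ ^ n = 1 := by
        rw [hu₂, ← zpow_natCast, ← zpow_mul, mul_comm, zpow_mul, zpow_natCast, hcard, one_zpow]
      rw [this]; exact one_mem _
    have hc' : (κ ^ a)⁻¹ * w ∈ commutator H := by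
      rw [← hof, map_mul, map_inv, map_zpow, hw, map_zpow, map_pow, hκ, inv_mul_cancel]
    have hnorm : (φ.ker).Normal := inferInstance
    refine ⟨κ ^ a * ((κ ^ a)⁻¹ * w * u₂) * (κ ^ a)⁻¹, ?_, κ ^ a, K.zpow_mem hκK a, ?_⟩
    · exact hnorm.conj_mem _ (Subgroup.mul_mem _ (hCU _ hc') hu₂U) _
    · rw [he]; group

theorem main : Cfsg.Agent.Lib.Helper54.S52Stmt.UEx.{u} := by
  intro G _ _ E K hKE hcop hK
  have hcard : Nat.card (K.subgroupOf E) = Nat.card K :=
    Nat.card_congr (Subgroup.subgroupOfEquivOfLe hKE).toEquiv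
  have hcop' : (Nat.card (K.subgroupOf E)).Coprime (K.subgroupOf E).index := by
    rw [hcard]; exact hcop
  have hK' : K.subgroupOf E ⊓ commutator E = ⊥ := by
    rw [eq_bot_iff]
    intro x hx
    obtain ⟨hx1, hx2⟩ := Subgroup.mem_inf.mp hx
    have h1 : (x : G) ∈ K := hx1
    have h2 : (x : G) ∈ ⁅E, E⁆ := by
      rw [← Subgroup.map_subtype_commutator]
      exact ⟨x, hx2, rfl⟩
    have h3 : (x : G) ∈ K ⊓ ⁅E, E⁆ := ⟨h1, h2⟩
    rw [hK, Subgroup.mem_bot] at h3
    rw [Subgroup.mem_bot]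
    exact Subtype.ext h3
  obtain ⟨U, hUn, hUK, hUE⟩ := exists_normal_compl (K.subgroupOf E) hcop' hK'
  refine ⟨U.map E.subtype, ?_, ?_, ?_, ?_⟩
  · rintro _ ⟨x, -, rfl⟩
    exact x.2
  · rw [eq_bot_iff]
    rintro _ ⟨⟨x, hxU, rfl⟩, hxK⟩
    have : x ∈ U ⊓ K.subgroupOf E := ⟨hxU, hxK⟩
    rw [hUK, Subgroup.mem_bot] at this
    rw [Subgroup.mem_bot, this]; rfl
  · intro g hg
    rw [Subgroup.mem_normalizer_iff]
    intro x
    constructor
    · rintro ⟨x', hx', rfl⟩
      exact ⟨⟨g, hg⟩ * x' * ⟨g, hg⟩⁻¹, hUn.conj_mem _ hx' _, rfl⟩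
    · rintro ⟨z, hz, hzx⟩
      refine ⟨⟨g, hg⟩⁻¹ * z * ⟨g, hg⟩, ?_, ?_⟩
      · have := hUn.conj_mem _ hz (⟨g, hg⟩⁻¹ : E)
        simpa using this
      · have : E.subtype (⟨g, hg⟩⁻¹ * z * ⟨g, hg⟩) = g⁻¹ * (z : G) * g := rfl
        rw [this]
        have hzx' : (z : G) = g * x * g⁻¹ := hzx
        rw [hzx']; group
  · intro e he
    obtain ⟨u, hu, k, hk, hek⟩ := hUE ⟨e, he⟩
    exact ⟨u, ⟨u, hu, rfl⟩, k, hk, congrArg Subtype.val hek⟩

end Cfsg.Agent.Lib.Helper8.S52UEX
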