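import Mathlib
import Cfsg.Agent.Lib.Helper54.S52Stmt
import Cfsg.Agent.Lib.Helper35.Stem

set_option autoImplicit false

/-!
helper8: piece YEX of S1352 (transfer): a normal subgroup `R0 ≤ E'` of prime order `r` of `E`,
with the Sylow `r`-subgroups of `E` cyclic, is not centralised by every element of prime power
order of `E`.
-/

namespace Cfsg.Agent.Lib.Helper8.S52YEX

universe u

/-- A subgroup containing all elements of prime power order `q ^ (k + 1)` is everything. -/
theorem eq_top_of_primePow {H : Type u} [Group H] [Finite H] (Z : Subgroup H)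
    (h : ∀ x : H, ∀ q k : ℕ, q.Prime → orderOf x = q ^ (k + 1) → x ∈ Z) : Z = ⊤ := by
  apply Subgroup.eq_top_of_card_eq
  apply Nat.dvd_antisymm (Subgroup.card_subgroup_dvd_card Z)
  rw [← Nat.factorization_prime_le_iff_dvd Nat.card_pos.ne' Nat.card_pos.ne']
  intro p hp
  haveI : Fact p.Prime := ⟨hp⟩
  obtain ⟨P⟩ : Nonempty (Sylow p H) := inferInstance
  have hPZ : (P : Subgroup H) ≤ Z := by
    intro x hx
    obtain ⟨k, hk⟩ := P.isPGroup' ⟨x, hx⟩
    have hk' : x ^ p ^ k = 1 := by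
      have := congrArg Subtype.val hk
      simpa using this
    obtain ⟨j, -, hj⟩ := (Nat.dvd_prime_pow hp).mp (orderOf_dvd_of_pow_eq_one hk')
    rcases j with _ | j
    · rw [pow_zero, orderOf_eq_one_iff] at hj
      rw [hj]; exact Z.one_mem
    · exact h x p j hp hj
  have h3 : p ^ (Nat.card H).factorization p ∣ Nat.card Z := by
    rw [← P.card_eq_multiplicity]
    exact Subgroup.card_dvd_of_le hPZ
  exact (hp.pow_dvd_iff_le_factorization Nat.card_pos.ne').mp h3

theorem main : Cfsg.Agent.Lib.Helper54.S52Stmt.YEx.{u} := by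
  intro G _ _ E R0 r hr hcard hRE' hEN hcyc
  by_contra hcon
  push Not at hcon
  haveI : Fact r.Prime := ⟨hr⟩
  have hcomm_le : ⁅E, E⁆ ≤ E := by
    rw [← Subgroup.map_subtype_commutator]
    rintro _ ⟨x, -, rfl⟩
    exact x.2
  have hRE : R0 ≤ E := hRE'.trans hcomm_le
  -- every element of `E` centralises `R0`
  have hZ : ((Subgroup.centralizer (R0 : Set G)).subgroupOf E) = ⊤ := by
    apply eq_top_of_primePow
    intro x q k hq hx
    rw [Subgroup.mem_subgroupOf, Subgroup.mem_centralizer_iff]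
    intro u hu
    have hx' : orderOf (x : G) = q ^ (k + 1) := by
      rw [← hx]; exact (Subgroup.orderOf_coe x)
    exact (hcon (x : G) x.2 q k hq hx' u hu).symm
  have hcen : ∀ e ∈ E, ∀ u ∈ R0, u * e = e * u := by
    intro e he u hu
    have h1 : (⟨e, he⟩ : E) ∈ (Subgroup.centralizer (R0 : Set G)).subgroupOf E := by
      rw [hZ]; trivial
    rw [Subgroup.mem_subgroupOf, Subgroup.mem_centralizer_iff] at h1
    exact h1 u hu
  -- a nontrivial element of `R0`
  have hne : R0 ≠ ⊥ := by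
    intro h0
    rw [h0, Subgroup.card_bot] at hcard
    exact hr.one_lt.ne hcard
  obtain ⟨z, hz1⟩ := (Subgroup.ne_bot_iff_exists_ne_one.mp hne)
  have hzR' : (z : G) ∈ R0 := z.2
  have hz1' : (z : G) ≠ 1 := fun h => hz1 (Subtype.ext h)
  have hzo : orderOf (z : G) = r := by
    have hd : orderOf (z : G) ∣ r := hcard ▸ R0.orderOf_dvd_natCard hzR'
    rcases (Nat.dvd_prime hr).mp hd with h1 | h1
    · exact absurd (orderOf_eq_one_iff.mp h1) hz1'
    · exact h1
  have hzE : (z : G) ∈ E := hRE hzR'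
  set z' : E := ⟨(z : G), hzE⟩ with hz'
  have hzc : z' ∈ Subgroup.center E := by
    rw [Subgroup.mem_center_iff]
    intro g
    apply Subtype.ext
    exact (hcen g g.2 z hzR').symm
  have hzcomm : z' ∈ commutator E := by
    have h1 : (z : G) ∈ ⁅E, E⁆ := hRE' hzR'
    rw [← Subgroup.map_subtype_commutator] at h1
    obtain ⟨x, hx, hxz⟩ := h1
    have : x = z' := Subtype.ext hxz
    rw [← this]; exact hx
  have hzo' : orderOf z' = r ^ 1 := by
    rw [pow_one, ← hzo]; exact Subgroup.orderOf_mk _ hzE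
  obtain ⟨S⟩ : Nonempty (Sylow r E) := inferInstance
  have hmem := Cfsg.Agent.Lib.Helper35.Stem.mem_commutator_sylow S hzc hzcomm hzo'
  have hbot : ⁅(S : Subgroup E), (S : Subgroup E)⁆ = ⊥ := by
    rw [Subgroup.commutator_eq_bot_iff_le_centralizer]
    intro a ha
    rw [Subgroup.mem_centralizer_iff]
    intro b hb
    haveI := hcyc S
    obtain ⟨g, hg⟩ := IsCyclic.exists_generator (α := S)
    obtain ⟨i, hi⟩ := Subgroup.mem_zpowers_iff.mp (hg ⟨a, ha⟩)
    obtain ⟨j, hj⟩ := Subgroup.mem_zpowers_iff.mp (hg ⟨b, hb⟩)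
    have h1 : (⟨b, hb⟩ : S) * ⟨a, ha⟩ = ⟨a, ha⟩ * ⟨b, hb⟩ := by
      rw [← hi, ← hj, ← zpow_add, ← zpow_add, add_comm]
    exact congrArg Subtype.val h1
  rw [hbot, Subgroup.mem_bot] at hmem
  exact hz1' (congrArg Subtype.val hmem)

end Cfsg.Agent.Lib.Helper8.S52YEX
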