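import Mathlib
import Cfsg.Agent.Lib.Helper8.Steiner

/-!
Steiner systems S(5, 6, 12): moment identities, block intersections, complements of blocks.
-/

set_option autoImplicit false

namespace Cfsg.Agent.Lib.Helper8.S5612

open Finset Cfsg.Agent.Lib.Helper8.Steiner

variable {α : Type*} [Fintype α] [DecidableEq α]

theorem card_blocks (hα : Fintype.card α = 12) {B : Set (Finset α)}
    (hB : Cfsg.IsSteinerSystem 5 6 B) : (blocks B).card = 132 := by
  have h := moment hB ∅ 0 (by norm_num)
  have c1 : Nat.choose 12 5 = 792 := by decide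
  have c2 : Nat.choose 6 5 = 6 := by decide
  simp only [hα, Nat.choose_zero_right, sum_const, smul_eq_mul, mul_one, Nat.sub_zero, c1, c2,
    one_mul] at h
  omega

theorem m1 (hα : Fintype.card α = 12) {B : Set (Finset α)}
    (hB : Cfsg.IsSteinerSystem 5 6 B) (S : Finset α) :
    ∑ b ∈ blocks B, (b ∩ S).card = 66 * S.card := by
  have h := moment hB S 1 (by norm_num)
  have c1 : Nat.choose 11 4 = 330 := by decide
  have c2 : Nat.choose 5 4 = 5 := by decide
  simp only [hα, Nat.choose_one_right, c1, c2, Nat.reduceSub] at h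
  omega

theorem m2 (hα : Fintype.card α = 12) {B : Set (Finset α)}
    (hB : Cfsg.IsSteinerSystem 5 6 B) (S : Finset α) :
    ∑ b ∈ blocks B, (b ∩ S).card.choose 2 = 30 * S.card.choose 2 := by
  have h := moment hB S 2 (by norm_num)
  have c1 : Nat.choose 10 3 = 120 := by decide
  have c2 : Nat.choose 4 3 = 4 := by decide
  simp only [hα, c1, c2, Nat.reduceSub] at h
  omega

theorem m3 (hα : Fintype.card α = 12) {B : Set (Finset α)}
    (hB : Cfsg.IsSteinerSystem 5 6 B) (S : Finset α) :
    ∑ b ∈ blocks B, (b ∩ S).card.choose 3 = 12 * S.card.choose 3 := by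
  have h := moment hB S 3 (by norm_num)
  have c1 : Nat.choose 9 2 = 36 := by decide
  have c2 : Nat.choose 3 2 = 3 := by decide
  simp only [hα, c1, c2, Nat.reduceSub] at h
  omega

theorem m4 (hα : Fintype.card α = 12) {B : Set (Finset α)}
    (hB : Cfsg.IsSteinerSystem 5 6 B) (S : Finset α) :
    ∑ b ∈ blocks B, (b ∩ S).card.choose 4 = 4 * S.card.choose 4 := by
  have h := moment hB S 4 (by norm_num)
  simp only [hα, Nat.choose_one_right, Nat.reduceSub] at h
  omega

theorem m5 (hα : Fintype.card α = 12) {B : Set (Finset α)}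
    (hB : Cfsg.IsSteinerSystem 5 6 B) (S : Finset α) :
    ∑ b ∈ blocks B, (b ∩ S).card.choose 5 = S.card.choose 5 := by
  have h := moment hB S 5 (by norm_num)
  simp only [hα, Nat.choose_zero_right, Nat.reduceSub, mul_one] at h
  exact h

omit [Fintype α] in
theorem inter_le_four {B : Set (Finset α)}
    (hB : Cfsg.IsSteinerSystem 5 6 B) {b c : Finset α} (hb : b ∈ B) (hc : c ∈ B) (hbc : b ≠ c) :
    (b ∩ c).card ≤ 4 := by
  by_contra hlt
  obtain ⟨s, hs, hcard⟩ := Finset.exists_subset_card_eq (show 5 ≤ (b ∩ c).card by omega)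
  obtain ⟨d, _, huniq⟩ := hB.2 s hcard
  have h1 := huniq b ⟨hb, hs.trans inter_subset_left⟩
  have h2 := huniq c ⟨hc, hs.trans inter_subset_right⟩
  exact hbc (h1.trans h2.symm)

/-- exactly one block is disjoint from a given block -/
theorem card_disjoint (hα : Fintype.card α = 12) {B : Set (Finset α)}
    (hB : Cfsg.IsSteinerSystem 5 6 B) {b : Finset α} (hb : b ∈ B) :
    ((blocks B).filter (fun d => (d ∩ b).card = 0)).card = 1 := by
  have hpt : ∀ d ∈ blocks B,
      (if (d ∩ b).card = 0 then 1 else 0) + (d ∩ b).card + (d ∩ b).card.choose 3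
        + (if d = b then 5 else 0)
      = 1 + (d ∩ b).card.choose 2 + (d ∩ b).card.choose 4 := by
    intro d hd
    rw [mem_blocks] at hd
    by_cases hdb : d = b
    · subst hdb
      have c2 : Nat.choose 6 2 = 15 := by decide
      have c3 : Nat.choose 6 3 = 20 := by decide
      have c4 : Nat.choose 6 4 = 15 := by decide
      simp [hB.1 d hd, c2, c3, c4]
    · have := inter_le_four hB hd hb hdb
      rw [if_neg hdb]
      interval_cases h : (d ∩ b).card <;> simp <;> decide
  have hs := Finset.sum_congr rfl hpt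
  rw [sum_add_distrib, sum_add_distrib, sum_add_distrib, sum_add_distrib, sum_add_distrib,
    m1 hα hB, m2 hα hB, m3 hα hB, m4 hα hB, sum_ite_eq', sum_boole,
    if_pos (mem_blocks.mpr hb), hB.1 b hb, sum_const, card_blocks hα hB] at hs
  have c2 : Nat.choose 6 2 = 15 := by decide
  have c3 : Nat.choose 6 3 = 20 := by decide
  have c4 : Nat.choose 6 4 = 15 := by decide
  rw [c2, c3, c4] at hs
  simp only [Nat.cast_id, smul_eq_mul] at hs
  omega

theorem compl_mem (hα : Fintype.card α = 12) {B : Set (Finset α)}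
    (hB : Cfsg.IsSteinerSystem 5 6 B) {b : Finset α} (hb : b ∈ B) : bᶜ ∈ B := by
  have h1 := card_disjoint hα hB hb
  obtain ⟨c, hc⟩ := card_eq_one.mp h1
  have hcm : c ∈ (blocks B).filter (fun d => (d ∩ b).card = 0) := by
    rw [hc]; exact mem_singleton_self c
  rw [mem_filter, mem_blocks, card_eq_zero] at hcm
  obtain ⟨hcB, hcb⟩ := hcm
  have hsub : c ⊆ bᶜ := by
    intro x hx
    rw [mem_compl]
    intro hxb
    have : x ∈ c ∩ b := mem_inter.mpr ⟨hx, hxb⟩
    rw [hcb] at this
    exact absurd this (notMem_empty _)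
  have hcard : bᶜ.card ≤ c.card := by
    rw [card_compl, hα, hB.1 b hb, hB.1 c hcB]
  rw [← eq_of_subset_of_card_le hsub hcard]
  exact hcB

end Cfsg.Agent.Lib.Helper8.S5612
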