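import Mathlib
import Cfsg.Agent.Lib.Helper93.S64Stmt
import Cfsg.Agent.Lib.Helper22.S56Stmt

set_option autoImplicit false

/-!
# S1356 / QUOT

`D'` centralizes `O / N`: `FrobMod` in `X ⧸ N` for the images of `O`, `D`, `R`.
-/

namespace Cfsg.Agent.Lib.Helper8.S56QUOT

open Cfsg Cfsg.Agent.Lib.Helper93.S64Stmt Cfsg.Agent.Lib.Helper22.S56Stmt

universe u

/-- elements of `D ⊔ R` are products when `R` normalizes `D` -/
theorem mem_sup_norm {G : Type*} [Group G] (D R : Subgroup G)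
    (hR : R ≤ Subgroup.normalizer (D : Set G)) {x : G} (hx : x ∈ D ⊔ R) :
    ∃ d ∈ D, ∃ r ∈ R, x = d * r := by
  rw [Subgroup.sup_eq_closure] at hx
  refine Subgroup.closure_induction ?_ ?_ ?_ ?_ hx
  · rintro x (hx | hx)
    · exact ⟨x, hx, 1, R.one_mem, by simp⟩
    · exact ⟨1, D.one_mem, x, hx, by simp⟩
  · exact ⟨1, D.one_mem, 1, R.one_mem, by simp⟩
  · rintro _ _ _ _ ⟨d₁, hd₁, r₁, hr₁, rfl⟩ ⟨d₂, hd₂, r₂, hr₂, rfl⟩
    have h : r₁ * d₂ * r₁⁻¹ ∈ D := (Subgroup.mem_normalizer_iff.mp (hR hr₁) d₂).mp hd₂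
    exact ⟨d₁ * (r₁ * d₂ * r₁⁻¹), D.mul_mem hd₁ h, r₁ * r₂, R.mul_mem hr₁ hr₂, by group⟩
  · rintro _ _ ⟨d, hd, r, hr, rfl⟩
    have h : r⁻¹ * d⁻¹ * r⁻¹⁻¹ ∈ D :=
      (Subgroup.mem_normalizer_iff.mp (hR (R.inv_mem hr)) d⁻¹).mp (D.inv_mem hd)
    exact ⟨r⁻¹ * d⁻¹ * r⁻¹⁻¹, h, r⁻¹, R.inv_mem hr, by group⟩

theorem main (hQP : QuotPrime.{u}) (hFM : FrobMod.{u}) : Quot.{u} := by
  intro X _ _ H R D N _ _ q hA hB hqi hCO hDH hDO hRD hNO hpow hcomm d hd o ho
  classical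
  have hq : q.Prime := hB.qprime
  haveI : Fact q.Prime := ⟨hq⟩
  have hOH : Oq X H q ≤ H := Oq_le X H q
  have hNH : N ≤ H := hNO.trans hOH
  have hπ : Function.Surjective (QuotientGroup.mk' N) := QuotientGroup.mk'_surjective N
  have hker : ∀ x : X, (QuotientGroup.mk' N) x = 1 ↔ x ∈ N := fun x => QuotientGroup.eq_one_iff x
  have hHR : H ⊓ R = ⊥ := Subgroup.inf_eq_bot_of_coprime hA.cop
  have hRinj : ∀ x ∈ R, (QuotientGroup.mk' N) x = 1 → x = 1 := by
    intro x hx h1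
    have h : x ∈ H ⊓ R := ⟨hNH ((hker x).mp h1), hx⟩
    rw [hHR] at h
    exact Subgroup.mem_bot.mp h
  haveI hVn : ((Oq X H q).map (QuotientGroup.mk' N)).Normal :=
    Subgroup.Normal.map (inferInstance : (Oq X H q).Normal) (QuotientGroup.mk' N) hπ
  -- (1) commutative
  have h1 : ∀ a ∈ (Oq X H q).map (QuotientGroup.mk' N),
      ∀ b ∈ (Oq X H q).map (QuotientGroup.mk' N), a * b = b * a := by
    rintro _ ⟨a, ha, rfl⟩ _ ⟨b, hb, rfl⟩
    have h := (hker _).mpr (hcomm a ha b hb)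
    simp only [map_mul, map_inv] at h
    rw [mul_inv_eq_one, mul_inv_eq_iff_eq_mul] at h
    exact h
  -- (2) exponent
  have h2 : ∀ a ∈ (Oq X H q).map (QuotientGroup.mk' N), a ^ q = 1 := by
    rintro _ ⟨a, ha, rfl⟩
    rw [← map_pow]
    exact (hker _).mpr (hpow a ha)
  -- (3)
  have hnV : Subgroup.normalizer (((Oq X H q).map (QuotientGroup.mk' N) : Subgroup (X ⧸ N)) :
      Set (X ⧸ N)) = ⊤ := Subgroup.normalizer_eq_top _
  have h3 : D.map (QuotientGroup.mk' N) ≤ Subgroup.normalizer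
      (((Oq X H q).map (QuotientGroup.mk' N) : Subgroup (X ⧸ N)) : Set (X ⧸ N)) := by
    rw [hnV]; exact le_top
  have h4 : R.map (QuotientGroup.mk' N) ≤ Subgroup.normalizer
      (((Oq X H q).map (QuotientGroup.mk' N) : Subgroup (X ⧸ N)) : Set (X ⧸ N)) := by
    rw [hnV]; exact le_top
  -- (4)
  have h5 : R.map (QuotientGroup.mk' N) ≤ Subgroup.normalizer
      ((D.map (QuotientGroup.mk' N) : Subgroup (X ⧸ N)) : Set (X ⧸ N)) :=
    (Subgroup.map_mono hRD).trans (Subgroup.le_normalizer_map (QuotientGroup.mk' N))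
  -- (5)
  have h6 : R.map (QuotientGroup.mk' N) ≠ ⊥ := by
    intro hbot
    apply hA.ne
    rw [Subgroup.eq_bot_iff_forall]
    intro x hx
    apply hRinj x hx
    have h : (QuotientGroup.mk' N) x ∈ R.map (QuotientGroup.mk' N) :=
      Subgroup.mem_map_of_mem _ hx
    rw [hbot] at h
    exact Subgroup.mem_bot.mp h
  -- (6)
  have hQ : ∀ y ∈ R.map (QuotientGroup.mk' N), y ≠ 1 →
      H.map (QuotientGroup.mk' N) ⊓ Subgroup.centralizer ({y} : Set (X ⧸ N)) =
        (H ⊓ Subgroup.centralizer (R : Set X)).map (QuotientGroup.mk' N) :=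
    fun y hy hy1 => hQP H R N hNH hA.cop hA.prime y hy hy1
  have h7 : ∀ r ∈ R.map (QuotientGroup.mk' N), r ≠ 1 →
      D.map (QuotientGroup.mk' N) ⊓ Subgroup.centralizer ({r} : Set (X ⧸ N)) = ⊥ := by
    intro r hr hr1
    rw [Subgroup.eq_bot_iff_forall]
    rintro k ⟨hkK, hkC⟩
    obtain ⟨d', hd', rfl⟩ := hkK
    have hmem : (QuotientGroup.mk' N) d' ∈
        H.map (QuotientGroup.mk' N) ⊓ Subgroup.centralizer ({r} : Set (X ⧸ N)) :=
      ⟨Subgroup.mem_map_of_mem _ (hDH hd'), hkC⟩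
    rw [hQ r hr hr1] at hmem
    obtain ⟨c, hc, hcd⟩ := hmem
    have hN' : c⁻¹ * d' ∈ N := by
      rw [← hker]
      simp only [map_mul, map_inv]
      rw [hcd]; simp
    have hdO : d' ∈ Oq X H q := by
      have h : d' = c * (c⁻¹ * d') := by group
      rw [h]; exact (Oq X H q).mul_mem (hCO hc) (hNO hN')
    have h : d' ∈ D ⊓ Oq X H q := ⟨hd', hdO⟩
    rw [hDO] at h
    rw [Subgroup.mem_bot.mp h]; exact map_one _
  -- (7), (8)
  haveI : Group.IsSolvable X := hA.solv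
  haveI : Group.IsSolvable (X ⧸ N) := Group.isSolvable_of_surjective hπ
  have h8 : Group.IsSolvable
      ↥(D.map (QuotientGroup.mk' N) ⊔ R.map (QuotientGroup.mk' N)) := inferInstance
  have h9 : Odd (Nat.card ↥(D.map (QuotientGroup.mk' N) ⊔ R.map (QuotientGroup.mk' N))) := by
    have hd1 : Nat.card ↥(D.map (QuotientGroup.mk' N) ⊔ R.map (QuotientGroup.mk' N)) ∣
        Nat.card (X ⧸ N) := Subgroup.card_subgroup_dvd_card _
    have hd2 : Nat.card (X ⧸ N) ∣ Nat.card X := Subgroup.card_quotient_dvd_card N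
    exact Odd.of_dvd_nat hA.odd (hd1.trans hd2)
  -- (9)
  have h10 : (Nat.card ↥(D.map (QuotientGroup.mk' N) ⊔ R.map (QuotientGroup.mk' N))).Coprime
      q := by
    have hTO : (D ⊔ R) ⊓ Oq X H q = ⊥ := by
      rw [Subgroup.eq_bot_iff_forall]
      rintro g ⟨hgT, hgO⟩
      obtain ⟨d', hd', r, hr, rfl⟩ := mem_sup_norm D R hRD hgT
      have hrH : r ∈ H := by
        have h : r = d'⁻¹ * (d' * r) := by group
        rw [h]; exact H.mul_mem (H.inv_mem (hDH hd')) (hOH hgO)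
      have hr1 : r = 1 := by
        have h : r ∈ H ⊓ R := ⟨hrH, hr⟩
        rw [hHR] at h; exact Subgroup.mem_bot.mp h
      subst hr1
      rw [mul_one] at hgO ⊢
      have h : d' ∈ D ⊓ Oq X H q := ⟨hd', hgO⟩
      rw [hDO] at h; exact Subgroup.mem_bot.mp h
    have hcardT : Nat.card ↥(D ⊔ R) ∣ (Oq X H q).index := by
      have hb : (Oq X H q).subgroupOf (D ⊔ R) = ⊥ := by
        rw [Subgroup.subgroupOf_eq_bot, disjoint_iff, inf_comm]; exact hTO
      have h : (Oq X H q).relIndex (D ⊔ R) = Nat.card ↥(D ⊔ R) := by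
        unfold Subgroup.relIndex; rw [hb, Subgroup.index_bot]
      rw [← h]; exact Subgroup.relIndex_dvd_index_of_normal _ _
    have hmap : D.map (QuotientGroup.mk' N) ⊔ R.map (QuotientGroup.mk' N) =
        (D ⊔ R).map (QuotientGroup.mk' N) := (Subgroup.map_sup D R _).symm
    have hdvd : Nat.card ↥(D.map (QuotientGroup.mk' N) ⊔ R.map (QuotientGroup.mk' N)) ∣
        (Oq X H q).index := by
      rw [hmap]; exact (Subgroup.card_map_dvd (D ⊔ R) (QuotientGroup.mk' N)).trans hcardT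
    have hcop : Nat.Coprime (Oq X H q).index q :=
      Nat.Coprime.symm ((Nat.Prime.coprime_iff_not_dvd hq).mpr hqi)
    exact Nat.Coprime.coprime_dvd_left hdvd hcop
  -- (10)
  have hCR' : (H ⊓ Subgroup.centralizer (R : Set X)).map (QuotientGroup.mk' N) ≤
      Subgroup.centralizer ((R.map (QuotientGroup.mk' N) : Subgroup (X ⧸ N)) : Set (X ⧸ N)) := by
    rintro _ ⟨c, hc, rfl⟩
    rw [Subgroup.mem_centralizer_iff]
    rintro _ ⟨r, hr, rfl⟩
    have hcr : r * c = c * r := (Subgroup.mem_centralizer_iff.mp hc.2) r hr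
    rw [← map_mul, ← map_mul, hcr]
  have hVH : (Oq X H q).map (QuotientGroup.mk' N) ≤ H.map (QuotientGroup.mk' N) :=
    Subgroup.map_mono hOH
  have h11 : ∀ x ∈ R.map (QuotientGroup.mk' N), x ≠ 1 →
      (Oq X H q).map (QuotientGroup.mk' N) ⊓ Subgroup.centralizer ({x} : Set (X ⧸ N)) =
      (Oq X H q).map (QuotientGroup.mk' N) ⊓ Subgroup.centralizer
        ((R.map (QuotientGroup.mk' N) : Subgroup (X ⧸ N)) : Set (X ⧸ N)) := by
    intro x hx hx1
    apply le_antisymm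
    · intro v hv
      refine ⟨hv.1, hCR' ?_⟩
      rw [← hQ x hx hx1]
      exact ⟨hVH hv.1, hv.2⟩
    · exact inf_le_inf_left _ (Subgroup.centralizer_le (Set.singleton_subset_iff.mpr hx))
  -- (11)
  have h12 : IsCyclic ↥((Oq X H q).map (QuotientGroup.mk' N) ⊓ Subgroup.centralizer
        ((R.map (QuotientGroup.mk' N) : Subgroup (X ⧸ N)) : Set (X ⧸ N))) := by
    obtain ⟨x, hx, hx1⟩ : ∃ x ∈ R.map (QuotientGroup.mk' N), x ≠ 1 := by
      by_contra hcon
      push_neg at hcon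
      exact h6 ((Subgroup.eq_bot_iff_forall _).mpr hcon)
    have hle : (Oq X H q).map (QuotientGroup.mk' N) ⊓ Subgroup.centralizer
        ((R.map (QuotientGroup.mk' N) : Subgroup (X ⧸ N)) : Set (X ⧸ N)) ≤
        (H ⊓ Subgroup.centralizer (R : Set X)).map (QuotientGroup.mk' N) := by
      rw [← h11 x hx hx1, ← hQ x hx hx1]
      exact inf_le_inf_right _ hVH
    haveI : IsCyclic ↥(H ⊓ Subgroup.centralizer (R : Set X)) := isCyclic_of_prime_card hB.card
    haveI : IsCyclic ↥((H ⊓ Subgroup.centralizer (R : Set X)).map (QuotientGroup.mk' N)) :=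
      isCyclic_of_surjective
        ((QuotientGroup.mk' N).subgroupMap (H ⊓ Subgroup.centralizer (R : Set X)))
        ((QuotientGroup.mk' N).subgroupMap_surjective _)
    exact Subgroup.isCyclic_of_le hle
  -- (12)
  have hfin := hFM ((Oq X H q).map (QuotientGroup.mk' N)) (D.map (QuotientGroup.mk' N))
    (R.map (QuotientGroup.mk' N)) q h1 h2 h3 h4 h5 h6 h7 h8 h9 h10 h11 h12
  have hdK : (QuotientGroup.mk' N) d ∈
      ⁅D.map (QuotientGroup.mk' N), D.map (QuotientGroup.mk' N)⁆ := by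
    rw [← Subgroup.map_commutator]
    exact Subgroup.mem_map_of_mem _ hd
  have hcen := hfin hdK
  rw [Subgroup.mem_centralizer_iff] at hcen
  have hc := hcen ((QuotientGroup.mk' N) o) (Subgroup.mem_map_of_mem _ ho)
  rw [← hker]
  simp only [map_mul, map_inv]
  rw [← hc]; group

end Cfsg.Agent.Lib.Helper8.S56QUOT
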