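import Mathlib
import Cfsg.Prelude.Def_OddOrderLocal

set_option autoImplicit false

/-!
# S1382 / DNILP, pure core

A complement `D` of `M_F` in `M'` embeds into the image of `M'` in `M / M_F`; if that image is
nilpotent, so is `D`.
-/

namespace Cfsg.Agent.Lib.Helper8.S82DNILPcore

universe u

theorem map_commutator_subtype {G : Type u} [Group G] (M : Subgroup G) :
    (commutator ↥M).map M.subtype = ⁅M, M⁆ := by
  rw [commutator_def, Subgroup.map_commutator, ← MonoidHom.range_eq_map, Subgroup.range_subtype]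

theorem core {G : Type u} [Group G] [Finite G] (M D : Subgroup G)
    (hnil : Group.IsNilpotent
      ↥((commutator ↥M).map (QuotientGroup.mk' (Cfsg.fittingHall ↥M))))
    (hD : Cfsg.IsComplIn (Cfsg.fittingHallOf M) D ⁅M, M⁆) : Group.IsNilpotent ↥D := by
  obtain ⟨_, hDM', hint, _⟩ := hD
  have hM'M : ⁅M, M⁆ ≤ M := by
    rw [Subgroup.commutator_le]
    intro a ha b hb
    exact M.mul_mem (M.mul_mem (M.mul_mem ha hb) (M.inv_mem ha)) (M.inv_mem hb)
  have hDM : D ≤ M := hDM'.trans hM'M
  have hmem : ∀ d : ↥D, (QuotientGroup.mk' (Cfsg.fittingHall ↥M)) (Subgroup.inclusion hDM d) ∈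
      (commutator ↥M).map (QuotientGroup.mk' (Cfsg.fittingHall ↥M)) := by
    intro d
    apply Subgroup.mem_map_of_mem
    have h1 : (d : G) ∈ (commutator ↥M).map M.subtype := by
      rw [map_commutator_subtype]; exact hDM' d.2
    obtain ⟨x, hx, hxd⟩ := h1
    have h2 : x = Subgroup.inclusion hDM d := Subtype.ext hxd
    rw [← h2]; exact hx
  let χ : ↥D →* ↥((commutator ↥M).map (QuotientGroup.mk' (Cfsg.fittingHall ↥M))) :=
    MonoidHom.codRestrict ((QuotientGroup.mk' (Cfsg.fittingHall ↥M)).comp (Subgroup.inclusion hDM))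
      _ hmem
  have hinj : Function.Injective χ := by
    rw [injective_iff_map_eq_one]
    intro d hd
    have h1 : (QuotientGroup.mk' (Cfsg.fittingHall ↥M)) (Subgroup.inclusion hDM d) = 1 :=
      congrArg Subtype.val hd
    have h2 : Subgroup.inclusion hDM d ∈ Cfsg.fittingHall ↥M := (QuotientGroup.eq_one_iff _).mp h1
    have h3 : (d : G) ∈ Cfsg.fittingHallOf M := by
      have h4 := Subgroup.mem_map_of_mem M.subtype h2
      exact h4
    have h5 : (d : G) ∈ Cfsg.fittingHallOf M ⊓ D := ⟨h3, d.2⟩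
    rw [hint] at h5
    exact Subtype.ext (Subgroup.mem_bot.mp h5)
  haveI := hnil
  exact Group.nilpotent_of_mulEquiv (MonoidHom.ofInjective hinj).symm

end Cfsg.Agent.Lib.Helper8.S82DNILPcore
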