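import Mathlib
import Cfsg.Agent.Lib.Helper44.TSStmt
import Cfsg.Agent.Lib.Helper44.ReflProd
import Cfsg.Agent.Lib.Helper44.QBasis
import Cfsg.Agent.Lib.Helper44.SymO2
import Cfsg.Agent.Lib.Helper44.OMat
import Cfsg.Agent.Lib.Helper44.NegPairs
import Cfsg.Agent.Lib.Helper44.FinSq
import Cfsg.Agent.Lib.Helper8.HypHYPSUB

/-!
# S5972 / SPININV: for `q ≡ 1 (mod 4)` the `-1`-eigenspace of an involution of `Ω` is of plus
type (it contains a totally singular subspace of half its dimension)
-/

set_option autoImplicit false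

namespace Cfsg.Agent.Lib.Helper8.TSSPININV

open Module QuadraticMap Matrix
open Cfsg.Agent.Lib.Helper44.QSpace Cfsg.Agent.Lib.Helper44.OGroup
open Cfsg.Agent.Lib.Helper44.NegPairs Cfsg.Agent.Lib.Helper44.CartanD
open Cfsg.Agent.Lib.Helper44.ReflProd Cfsg.Agent.Lib.Helper44.QClass
open Cfsg.Agent.Lib.Helper44.QBasis
open Cfsg.Agent.Lib.Helper44.WittND Cfsg.Agent.Lib.Helper44.WittND2
open Cfsg.Agent.Lib.Helper37.HypStmt Cfsg.Agent.Lib.Helper37.HypStmt2
open Cfsg.Agent.Lib.Helper44.TSStmt
open Cfsg.Agent.Lib.Helper8.HypHYPSUB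

universe u

section gen

variable {F : Type*} [Field F] {V : Type u} [AddCommGroup V] [Module F V]

/-- The reflection vectors `e_j ± f_j` of a hyperbolic system are pairwise orthogonal. -/
theorem pairList_pairwise {κ : Type*} [DecidableEq κ] {Q : QuadraticForm F V} (e f : κ → V)
    (hef : ∀ j l, polar Q (e j) (f l) = if j = l then 1 else 0)
    (hee : ∀ j l, polar Q (e j) (e l) = 0) (hff : ∀ j l, polar Q (f j) (f l) = 0)
    (js : List κ) (hnd : js.Nodup) :
    (pairList e f js).Pairwise (fun v w => polar Q v w = 0) := by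
  have hfe : ∀ j l, polar Q (f j) (e l) = if j = l then 1 else 0 := fun j l => by
    rw [polar_comm, hef l j]
    simp [eq_comm]
  induction js with
  | nil => simp [pairList]
  | cons j js ih =>
    rw [List.nodup_cons] at hnd
    have hmem : ∀ u ∈ pairList e f js, ∃ l, l ≠ j ∧ (u = e l + f l ∨ u = e l - f l) := by
      intro u hu
      obtain ⟨l, hl, hu'⟩ := List.mem_flatMap.mp hu
      refine ⟨l, fun h => hnd.1 (h ▸ hl), ?_⟩
      simpa using hu'
    rw [pairList_cons, List.pairwise_cons, List.pairwise_cons]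
    refine ⟨?_, ?_, ih hnd.2⟩
    · intro u hu
      rcases List.mem_cons.mp hu with rfl | hu'
      · rw [polar_add_left, polar_sub_right, polar_sub_right, hee, hef, hfe, hff]
        simp
      · obtain ⟨l, hl, rfl | rfl⟩ := hmem u hu'
        · rw [polar_add_left, polar_add_right, polar_add_right, hee, hef, hfe, hff,
            if_neg (Ne.symm hl)]
          simp
        · rw [polar_add_left, polar_sub_right, polar_sub_right, hee, hef, hfe, hff,
            if_neg (Ne.symm hl)]
          simp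
    · intro u hu
      obtain ⟨l, hl, rfl | rfl⟩ := hmem u hu
      · rw [polar_sub_left, polar_add_right, polar_add_right, hee, hef, hfe, hff,
          if_neg (Ne.symm hl)]
        simp
      · rw [polar_sub_left, polar_sub_right, polar_sub_right, hee, hef, hfe, hff,
          if_neg (Ne.symm hl)]
        simp

end gen

theorem main (hInvDec : InvDec.{u}) (hInvPar : InvPar.{u}) : SpinInv.{u} := by
  intro F _ _ hodd hq4 d hd x hx hx2
  classical
  have h2 : (2 : F) ≠ 0 := Cfsg.Agent.Lib.Helper44.FinSq.two_ne_zero_of_odd_card hodd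
  obtain ⟨h, hh⟩ : ∃ h : F, 2 * h = 1 := ⟨2⁻¹, mul_inv_cancel₀ h2⟩
  have hx' := hx
  obtain ⟨g, hgΩ, hgx⟩ := hx'
  have hxiso : x ∈ Cfsg.isometryGroup F (Cfsg.quadFormOdd d F) := by
    rw [← hgx]
    exact g.2
  obtain ⟨hFxnd, hFmnd, hperp, hdisj, hdimsum⟩ := hInvDec F hodd d x hxiso hx2
  have heven := hInvPar F hodd d x hx hx2
  obtain ⟨Xm, hXm⟩ : ∃ Xm : Matrix (I d) (I d) F, Xm = (x : Matrix (I d) (I d) F) := ⟨_, rfl⟩
  rw [← hXm] at hFxnd hFmnd hperp hdisj hdimsum heven ⊢
  have hXX : Xm * Xm = 1 := by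
    rw [hXm, ← Units.val_mul, ← pow_two, hx2]
    rfl
  have hSN : Sep (res (oddQ d F) (Fm Xm)) := sep_res_of_ndsub (ndsub_of_ndeg hFmnd)
  obtain ⟨c, hc⟩ := heven
  rcases Nat.eq_zero_or_pos c with hc0 | hcpos
  · refine ⟨⊥, bot_le, ?_, ?_⟩
    · intro w hw
      rw [(Submodule.mem_bot F).mp hw]
      show oddQ d F 0 = 0
      exact map_zero _
    · have h0 := finrank_bot (R := F) (M := I d → F)
      omega
  obtain ⟨m, rfl⟩ : ∃ m, c = m + 1 := ⟨c - 1, by omega⟩
  have hfin : finrank F (Fm Xm) = 2 * (m + 1) := by omega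
  rcases exists_hyp_even m (Fm Xm) (res (oddQ d F) (Fm Xm)) hfin hSN with
    ⟨e, f, hH⟩ | ⟨e, f, x₀, y₀, ζ, hH, hE, hO⟩
  · obtain ⟨Ψ, hΨ⟩ := Cfsg.Agent.Lib.Helper44.SymO2.exists_iso_plus
      (res (oddQ d F) (Fm Xm)) hH hfin
    have hinj2 : Function.Injective
        ((Fm Xm).subtype ∘ₗ Ψ.symm.toLinearMap ∘ₗ inlMap (m + 1)) := by
      rw [LinearMap.coe_comp, LinearMap.coe_comp]
      exact ((Fm Xm).subtype_injective.comp Ψ.symm.injective).comp (inlMap_inj (m + 1))
    refine ⟨LinearMap.range ((Fm Xm).subtype ∘ₗ Ψ.symm.toLinearMap ∘ₗ inlMap (m + 1)),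
      ?_, ?_, ?_⟩
    · rintro _ ⟨a, rfl⟩
      exact (Ψ.symm (inlMap (m + 1) a)).2
    · rintro _ ⟨a, rfl⟩
      have h5 := hΨ (Ψ.symm (inlMap (m + 1) a))
      rw [LinearEquiv.apply_symm_apply, plusQ_inlMap, res_apply] at h5
      exact h5.symm
    · rw [LinearMap.finrank_range_of_inj hinj2, Module.finrank_fintype_fun_eq_card,
        Fintype.card_fin, hfin]
  · exfalso
    obtain ⟨QN, hQN⟩ : ∃ QN : QuadraticForm F (Fm Xm), QN = res (oddQ d F) (Fm Xm) := ⟨_, rfl⟩
    rw [← hQN] at hH hE hO hSN
    have hH' := hH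
    have hE' := hE
    obtain ⟨h1, h2', h3, h4, h5⟩ := hH
    obtain ⟨hEx, hExy, hEy, hζ⟩ := hE
    obtain ⟨y₁, hy₁⟩ : ∃ y₁ : Fm Xm, y₁ = y₀ + (-h) • x₀ := ⟨_, rfl⟩
    have hyx : polar QN y₀ x₀ = 1 := by rw [polar_comm]; exact hExy
    have hQy₁ : QN y₁ = ζ - h * h := by
      rw [hy₁, q_add, q_smul, polar_smul_r, hEx, hEy, hyx]
      linear_combination h * hh
    have hxy₁ : polar QN x₀ y₁ = 0 := by
      rw [hy₁, polar_add_right, polar_smul_r, polar_self', hEx, hExy]
      linear_combination -hh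
    have hQy₁0 : QN y₁ ≠ 0 := by
      rw [hQy₁]
      intro h0
      exact hζ (-h) (by linear_combination h0 + h * hh)
    have hef1 : ∀ j, polar QN (e j) (f j) = 1 := fun j => by rw [h3, if_pos rfl]
    obtain ⟨hp1, hp2, hp3⟩ := pairList_props e f h1 h2' hef1 (List.finRange m)
    obtain ⟨ws, hwsdef⟩ : ∃ ws : List (Fm Xm),
        ws = pairList e f (List.finRange m) ++ [x₀, y₁] := ⟨_, rfl⟩
    have hws : ∀ w ∈ ws, QN w ≠ 0 := by
      intro w hw
      rw [hwsdef] at hw
      rcases List.mem_append.mp hw with hw1 | hw1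
      · exact hp1 w hw1
      · simp only [List.mem_cons, List.not_mem_nil, or_false] at hw1
        rcases hw1 with rfl | rfl
        · rw [hEx]; exact one_ne_zero
        · exact hQy₁0
    have hpw : ws.Pairwise (fun v w => polar QN v w = 0) := by
      rw [hwsdef, List.pairwise_append]
      refine ⟨pairList_pairwise e f h3 h4 h5 _ (List.nodup_finRange m), ?_, ?_⟩
      · rw [List.pairwise_cons]
        refine ⟨?_, List.pairwise_singleton _ _⟩
        intro u hu
        rw [List.mem_singleton] at hu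
        rw [hu]
        exact hxy₁
      · intro a ha b hb
        obtain ⟨l, hl, ha'⟩ := List.mem_flatMap.mp ha
        have hb' : b = x₀ ∨ b = y₁ := by simpa using hb
        have ha'' : a = e l + f l ∨ a = e l - f l := by simpa using ha'
        obtain ⟨o1, o2, o3, o4⟩ := hO l
        have o5 : polar QN (e l) y₁ = 0 := by
          rw [hy₁, polar_add_right, polar_smul_r, o1, o2]
          ring
        have o6 : polar QN (f l) y₁ = 0 := by
          rw [hy₁, polar_add_right, polar_smul_r, o3, o4]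
          ring
        rcases ha'' with rfl | rfl <;> rcases hb' with rfl | rfl
        · rw [polar_add_left, o1, o3, add_zero]
        · rw [polar_add_left, o5, o6, add_zero]
        · rw [polar_sub_left, o1, o3, sub_zero]
        · rw [polar_sub_left, o5, o6, sub_zero]
    have her : ∀ (i : Fin m) (t : Fin 2), polar QN (e i) (![x₀, y₀] t) = 0 := by
      intro i t
      fin_cases t
      · exact (hO i).1
      · exact (hO i).2.1
    have hfr : ∀ (i : Fin m) (t : Fin 2), polar QN (f i) (![x₀, y₀] t) = 0 := by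
      intro i t
      fin_cases t
      · exact (hO i).2.2.1
      · exact (hO i).2.2.2
    obtain ⟨b, hb⟩ := exists_hyp_basis hH' ![x₀, y₀] (linearIndependent_ell hE') her hfr
      (by rw [Fintype.card_fin, hfin]; ring)
    have hPneg : ∀ w ∈ ws, (ws.map (reflE QN)).prod w = -w :=
      fun w hw => prod_reflE_neg QN ws hws hpw w hw
    have mx₀ : x₀ ∈ ws := by
      rw [hwsdef]
      exact List.mem_append_right _ (by simp)
    have my₁ : y₁ ∈ ws := by
      rw [hwsdef]
      exact List.mem_append_right _ (by simp)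
    have mp : ∀ j : Fin m, e j + f j ∈ ws := by
      intro j
      rw [hwsdef]
      exact List.mem_append_left _ (List.mem_flatMap.mpr ⟨j, List.mem_finRange j, by simp⟩)
    have mm : ∀ j : Fin m, e j - f j ∈ ws := by
      intro j
      rw [hwsdef]
      exact List.mem_append_left _ (List.mem_flatMap.mpr ⟨j, List.mem_finRange j, by simp⟩)
    have hlin : (((ws.map (reflE QN)).prod : (Fm Xm) ≃ₗ[F] (Fm Xm)) : (Fm Xm) →ₗ[F] (Fm Xm))
        = -LinearMap.id := by
      apply b.ext
      intro i
      show (ws.map (reflE QN)).prod (b i) = -(b i)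
      rw [hb]
      rcases i with (j | j) | t
      · show (ws.map (reflE QN)).prod (e j) = -(e j)
        have hdec : e j = h • ((e j + f j) + (e j - f j)) := by
          have h6 : (e j + f j) + (e j - f j) = (2 : F) • e j := by rw [two_smul]; abel
          rw [h6, smul_smul, mul_comm, hh, one_smul]
        have h7 : (ws.map (reflE QN)).prod (h • ((e j + f j) + (e j - f j)))
            = -(h • ((e j + f j) + (e j - f j))) := by
          rw [map_smul, map_add, hPneg _ (mp j), hPneg _ (mm j), ← neg_add, smul_neg]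
        rw [← hdec] at h7
        exact h7
      · show (ws.map (reflE QN)).prod (f j) = -(f j)
        have hdec : f j = h • ((e j + f j) - (e j - f j)) := by
          have h6 : (e j + f j) - (e j - f j) = (2 : F) • f j := by rw [two_smul]; abel
          rw [h6, smul_smul, mul_comm, hh, one_smul]
        have h7 : (ws.map (reflE QN)).prod (h • ((e j + f j) - (e j - f j)))
            = -(h • ((e j + f j) - (e j - f j))) := by
          rw [map_smul, map_sub, hPneg _ (mp j), hPneg _ (mm j), ← neg_sub', smul_neg]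
        rw [← hdec] at h7
        exact h7
      · fin_cases t
        · exact hPneg x₀ mx₀
        · show (ws.map (reflE QN)).prod y₀ = -y₀
          have hdec : y₀ = y₁ + h • x₀ := by
            rw [hy₁, add_assoc, ← add_smul, neg_add_cancel, zero_smul, add_zero]
          have h7 : (ws.map (reflE QN)).prod (y₁ + h • x₀) = -(y₁ + h • x₀) := by
            rw [map_add, map_smul, hPneg _ my₁, hPneg _ mx₀, neg_add, smul_neg]
          rw [← hdec] at h7
          exact h7
    have hneg : ∀ n : Fm Xm, (ws.map (reflE QN)).prod n = -n := by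
      intro n
      have h8 := congrArg (fun L : (Fm Xm) →ₗ[F] (Fm Xm) => L n) hlin
      exact h8
    obtain ⟨vs, hvsdef⟩ : ∃ vs : List (I d → F),
        vs = ws.map (fun w : ↥(Fm Xm) => (w : I d → F)) := ⟨_, rfl⟩
    have hmapmap : vs.map (reflE (oddQ d F))
        = ws.map (fun w : Fm Xm => reflE (oddQ d F) (w : I d → F)) := by
      rw [hvsdef, List.map_map]
      rfl
    have hPN : ∀ n : Fm Xm, (vs.map (reflE (oddQ d F))).prod (n : I d → F)
        = -(n : I d → F) := by
      intro n
      rw [hmapmap, prod_reflE_res, ← hQN, hneg]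
      rfl
    have hPfix : ∀ u ∈ Fx Xm, (vs.map (reflE (oddQ d F))).prod u = u := by
      intro u hu
      apply prod_reflE_fix
      intro v hv
      rw [hvsdef] at hv
      obtain ⟨w, _, rfl⟩ := List.mem_map.mp hv
      exact hperp u hu w w.2
    have hvsQ : ∀ v ∈ vs, oddQ d F v ≠ 0 := by
      intro v hv
      rw [hvsdef] at hv
      obtain ⟨w, hw, rfl⟩ := List.mem_map.mp hv
      have h9 := hws w hw
      rw [hQN, res_apply] at h9
      exact h9
    have hg : ∀ v, ((g : GL (I d) F) : Matrix (I d) (I d) F) *ᵥ v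
        = (vs.map (reflE (oddQ d F))).prod v := by
      intro v
      have hgX : ((g : GL (I d) F) : Matrix (I d) (I d) F) = Xm := by
        rw [hXm, ← hgx]
        rfl
      rw [hgX]
      obtain ⟨vp, hvp⟩ : ∃ vp, vp = h • (v + Xm *ᵥ v) := ⟨_, rfl⟩
      obtain ⟨vm, hvm⟩ : ∃ vm, vm = h • (v - Xm *ᵥ v) := ⟨_, rfl⟩
      have hXXv : Xm *ᵥ (Xm *ᵥ v) = v := by
        rw [Matrix.mulVec_mulVec, hXX, Matrix.one_mulVec]
      have hvpF : vp ∈ Fx Xm := by
        rw [mem_Fx, hvp, Matrix.mulVec_smul, Matrix.mulVec_add, hXXv, add_comm]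
      have hXvm : Xm *ᵥ vm = -vm := by
        rw [hvm, Matrix.mulVec_smul, Matrix.mulVec_sub, hXXv, ← smul_neg, neg_sub]
      have hvmF : vm ∈ Fm Xm := by
        have h12 : vm ∈ LinearMap.ker (Matrix.toLin' Xm + LinearMap.id) := by
          rw [LinearMap.mem_ker, LinearMap.add_apply, Matrix.toLin'_apply, LinearMap.id_apply,
            hXvm, neg_add_cancel]
        exact h12
      have hsum : v = vp + vm := by
        rw [hvp, hvm, ← smul_add]
        have h6 : v + Xm *ᵥ v + (v - Xm *ᵥ v) = (2 : F) • v := by rw [two_smul]; abel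
        rw [h6, smul_smul, mul_comm, hh, one_smul]
      have hXvp : Xm *ᵥ vp = vp := (mem_Fx Xm vp).mp hvpF
      have h10 : Xm *ᵥ (vp + vm) = (vs.map (reflE (oddQ d F))).prod (vp + vm) := by
        rw [Matrix.mulVec_add, hXvp, hXvm, map_add, hPfix vp hvpF, hPN ⟨vm, hvmF⟩]
      rw [← hsum] at h10
      exact h10
    have hS : Sep (oddQ d F) := sep_oddQ h2 d
    have hn : 2 ≤ Fintype.card (I d) := by
      simp only [Fintype.card_sum, Fintype.card_fin, Fintype.card_unit]
      omega
    have hcrit := (Cfsg.Agent.Lib.Helper44.OMat.mem_omega_iff_of_mulVec h2 (oddQ d F) hS hn g vs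
      hvsQ hg).mp hgΩ
    obtain ⟨-, s, hs⟩ := hcrit
    have hprod : (vs.map (fun v => oddQ d F v)).prod = (-1) ^ m * (ζ - h * h) := by
      rw [hvsdef, List.map_map]
      have h11 : ((fun v => oddQ d F v) ∘ fun w : ↥(Fm Xm) => (w : I d → F))
          = fun w => QN w := by
        rw [hQN]
        rfl
      rw [h11, hwsdef, List.map_append, List.prod_append, hp3, List.length_finRange]
      simp only [List.map_cons, List.map_nil, List.prod_cons, List.prod_nil, mul_one, hEx, hQy₁,
        one_mul]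
    rw [hprod] at hs
    have hm1 : IsSquare (-1 : F) := FiniteField.isSquare_neg_one_iff.mpr (by omega)
    obtain ⟨ι, hι⟩ := hm1
    obtain ⟨w, hw⟩ : ∃ w : F, w = ι ^ m * s := ⟨_, rfl⟩
    have e1 : (ι * ι) ^ m = (-1 : F) ^ m := by rw [← hι]
    have e2 : ((-1 : F) ^ m) * ((-1) ^ m) = 1 := by
      rw [← mul_pow]
      simp
    have hw2 : w * w = ζ - h * h := by
      calc w * w = (ι * ι) ^ m * (s * s) := by rw [hw]; ring
        _ = (-1) ^ m * ((-1) ^ m * (ζ - h * h)) := by rw [e1, ← hs]
        _ = ζ - h * h := by rw [← mul_assoc, e2, one_mul]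
    exact hζ (ι * w - h) (by
      linear_combination (-(w * w)) * hι + (-1 : F) * hw2 + (h - ι * w) * hh)

end Cfsg.Agent.Lib.Helper8.TSSPININV
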